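import Mathlib.GroupTheory.QuotientGroup.Basic
import Cfsg.Agent.S0815

/-!
# A group with a normal section `U₆(2)` of index six and trivial centraliser
-/

set_option autoImplicit false

open Cfsg Subgroup

namespace Cfsg.Agent.Fi23Two

variable {G : Type*} [Group G] [Finite G]

/-- `G ⧸ W` is the automorphism group of `U₆(2)`. -/
theorem quot_aut {K : Type*} [Field K] [Fintype K] (hK : Fintype.card K = 4)
    (W L : Subgroup G) [W.Normal] [L.Normal] (hWL : W ≤ L) (hidx : L.index = 6)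
    (hL : ∃ hn : (W.subgroupOf L).Normal, Nonempty ((↥L ⧸ W.subgroupOf L) ≃* Cfsg.PSU 6 K 2))
    (hcent : ∀ g : G, (∀ l ∈ L, g * l * g⁻¹ * l⁻¹ ∈ W) → g ∈ W) :
    Nonempty ((G ⧸ W) ≃* MulAut (Cfsg.PSU 6 K 2)) := by
  obtain ⟨hn, ⟨i⟩⟩ := hL
  set q := QuotientGroup.mk' W with hq
  set L' := L.map q with hL'
  haveI : L'.Normal := (inferInstance : L.Normal).map q (QuotientGroup.mk'_surjective W)
  let φ : ↥L →* ↥L' := q.subgroupMap L
  have hφ : Function.Surjective φ := q.subgroupMap_surjective L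
  have hk : φ.ker = W.subgroupOf L := by
    ext l
    rw [MonoidHom.mem_ker, mem_subgroupOf, Subtype.ext_iff]
    exact QuotientGroup.eq_one_iff _
  let j : ↥L' ≃* Cfsg.PSU 6 K 2 :=
    ((QuotientGroup.quotientKerEquivOfSurjective φ hφ).symm.trans
      (QuotientGroup.quotientMulEquivOfEq hk)).trans i
  let f : G ⧸ W →* MulAut ↥L' := MulAut.conjNormal
  have hf : Function.Injective f := by
    rw [← MonoidHom.ker_eq_bot_iff, eq_bot_iff]
    intro x hx
    obtain ⟨g, rfl⟩ := QuotientGroup.mk'_surjective W x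
    rw [mem_bot, QuotientGroup.mk'_apply, QuotientGroup.eq_one_iff]
    refine hcent g fun l hl => ?_
    have h1 := congrArg Subtype.val (DFunLike.congr_fun (MonoidHom.mem_ker.1 hx) (φ ⟨l, hl⟩))
    simp only [f, MulAut.conjNormal_apply, MulAut.one_apply] at h1
    have h2 : q (g * l * g⁻¹ * l⁻¹) = 1 := by
      simp only [map_mul, map_inv]
      exact mul_inv_eq_one.2 h1
    exact (QuotientGroup.eq_one_iff _).1 h2
  haveI : Fact (Nat.Prime 2) := ⟨Nat.prime_two⟩
  have hA : Nat.card (MulAut (Cfsg.PSU 6 K 2)) = 6 * Nat.card (Cfsg.PSU 6 K 2) := by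
    rw [Cfsg.Agent.S0815.result 2 1 le_rfl (q := 2) (by norm_num) (by rw [hK]; norm_num) 6
      (by norm_num) (by norm_num)]
    norm_num
  have hG : Nat.card (G ⧸ W) = 6 * Nat.card ↥L' := by
    rw [← L'.index_mul_card, hL', Subgroup.index_map_eq L (QuotientGroup.mk'_surjective W)
      (by rw [QuotientGroup.ker_mk']; exact hWL), hidx]
  haveI : Finite (MulAut ↥L') := Finite.of_injective (fun e : MulAut ↥L' => (e : ↥L' → ↥L'))
    DFunLike.coe_injective
  have hbij : Function.Bijective f := (Nat.bijective_iff_injective_and_card f).2 ⟨hf, by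
    rw [hG, Nat.card_congr j.toEquiv, Nat.card_congr (MulAut.congr j).toEquiv, hA]⟩
  exact ⟨(MulEquiv.ofBijective f hbij).trans (MulAut.congr j)⟩

end Cfsg.Agent.Fi23Two
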