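import Cfsg.Agent.Fi23Two.Common
import Cfsg.Agent.Fi22Two.Basic
import Mathlib.GroupTheory.Perm.Fin
import Mathlib.GroupTheory.GroupAction.Quotient

/-!
# First consequences: fusion of the centre, Sylow subgroups, conjugates in `oc z`
-/

set_option autoImplicit false
set_option linter.unusedSectionVars false

open Cfsg Subgroup

namespace Cfsg.Agent.Fi23Two

open Cfsg.Agent.LargeExtra
open Cfsg.Agent.Fi22Two (IsoIn cza mem_cz oc_conj_back oc_le_sylow mem_cz_of_conj_eq)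

variable {G : Type*} [Group G] [Finite G] {z a b : G}

theorem card_eight [DecidableEq G] (x₁ x₂ x₃ x₄ x₅ x₆ x₇ x₈ : G) :
    ({x₁, x₂, x₃, x₄, x₅, x₆, x₇, x₈} : Finset G).card ≤ 8 := by
  iterate 7 refine (Finset.card_insert_le _ _).trans (Nat.succ_le_succ ?_)
  exact (Finset.card_singleton _).le

theorem Hyp3.conj_z (_h : Hyp3 z a b) {k : G} (hk : k ∈ centralizer ({z} : Set G)) :
    k * z * k⁻¹ = z := mul_inv_eq_iff_eq_mul.2 (mem_cz.1 hk).eq

theorem Hyp3.z_inv (h : Hyp3 z a b) : z⁻¹ = z := inv_eq_of_mul_eq_one_right h.zz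

theorem Hyp3.InW.mem (h : Hyp3 z a b) {u : G} (hu : InW a b u) :
    u ∈ oc z ∧ (∀ y ∈ oc z, Commute u y) ∧ u * u = 1 := by
  have hm : u ∈ oc z := by
    rcases hu with rfl | rfl | rfl | rfl
    exacts [one_mem _, h.a_mem, h.b_mem, mul_mem h.a_mem h.b_mem]
  refine ⟨hm, (h.centre u hm).2 (Or.inl hu), ?_⟩
  rcases hu with rfl | rfl | rfl | rfl
  exacts [one_mul 1, h.aa, h.bb, by rw [h.comm_ab.symm.mul_mul_mul_comm, h.aa, h.bb, one_mul]]

theorem Hyp3.InZ.cases (h : Hyp3 z a b) {u : G} (hu : InZ z a b u) :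
    ∃ w, InW a b w ∧ (u = w ∨ u = w * z) := by
  rcases hu with hu | hu
  · exact ⟨u, hu, Or.inl rfl⟩
  · exact ⟨u * z, hu, Or.inr (by rw [mul_assoc, h.zz, mul_one])⟩

theorem Hyp3.InZ.mem (h : Hyp3 z a b) {u : G} (hu : InZ z a b u) :
    u ∈ oc z ∧ (∀ y ∈ oc z, Commute u y) ∧ u * u = 1 := by
  obtain ⟨w, hw, e⟩ := Hyp3.InZ.cases h hu
  obtain ⟨h1, h2, h3⟩ := Hyp3.InW.mem h hw
  have hm : u ∈ oc z := by
    rcases e with e | e <;> rw [e]
    exacts [h1, mul_mem h1 h.z_mem]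
  refine ⟨hm, (h.centre u hm).2 hu, ?_⟩
  rcases e with rfl | rfl
  · exact h3
  · rw [(h.comm_z h1).symm.mul_mul_mul_comm, h3, h.zz, one_mul]

theorem Hyp3.inZ_z (h : Hyp3 z a b) : InZ z a b z := Or.inr (Or.inl h.zz)

/-- An element of the centraliser of `oc z`. -/
theorem Hyp3.central_cases (h : Hyp3 z a b) {x : G} (hx : ∀ y ∈ oc z, Commute x y) :
    InZ z a b x := by
  refine (h.centre x (h.cent ?_)).1 hx
  rw [mem_centralizer_iff]
  exact fun y hy => (hx y hy).symm.eq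

theorem Hyp3.exists_comm_eq_z (h : Hyp3 z a b) :
    ∃ x ∈ oc z, ∃ y ∈ oc z, x * y * x⁻¹ * y⁻¹ = z := by
  classical
  by_contra hc
  push Not at hc
  have hall : ((oc z : Subgroup G) : Set G) ⊆
      ↑({1, a, b, a * b, z, a * z, b * z, a * b * z} : Finset G) := fun x hx => by
    have hz := (h.centre x hx).1 fun y hy => by
      rcases h.comm x hx y hy with e | e
      · exact mul_inv_eq_iff_eq_mul.1 (mul_inv_eq_one.1 e)
      · exact absurd e (hc x hx y hy)
    obtain ⟨w, hw, e⟩ := Hyp3.InZ.cases h hz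
    rcases hw with rfl | rfl | rfl | rfl <;> rcases e with rfl | rfl <;> simp
  have h4 := Set.ncard_le_ncard hall
  have h5 : ((oc z : Subgroup G) : Set G).ncard = 2048 := by
    rw [← Nat.card_coe_set_eq]; exact h.card
  rw [Set.ncard_coe_finset, h5] at h4
  have h8 : ({1, a, b, a * b, z, a * z, b * z, a * b * z} : Finset G).card ≤ 8 := card_eight _ _ _ _ _ _ _ _
  omega

/-- An abelian subgroup of index two in `oc z` does not exist. -/
theorem Hyp3.not_abelian (h : Hyp3 z a b) {K : Subgroup G} (hK : K ≤ oc z)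
    (hidx : ∀ x ∈ oc z, ∀ y ∈ oc z, x ∉ K → y ∉ K → x⁻¹ * y ∈ K)
    (hab : ∀ x ∈ K, ∀ y ∈ K, Commute x y) : False := by
  classical
  obtain ⟨x₀, hx₀, y₀, hy₀, e₀⟩ := h.exists_comm_eq_z
  obtain ⟨x, hx, hxK⟩ : ∃ x ∈ oc z, x ∉ K := by
    by_contra hall
    push Not at hall
    rw [(hab _ (hall x₀ hx₀) _ (hall y₀ hy₀)).eq, mul_inv_cancel_right, mul_inv_cancel] at e₀
    exact h.z_ne_one e₀.symm
  set F : Finset G := {1, a, b, a * b, z, a * z, b * z, a * b * z} with hF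
  have hcen : ∀ k ∈ K, Commute x k → k ∈ F := by
    intro k hk hxk
    have hz := (h.centre k (hK hk)).1 fun y hy => by
      by_cases hyK : y ∈ K
      · exact hab k hk y hyK
      · have h1 := hxk.symm.mul_right (hab k hk _ (hidx x hx y hy hxK hyK))
        rwa [mul_inv_cancel_left] at h1
    obtain ⟨w, hw, e⟩ := Hyp3.InZ.cases h hz
    rcases hw with rfl | rfl | rfl | rfl <;> rcases e with rfl | rfl <;> simp [hF]
  obtain ⟨k₀, hk₀⟩ : ∃ k₀, ∀ k ∈ K, k ∈ F ∨ k₀⁻¹ * k ∈ F := by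
    by_cases hall : ∀ k ∈ K, Commute x k
    · exact ⟨1, fun k hk => Or.inl (hcen k hk (hall k hk))⟩
    push Not at hall
    obtain ⟨k₀, hk, hne⟩ := hall
    have hz' : ∀ p ∈ K, ¬ Commute x p → x * p * x⁻¹ = z * p := fun p hp hn => by
      rcases h.comm x hx p (hK hp) with e | e
      · exact absurd (mul_inv_eq_iff_eq_mul.1 (mul_inv_eq_one.1 e)) hn
      · exact mul_inv_eq_iff_eq_mul.1 e
    refine ⟨k₀, fun k hk' => ?_⟩
    by_cases hc : Commute x k
    · exact Or.inl (hcen k hk' hc)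
    · refine Or.inr (hcen _ (mul_mem (inv_mem hk) hk') ?_)
      refine mul_inv_eq_iff_eq_mul.1 ?_
      rw [show x * (k₀⁻¹ * k) * x⁻¹ = (x * k₀ * x⁻¹)⁻¹ * (x * k * x⁻¹) by group,
        hz' k₀ hk hne, hz' k hk' hc]
      group
  have hall : ((oc z : Subgroup G) : Set G) ⊆
      ↑((F ∪ F.image (k₀ * ·)) ∪ (F ∪ F.image (k₀ * ·)).image (x * ·)) := by
    intro j hj
    have hkey : ∀ k ∈ K, k ∈ F ∪ F.image (k₀ * ·) := fun k hk => by
      rcases hk₀ k hk with h1 | h1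
      · exact Finset.mem_union_left _ h1
      · exact Finset.mem_union_right _ (Finset.mem_image.2 ⟨_, h1, mul_inv_cancel_left _ _⟩)
    by_cases hjK : j ∈ K
    · exact Finset.mem_union_left _ (hkey j hjK)
    · exact Finset.mem_union_right _
        (Finset.mem_image.2 ⟨_, hkey _ (hidx x hx j hj hxK hjK), mul_inv_cancel_left _ _⟩)
  have h4 := Set.ncard_le_ncard hall
  have h5 : ((oc z : Subgroup G) : Set G).ncard = 2048 := by
    rw [← Nat.card_coe_set_eq]; exact h.card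
  rw [Set.ncard_coe_finset, h5] at h4
  have h8 : F.card ≤ 8 := card_eight _ _ _ _ _ _ _ _
  have h16 : (F ∪ F.image (k₀ * ·)).card ≤ 16 := by
    refine (Finset.card_union_le _ _).trans ?_
    have := Finset.card_image_le (s := F) (f := (k₀ * ·))
    omega
  have h32 := Finset.card_union_le (F ∪ F.image (k₀ * ·))
    ((F ∪ F.image (k₀ * ·)).image (x * ·))
  have := Finset.card_image_le (s := F ∪ F.image (k₀ * ·)) (f := (x * ·))
  omega

theorem Hyp3.permW (h : Hyp3 z a b) {k u : G} (hk : k ∈ centralizer ({z} : Set G))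
    (hu : InW a b u) : InW a b (k * u * k⁻¹) := ((mem_nrm.1 (h.stab hk)) u).1 hu

theorem InW.ne_one_cases {u : G} (hu : InW a b u) (hu1 : u ≠ 1) : u = a ∨ u = b ∨ u = a * b :=
  hu.resolve_left hu1

theorem Hyp3.distinct (h : Hyp3 z a b) : a ≠ b ∧ a ≠ a * b ∧ b ≠ a * b :=
  ⟨h.ab_ne, fun e => h.b_ne (mul_eq_left.1 e.symm), fun e => h.a_ne (mul_eq_right.1 e.symm)⟩

/-- Every involution of the four-group is conjugate to `a` under `C z`. -/
theorem Hyp3.to_u (h : Hyp3 z a b) {u : G} (hu : InW a b u) (hu1 : u ≠ 1) :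
    ∃ k ∈ centralizer ({z} : Set G), k * a * k⁻¹ = u := by
  rcases InW.ne_one_cases hu hu1 with rfl | hu
  · exact ⟨1, one_mem _, by simp⟩
  · exact h.trans u hu

theorem Hyp3.index_cza (h : Hyp3 z a b) :
    ((cza z a).subgroupOf (centralizer ({z} : Set G))).index = 3 := by
  classical
  rw [Subgroup.index, Nat.card_congr (show
    (↥(centralizer ({z} : Set G)) ⧸ (cza z a).subgroupOf (centralizer ({z} : Set G))) ≃
      ↥({a, b, a * b} : Set G) from ?_)]
  · rw [Nat.card_coe_set_eq]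
    obtain ⟨d1, d2, d3⟩ := h.distinct
    rw [Set.ncard_insert_of_notMem (by simp [d1, d2]), Set.ncard_pair d3]
  refine Equiv.ofBijective (Quotient.lift (fun k => ⟨(k : G) * a * (k : G)⁻¹, ?_⟩) ?_) ⟨?_, ?_⟩
  · have h1 := h.permW k.2 (Or.inr (Or.inl rfl))
    rcases InW.ne_one_cases h1 (fun e => h.a_ne (conj_eq_one_iff.1 e)) with e | e | e <;> simp [e]
  · intro p q hpq
    have h1 := (QuotientGroup.leftRel_apply.1 hpq)
    rw [mem_subgroupOf, Subgroup.mem_inf] at h1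
    have h2 : Commute ((p : G)⁻¹ * q) a := mem_centralizer_singleton_iff.1 (by simpa using h1.2)
    refine Subtype.ext ?_
    show (p : G) * a * (p : G)⁻¹ = (q : G) * a * (q : G)⁻¹
    rw [show (q : G) * a * (q : G)⁻¹ =
      (p : G) * (((p : G)⁻¹ * q) * a * ((p : G)⁻¹ * q)⁻¹) * (p : G)⁻¹ by group,
      mul_inv_eq_iff_eq_mul.2 h2.eq]
  · rintro ⟨p⟩ ⟨q⟩ e
    refine Quotient.sound (QuotientGroup.leftRel_apply.2 ?_)
    have e1 : (p : G) * a * (p : G)⁻¹ = (q : G) * a * (q : G)⁻¹ := congrArg Subtype.val e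
    rw [mem_subgroupOf, Subgroup.mem_inf]
    refine ⟨(p⁻¹ * q).2, mem_centralizer_singleton_iff.2 (mul_inv_eq_iff_eq_mul.1 ?_)⟩
    calc ((p⁻¹ * q : ↥(centralizer ({z} : Set G))) : G) * a *
          ((p⁻¹ * q : ↥(centralizer ({z} : Set G))) : G)⁻¹
        = (p : G)⁻¹ * ((q : G) * a * (q : G)⁻¹) * p := by simp [mul_assoc]
      _ = a := by rw [← e1]; group
  · rintro ⟨u, hu⟩
    obtain ⟨k, hk, e⟩ : ∃ k ∈ centralizer ({z} : Set G), k * a * k⁻¹ = u := by
      refine h.to_u ?_ ?_ <;> rcases hu with rfl | rfl | rfl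
      exacts [Or.inr (Or.inl rfl), Or.inr (Or.inr (Or.inl rfl)), Or.inr (Or.inr (Or.inr rfl)),
        h.a_ne, h.b_ne, fun e => h.ab_ne (by rw [← mul_one a, ← e, ← mul_assoc, h.aa, one_mul])]
    exact ⟨QuotientGroup.mk ⟨k, hk⟩, Subtype.ext e⟩

/-- The centraliser of `a * z` meets that of `z` in `cza z a`. -/
theorem Hyp3.inf_az (h : Hyp3 z a b) {v : G} (hv : v = a ∨ v = a * z) :
    centralizer ({z} : Set G) ⊓ centralizer ({v} : Set G) = cza z a := by
  rcases hv with rfl | rfl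
  · rfl
  ext x
  rw [Subgroup.mem_inf, Subgroup.mem_inf, @mem_centralizer_singleton_iff _ _ (a * z) x,
    @mem_centralizer_singleton_iff _ _ a x]
  refine ⟨fun ⟨h1, h2⟩ => ⟨h1, ?_⟩,
    fun ⟨h1, h2⟩ => ⟨h1, ((show Commute x a from h2).mul_right (mem_cz.1 h1)).eq⟩⟩
  have h3 := (show Commute x (a * z) from h2).mul_right (mem_cz.1 h1)
  rw [mul_assoc, h.zz, mul_one] at h3
  exact h3.eq

theorem perm_three : ∀ i : Fin 3, ∀ s t : Equiv.Perm (Fin 3), s i = i → t i = i →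
    s ≠ 1 → t ≠ 1 → s⁻¹ * t = 1 := by decide +kernel

/-- `z` is not conjugate to `a` nor to `a * z`. -/
theorem Hyp3.ne_z (h : Hyp3 z a b) {v g : G} (hv : v = a ∨ v = a * z) : g * v * g⁻¹ ≠ z := by
  classical
  intro hg
  have hvJ : v ∈ oc z := by
    rcases hv with rfl | rfl; exacts [h.a_mem, mul_mem h.a_mem h.z_mem]
  have hvz : v ≠ z := by
    rcases hv with rfl | rfl
    · exact fun e => h.z_notW (e ▸ Or.inr (Or.inl rfl))
    · exact fun e => h.a_ne (mul_eq_right.1 e)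
  have hg' : g⁻¹ * z * g = v := by rw [← hg]; group
  set H := centralizer ({z} : Set G) with hH
  set C := centralizer ({v} : Set G) with hC
  set D : Subgroup ↥C := H.subgroupOf C with hD
  have hcard : Nat.card ↥H = Nat.card ↥C := by
    have hmap : C.map (MulAut.conj g).toMonoidHom = H := by
      ext x
      constructor
      · rintro ⟨c, hc, rfl⟩
        have hc' : c * v = v * c := mem_centralizer_singleton_iff.1 hc
        refine mem_centralizer_singleton_iff.2 ?_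
        show g * c * g⁻¹ * z = z * (g * c * g⁻¹)
        rw [← hg, conjm, conjm, hc']
      · intro hx
        have hx' : x * z = z * x := mem_centralizer_singleton_iff.1 hx
        refine ⟨g⁻¹ * x * g, mem_centralizer_singleton_iff.2 ?_, by simp [mul_assoc]⟩
        rw [← hg', show g⁻¹ * x * g * (g⁻¹ * z * g) = g⁻¹ * (x * z) * g by group, hx']
        group
    rw [← hmap, card_map_of_injective (MulAut.conj g).injective]
  have hDidx : D.index = 3 := by
    have h1 := (H.subgroupOf C).card_mul_index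
    have h2 := ((H ⊓ C).subgroupOf H).card_mul_index
    rw [h.inf_az hv, h.index_cza, ← h.inf_az hv] at h2
    have e2 : ∀ A B : Subgroup G, Nat.card ↥(A.subgroupOf B) = Nat.card ↥(A ⊓ B) := fun A B => by
      rw [← inf_subgroupOf_right]
      exact Nat.card_congr (subgroupOfEquivOfLe inf_le_right).toEquiv
    rw [e2] at h1
    rw [e2, inf_of_le_left inf_le_left] at h2
    rw [← hcard, ← h2] at h1
    exact Nat.eq_of_mul_eq_mul_left Nat.card_pos h1
  have hc3 : Nat.card (↥C ⧸ D) = Nat.card (Fin 3) := by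
    rw [Nat.card_fin]; exact hDidx
  haveI := Fintype.ofFinite (↥C ⧸ D)
  let ε : (↥C ⧸ D) ≃ Fin 3 := (Finite.equivFin _).trans (finCongr hDidx)
  let φ : ↥C →* Equiv.Perm (Fin 3) :=
    ε.permCongrHom.toMonoidHom.comp (MulAction.toPermHom ↥C (↥C ⧸ D))
  have hfix : ∀ d : ↥C, d ∈ D → φ d (ε (QuotientGroup.mk 1)) = ε (QuotientGroup.mk 1) := by
    intro d hd
    show ε (d • (ε.symm (ε (QuotientGroup.mk 1)))) = _
    rw [Equiv.symm_apply_apply]
    congr 1
    show (QuotientGroup.mk (d * 1) : ↥C ⧸ D) = QuotientGroup.mk 1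
    rw [QuotientGroup.eq]
    simpa using hd
  have hkerD : φ.ker ≤ D := by
    intro d hd
    have h1 : φ d (ε (QuotientGroup.mk 1)) = ε (QuotientGroup.mk 1) := by
      rw [MonoidHom.mem_ker.1 hd]; rfl
    change ε (d • (ε.symm (ε (QuotientGroup.mk 1)))) = _ at h1
    rw [Equiv.symm_apply_apply] at h1
    have h2 := ε.injective h1
    change (QuotientGroup.mk (d * 1) : ↥C ⧸ D) = QuotientGroup.mk 1 at h2
    rw [QuotientGroup.eq] at h2
    simpa using h2
  have hJC : oc z ≤ C := fun x hx => mem_centralizer_singleton_iff.2 (by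
    rcases hv with rfl | rfl
    · exact ((h.centre v hvJ).2 (Or.inl (Or.inr (Or.inl rfl))) x hx).symm.eq
    · exact ((h.centre (a * z) hvJ).2 (Or.inr (by
        rw [mul_assoc, h.zz, mul_one]; exact Or.inr (Or.inl rfl))) x hx).symm.eq)
  set K : Subgroup G := oc z ⊓ φ.ker.map C.subtype with hKdef
  have hKn : ∀ x ∈ K, x ∈ oc v := by
    intro x hx
    obtain ⟨hxJ, ⟨y, hy, rfl⟩⟩ := Subgroup.mem_inf.1 hx
    set N : Subgroup ↥φ.ker := ((oc z).subgroupOf C).subgroupOf φ.ker with hN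
    have hNn : N.Normal := ⟨fun n hn d => by
      simp only [hN, mem_subgroupOf, coe_mul, coe_inv] at hn ⊢
      exact oc_conj_mem (mem_subgroupOf.1 (hkerD d.2)) hn⟩
    have hNp : IsPGroup 2 ↥N :=
      ((oc_isPGroup z).comap_of_injective C.subtype C.subtype_injective).comap_of_injective
        φ.ker.subtype φ.ker.subtype_injective
    have h1 : (⟨y, hy⟩ : ↥φ.ker) ∈ pCore 2 ↥φ.ker :=
      Core.le_pCore (hN := hNn) hNp (mem_subgroupOf.2 (mem_subgroupOf.2 hxJ))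
    have h2 : (pCore 2 ↥φ.ker).map φ.ker.subtype ≤ pCore 2 ↥C :=
      Core.le_pCore (Core.pCore_isPGroup.map _)
    exact ⟨y, h2 ⟨_, h1, rfl⟩, rfl⟩
  refine h.not_abelian (K := K) inf_le_left (fun x hx y hy hxK hyK => ?_) fun x hx y hy => ?_
  · have hne : ∀ w, ∀ hw : w ∈ oc z, w ∉ K → φ ⟨w, hJC hw⟩ ≠ 1 := fun w hw hwK e =>
      hwK (Subgroup.mem_inf.2 ⟨hw, ⟨_, MonoidHom.mem_ker.2 e, rfl⟩⟩)
    have hDmem : ∀ w, ∀ hw : w ∈ oc z, (⟨w, hJC hw⟩ : ↥C) ∈ D := fun w hw =>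
      mem_subgroupOf.2 (oc_le z hw)
    have h1 := perm_three _ _ _ (hfix _ (hDmem x hx)) (hfix _ (hDmem y hy))
      (hne x hx hxK) (hne y hy hyK)
    rw [← map_inv, ← map_mul] at h1
    exact Subgroup.mem_inf.2 ⟨mul_mem (inv_mem hx) hy, ⟨_, MonoidHom.mem_ker.2 h1, rfl⟩⟩
  · rcases h.comm x hx.1 y hy.1 with e | e
    · exact mul_inv_eq_iff_eq_mul.1 (mul_inv_eq_one.1 e)
    exfalso
    have hback : ∀ {w : G}, w ∈ oc v → g * w * g⁻¹ ∈ oc z := fun hw => by
      have := conj_mem_oc (g := g) hw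
      rwa [hg] at this
    have e1 : g * (x * y * x⁻¹ * y⁻¹) * g⁻¹ =
        g * x * g⁻¹ * (g * y * g⁻¹) * (g * x * g⁻¹)⁻¹ * (g * y * g⁻¹)⁻¹ := by group
    rw [e] at e1
    rcases h.comm _ (hback (hKn x hx)) _ (hback (hKn y hy)) with e' | e' <;> rw [e'] at e1
    · exact h.z_ne_one (conj_eq_one_iff.1 e1)
    · exact hvz (by rw [← hg']; nth_rewrite 1 [← e1]; group)

theorem Hyp3.not_conj (h : Hyp3 z a b) {u : G} (hu : InW a b u) (hu1 : u ≠ 1) :
    ¬ IsConj z u ∧ ¬ IsConj z (u * z) := by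
  obtain ⟨k, hk, hku⟩ := h.to_u hu hu1
  refine ⟨fun hc => ?_, fun hc => ?_⟩ <;> obtain ⟨g, hg⟩ := isConj_iff.1 hc
  · refine h.ne_z (g := g⁻¹ * k) (Or.inl rfl) ?_
    rw [show g⁻¹ * k * a * (g⁻¹ * k)⁻¹ = g⁻¹ * (k * a * k⁻¹) * g by group, hku, ← hg]
    group
  · refine h.ne_z (g := g⁻¹ * k) (Or.inr rfl) ?_
    rw [show g⁻¹ * k * (a * z) * (g⁻¹ * k)⁻¹ = g⁻¹ * (k * a * k⁻¹ * (k * z * k⁻¹)) * g by group,
      hku, h.conj_z hk, ← hg]
    group

/-- A conjugate of `z` that is central in `oc z` is `z`. -/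
theorem Hyp3.eq_z_of_central (h : Hyp3 z a b) {g : G}
    (hc : ∀ y ∈ oc z, Commute (g * z * g⁻¹) y) : g * z * g⁻¹ = z := by
  obtain ⟨w, hw, e⟩ := Hyp3.InZ.cases h (h.central_cases hc)
  by_cases hw1 : w = 1
  · subst hw1
    rcases e with e | e
    · exact absurd (conj_eq_one_iff.1 e) h.z_ne_one
    · rwa [one_mul] at e
  rcases e with e | e
  · exact absurd (isConj_iff.2 ⟨g, e⟩) (h.not_conj hw hw1).1
  · exact absurd (isConj_iff.2 ⟨g, e⟩) (h.not_conj hw hw1).2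

theorem Hyp3.mem_of_conj_oc (h : Hyp3 z a b) {g : G}
    (hg : ∀ x ∈ oc z, g * x * g⁻¹ ∈ centralizer ({z} : Set G)) :
    g ∈ centralizer ({z} : Set G) := by
  refine inv_mem_iff.1 (mem_cz_of_conj_eq (h.eq_z_of_central fun y hy => ?_))
  have h1 : g * y * g⁻¹ * z = z * (g * y * g⁻¹) := (mem_cz.1 (hg y hy)).eq
  show g⁻¹ * z * g⁻¹⁻¹ * y = y * (g⁻¹ * z * g⁻¹⁻¹)
  calc g⁻¹ * z * g⁻¹⁻¹ * y = g⁻¹ * (z * (g * y * g⁻¹)) * g := by group
    _ = g⁻¹ * (g * y * g⁻¹ * z) * g := by rw [h1]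
    _ = y * (g⁻¹ * z * g⁻¹⁻¹) := by group

/-- A Sylow 2-subgroup of `G` lies in the centraliser of `z`. -/
theorem Hyp3.exists_sylow_cz (h : Hyp3 z a b) :
    ∃ S : Sylow 2 G, (S : Subgroup G) ≤ centralizer ({z} : Set G) := by
  set H := centralizer ({z} : Set G) with hH
  obtain ⟨P⟩ : Nonempty (Sylow 2 ↥H) := inferInstance
  set P' := (P : Subgroup ↥H).map H.subtype with hP'
  have hp : IsPGroup 2 ↥P' := P.isPGroup'.map _
  obtain ⟨T, hT⟩ := hp.exists_le_sylow
  refine ⟨T, ?_⟩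
  by_contra hne
  set Q := P'.subgroupOf (T : Subgroup G) with hQ
  haveI : Fact (Nat.Prime 2) := ⟨Nat.prime_two⟩
  haveI : Group.IsNilpotent ↥(T : Subgroup G) := T.isPGroup'.isNilpotent
  have hlt : Q < ⊤ := by
    refine lt_top_iff_ne_top.2 fun e => hne ?_
    intro x hx
    have hm : (⟨x, hx⟩ : ↥(T : Subgroup G)) ∈ Q := e ▸ mem_top _
    exact map_subtype_le _ (mem_subgroupOf.1 hm)
  obtain ⟨⟨g, hgT⟩, hgn, hgQ⟩ :=
    SetLike.exists_of_lt (normalizerCondition_of_isNilpotent Q hlt)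
  have hnorm : ∀ x ∈ P', g * x * g⁻¹ ∈ P' := fun x hx => by
    have := (mem_normalizer_iff.1 hgn ⟨x, hT hx⟩).1 (mem_subgroupOf.2 hx)
    simpa [hQ, mem_subgroupOf] using this
  by_cases hgH : g ∈ H
  · refine hgQ (mem_subgroupOf.2 ⟨⟨g, hgH⟩, ?_, rfl⟩)
    have hle : (P : Subgroup ↥H) ≤ (T : Subgroup G).subgroupOf H :=
      fun x hx => mem_subgroupOf.2 (hT ⟨x, hx, rfl⟩)
    rw [← P.is_maximal' (T.isPGroup'.comap_of_injective _ H.subtype_injective) hle]
    exact mem_subgroupOf.2 hgT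
  · refine hgH (h.mem_of_conj_oc fun x hx => ?_)
    exact map_subtype_le _ (hnorm x (oc_le_sylow P hx))

theorem Hyp3.oc_le_cza (h : Hyp3 z a b) : oc z ≤ cza z a := fun x hx =>
  Subgroup.mem_inf.2 ⟨oc_le z hx, mem_centralizer_singleton_iff.2
    ((h.centre a h.a_mem).2 (Or.inl (Or.inr (Or.inl rfl))) x hx).symm.eq⟩

/-- A Sylow 2-subgroup of `G` lies in `cza z a`. -/
theorem Hyp3.exists_sylow (h : Hyp3 z a b) :
    ∃ S : Sylow 2 G, (S : Subgroup G) ≤ cza z a := by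
  haveI : Fact (Nat.Prime 2) := ⟨Nat.prime_two⟩
  obtain ⟨S, hS⟩ := h.exists_sylow_cz
  obtain ⟨P⟩ : Nonempty (Sylow 2 ↥(cza z a)) := inferInstance
  set P' := (P : Subgroup ↥(cza z a)).map (cza z a).subtype with hP'
  have hHc : Nat.card ↥(centralizer ({z} : Set G)) = 3 * Nat.card ↥(cza z a) := by
    have h1 := ((cza z a).subgroupOf (centralizer ({z} : Set G))).card_mul_index
    rw [h.index_cza, Nat.card_congr (subgroupOfEquivOfLe
      (inf_le_left : cza z a ≤ centralizer ({z} : Set G))).toEquiv] at h1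
    simp only [cza] at h1 ⊢
    omega
  have hcard : Nat.card ↥P' = 2 ^ (Nat.card G).factorization 2 := by
    rw [hP', ← Nat.card_congr (equivMapOfInjective _ _ (subtype_injective _)).toEquiv,
      P.card_eq_multiplicity]
    congr 1
    have h2 : (Nat.card ↥(centralizer ({z} : Set G))).factorization 2 =
        (Nat.card G).factorization 2 := by
      refine le_antisymm ?_ ?_
      · exact (Nat.factorization_le_iff_dvd Nat.card_pos.ne' Nat.card_pos.ne').2
          (Subgroup.card_subgroup_dvd_card _) 2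
      · have h3 := Subgroup.card_dvd_of_le hS
        rw [S.card_eq_multiplicity] at h3
        exact (Nat.prime_two.pow_dvd_iff_le_factorization Nat.card_pos.ne').1 h3
    rw [← h2, hHc, Nat.factorization_mul (by norm_num) Nat.card_pos.ne']
    simp [Nat.Prime.factorization Nat.prime_three]
  exact ⟨Sylow.ofCard P' hcard, map_subtype_le _⟩

theorem Hyp3.oc_le_sylow' (h : Hyp3 z a b) {S : Sylow 2 G}
    (hS : (S : Subgroup G) ≤ centralizer ({z} : Set G)) : oc z ≤ (S : Subgroup G) := by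
  haveI : Fact (Nat.Prime 2) := ⟨Nat.prime_two⟩
  refine (oc_le_sylow (S.subtype hS)).trans ?_
  rintro x ⟨y, hy, rfl⟩
  exact mem_subgroupOf.1 hy

/-- `a` is not conjugate to `a * z`. -/
theorem Hyp3.a_not_az (h : Hyp3 z a b) (g : G) : g * a * g⁻¹ ≠ a * z := by
  intro hg
  haveI : Fact (Nat.Prime 2) := ⟨Nat.prime_two⟩
  obtain ⟨S, hS⟩ := h.exists_sylow
  set C := centralizer ({a * z} : Set G) with hC
  have hSC : (S : Subgroup G) ≤ C := fun x hx => by
    have h1 := hS hx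
    rw [← h.inf_az (Or.inr rfl)] at h1
    exact (Subgroup.mem_inf.1 h1).2
  have hgS : ((g • S : Sylow 2 G) : Subgroup G) ≤ C := by
    rw [Sylow.coe_subgroup_smul]
    rintro x ⟨s, hs, rfl⟩
    refine mem_centralizer_singleton_iff.2 ?_
    show g * s * g⁻¹ * (a * z) = a * z * (g * s * g⁻¹)
    rw [← hg, conjm, conjm, mem_centralizer_singleton_iff.1 (Subgroup.mem_inf.1 (hS hs)).2]
  obtain ⟨c, hc'⟩ := MulAction.exists_smul_eq ↥C ((g • S).subtype hgS) (S.subtype hSC)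
  have heq : ((c : G) * g) • S = S := by
    rw [mul_smul]
    refine Sylow.subtype_injective (hP := ?_) (hQ := hSC) ?_
    · rw [Sylow.coe_subgroup_smul]
      rintro x ⟨s, hs, rfl⟩
      exact mul_mem (mul_mem c.2 (hgS hs)) (inv_mem c.2)
    · rw [← hc', Sylow.smul_subtype]
      rfl
  have hnorm : (c : G) * g ∈ normalizer ((S : Subgroup G) : Set G) :=
    Sylow.smul_eq_iff_mem_normalizer.1 heq
  have hSH : (S : Subgroup G) ≤ centralizer ({z} : Set G) := hS.trans inf_le_left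
  have hH : (c : G) * g ∈ centralizer ({z} : Set G) :=
    h.mem_of_conj_oc fun x hx => hSH ((mem_normalizer_iff.1 hnorm x).1 (h.oc_le_sylow' hSH hx))
  have e : (c : G) * g * a * ((c : G) * g)⁻¹ = a * z := by
    rw [show (c : G) * g * a * ((c : G) * g)⁻¹ = (c : G) * (g * a * g⁻¹) * (c : G)⁻¹ by group, hg,
      (mem_centralizer_singleton_iff.1 c.2 : (c : G) * (a * z) = a * z * (c : G)),
      mul_inv_cancel_right]
  have hW := h.permW hH (Or.inr (Or.inl rfl) : InW a b a)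
  rw [e] at hW
  have hz' : a * (a * z) = z := by rw [← mul_assoc, h.aa, one_mul]
  have hzW : InW a b (a * (a * z)) :=
    (mem_wsub h).1 (mul_mem ((mem_wsub h).2 (Or.inr (Or.inl rfl))) ((mem_wsub h).2 hW))
  rw [hz'] at hzW
  exact h.z_notW hzW

/-- Fusion inside the centre is controlled by the centraliser of `z`. -/
theorem Hyp3.conj_centre (h : Hyp3 z a b) {u g : G} (hu : InZ z a b u) (hu1 : u ≠ 1) (huz : u ≠ z)
    (hv : InZ z a b (g * u * g⁻¹)) :
    ∃ k ∈ centralizer ({z} : Set G), k * u * k⁻¹ = g * u * g⁻¹ := by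
  obtain ⟨p, hp, ep⟩ := Hyp3.InZ.cases h hu
  obtain ⟨q, hq, eq⟩ := Hyp3.InZ.cases h hv
  have hp1 : p ≠ 1 := fun e => by
    subst e
    rcases ep with e | e
    exacts [hu1 e, huz (by rwa [one_mul] at e)]
  obtain ⟨k, hk, hkp⟩ := h.to_u hp hp1
  have hkz := h.conj_z hk
  have hpz : k * (a * z) * k⁻¹ = p * z := by
    rw [show k * (a * z) * k⁻¹ = k * a * k⁻¹ * (k * z * k⁻¹) by group, hkp, hkz]
  have hq1 : q ≠ 1 := by
    intro e
    subst e
    rcases eq with e | e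
    · exact hu1 (conj_eq_one_iff.1 e)
    · rw [one_mul] at e
      rcases ep with rfl | rfl
      · exact (h.not_conj hp hp1).1 (isConj_iff.2 ⟨g, e⟩).symm
      · exact (h.not_conj hp hp1).2 (isConj_iff.2 ⟨g, e⟩).symm
  obtain ⟨l, hl, hlq⟩ := h.to_u hq hq1
  have hlz := h.conj_z hl
  have hqz : l * (a * z) * l⁻¹ = q * z := by
    rw [show l * (a * z) * l⁻¹ = l * a * l⁻¹ * (l * z * l⁻¹) by group, hlq, hlz]
  rcases ep with rfl | rfl <;> rcases eq with eq | eq <;> rw [eq]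
  · refine ⟨l * k⁻¹, mul_mem hl (inv_mem hk), ?_⟩
    rw [← hlq, ← hkp]; group
  · refine absurd ?_ (h.a_not_az (l⁻¹ * g * k))
    rw [show l⁻¹ * g * k * a * (l⁻¹ * g * k)⁻¹ = l⁻¹ * (g * (k * a * k⁻¹) * g⁻¹) * l by group, hkp,
      eq, ← hqz]
    group
  · refine absurd ?_ (h.a_not_az (k⁻¹ * g⁻¹ * l))
    rw [show k⁻¹ * g⁻¹ * l * a * (k⁻¹ * g⁻¹ * l)⁻¹ = k⁻¹ * g⁻¹ * (l * a * l⁻¹) * g * k by group,
      hlq, ← eq, show k⁻¹ * g⁻¹ * (g * (p * z) * g⁻¹) * g * k = k⁻¹ * (p * z) * k by group, ← hpz]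
    group
  · refine ⟨l * k⁻¹, mul_mem hl (inv_mem hk), ?_⟩
    rw [← hqz, ← hpz]; group

theorem Hyp3.double_cent (h : Hyp3 z a b) {t c : G} (ht : t ∈ oc z) (hct : c ∈ oc z)
    (hnc : ¬ ∀ j ∈ oc z, Commute t j) (hcom : ∀ j ∈ oc z, Commute j t → Commute j c) :
    (∀ j ∈ oc z, Commute c j) ∨ ∀ j ∈ oc z, Commute (c * t) j := by
  push Not at hnc
  obtain ⟨y, hy, hty⟩ := hnc
  have key : ∀ d ∈ oc z, Commute d y → (∀ j ∈ oc z, Commute j t → Commute j d) →
      ∀ j ∈ oc z, Commute d j := by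
    intro d hd hdy hd' j hj
    by_cases hjt : Commute j t
    · exact (hd' j hj hjt).symm
    · have h1 : Commute (y⁻¹ * j) t := by
        have ey : y * t * y⁻¹ = t * z := by
          rcases h.comm y hy t ht with e | e
          · exact absurd (mul_inv_eq_iff_eq_mul.1 (mul_inv_eq_one.1 e)).symm hty
          · rw [mul_inv_eq_iff_eq_mul.1 e, (h.comm_z ht).eq]
        have ej : j * t * j⁻¹ = t * z := by
          rcases h.comm j hj t ht with e | e
          · exact absurd (mul_inv_eq_iff_eq_mul.1 (mul_inv_eq_one.1 e)) hjt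
          · rw [mul_inv_eq_iff_eq_mul.1 e, (h.comm_z ht).eq]
        refine mul_inv_eq_iff_eq_mul.1 ?_
        calc y⁻¹ * j * t * (y⁻¹ * j)⁻¹ = y⁻¹ * (j * t * j⁻¹) * y := by group
          _ = y⁻¹ * (y * t * y⁻¹) * y := by rw [ej, ey]
          _ = t := by group
      have h2 : Commute d (y * (y⁻¹ * j)) :=
        hdy.mul_right (hd' _ (mul_mem (inv_mem hy) hj) h1).symm
      rwa [mul_inv_cancel_left] at h2
  by_cases hcy : Commute c y
  · exact Or.inl (key c hct hcy hcom)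
  · refine Or.inr (key (c * t) (mul_mem hct ht) ?_ fun j hj hjt =>
      (hcom j hj hjt).mul_right hjt)
    have ec : c * y * c⁻¹ = y * z := by
      rcases h.comm c hct y hy with e | e
      · exact absurd (mul_inv_eq_iff_eq_mul.1 (mul_inv_eq_one.1 e)) hcy
      · rw [mul_inv_eq_iff_eq_mul.1 e, (h.comm_z hy).eq]
    have et : t * y * t⁻¹ = y * z := by
      rcases h.comm t ht y hy with e | e
      · exact absurd (mul_inv_eq_iff_eq_mul.1 (mul_inv_eq_one.1 e)) hty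
      · rw [mul_inv_eq_iff_eq_mul.1 e, (h.comm_z hy).eq]
    refine mul_inv_eq_iff_eq_mul.1 ?_
    calc c * t * y * (c * t)⁻¹ = c * (t * y * t⁻¹) * c⁻¹ := by group
      _ = c * y * c⁻¹ * (c * z * c⁻¹) := by rw [et]; group
      _ = y := by
        rw [ec, (h.comm_z hct).eq, mul_inv_cancel_right, mul_assoc, h.zz, mul_one]

theorem Hyp3.mem_oc_of_fix (h : Hyp3 z a b) {x t : G} (hx : x ∈ centralizer ({z} : Set G))
    (ht : t ∈ oc z) (htt : t * t = 1) (hnc : ¬ ∀ j ∈ oc z, Commute t j)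
    (hfix : ∀ j ∈ oc z, Commute j t → Commute j x) : x ∈ oc z := by
  obtain ⟨y, hy, hty⟩ : ∃ y ∈ oc z, ¬ Commute t y := by push Not at hnc; exact hnc
  set c := y⁻¹ * (x * y * x⁻¹) with hc
  have hcJ : c ∈ oc z := mul_mem (inv_mem hy) (oc_conj_mem hx hy)
  have hcC : ∀ k ∈ oc z, Commute k t → Commute k c := by
    intro k hk hkt
    have h1 : Commute (y * k * y⁻¹) t := by
      rcases h.comm y hy k hk with e | e
      · rwa [mul_inv_eq_one.1 e]
      · rw [mul_inv_eq_iff_eq_mul.1 e]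
        exact (h.comm_z ht).symm.mul_left hkt
    have h2 : Commute (y * k * y⁻¹) x :=
      hfix _ (mul_mem (mul_mem hy hk) (inv_mem hy)) h1
    have h3 : Commute k x := hfix k hk hkt
    refine (mul_inv_eq_iff_eq_mul.1 ?_ : Commute c k).symm
    calc c * k * c⁻¹ = y⁻¹ * (x * y * (x⁻¹ * k * x) * y⁻¹ * x⁻¹) * y := by rw [hc]; group
      _ = y⁻¹ * (x * (y * k * y⁻¹) * x⁻¹) * y := by
        rw [show x⁻¹ * k * x = k by rw [mul_assoc, h3.eq, inv_mul_cancel_left]]; group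
      _ = k := by rw [h2.symm.eq, mul_inv_cancel_right]; group
  refine h.act x hx ?_
  have hcen : ∀ j ∈ oc z, Commute c j := by
    rcases h.double_cent ht hcJ hnc hcC with h1 | h1
    · exact h1
    exfalso
    have hζ : ∀ j ∈ oc z, Commute (c * t) j := h1
    have hζ2 : c * t * (c * t) = 1 := (Hyp3.InZ.mem h (h.central_cases hζ)).2.2
    have eyt : t * y * t⁻¹ = y * z := by
      rcases h.comm t ht y hy with e | e
      · exact absurd (mul_inv_eq_iff_eq_mul.1 (mul_inv_eq_one.1 e)) hty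
      · rw [mul_inv_eq_iff_eq_mul.1 e, (h.comm_z hy).eq]
    have exy : x * y * x⁻¹ = y * (c * t) * t := by
      rw [hc, mul_assoc y, mul_assoc _ t t, htt, mul_one, mul_inv_cancel_left]
    have e1 : x * (y * y) * x⁻¹ = y * y * z := by
      calc x * (y * y) * x⁻¹ = x * y * x⁻¹ * (x * y * x⁻¹) := by group
        _ = y * (c * t) * t * (y * (c * t) * t) := by rw [exy]
        _ = y * ((c * t) * (t * y * t⁻¹)) * ((t * (c * t)) * t) := by group
        _ = y * ((t * y * t⁻¹) * (c * t)) * (((c * t) * t) * t) := by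
          rw [(hζ _ (mul_mem (mul_mem ht hy) (inv_mem ht))).eq, (hζ t ht).eq]
        _ = y * y * (z * (c * t * (c * t))) * (t * t) := by rw [eyt]; group
        _ = y * y * z := by rw [hζ2, htt, mul_one, mul_one]
    have e2 : x * (y * y) * x⁻¹ = y * y := by
      have hcom : Commute x (y * y) := by
        rcases h.sq y hy with e | e <;> rw [e]
        exacts [Commute.one_right x, mem_cz.1 hx]
      rw [hcom.eq, mul_inv_cancel_right]
    rw [e2, left_eq_mul] at e1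
    exact h.z_ne_one e1
  intro j hj
  by_cases hjt : Commute j t
  · rw [← (hfix j hj hjt).eq, mul_inv_cancel_right, mul_inv_cancel]
    exact Or.inl (Or.inl rfl)
  · have h1 : Commute (y⁻¹ * j) t := by
      have ey : y * t * y⁻¹ = t * z := by
        rcases h.comm y hy t ht with e | e
        · exact absurd (mul_inv_eq_iff_eq_mul.1 (mul_inv_eq_one.1 e)).symm hty
        · rw [mul_inv_eq_iff_eq_mul.1 e, (h.comm_z ht).eq]
      have ej : j * t * j⁻¹ = t * z := by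
        rcases h.comm j hj t ht with e | e
        · exact absurd (mul_inv_eq_iff_eq_mul.1 (mul_inv_eq_one.1 e)) hjt
        · rw [mul_inv_eq_iff_eq_mul.1 e, (h.comm_z ht).eq]
      refine mul_inv_eq_iff_eq_mul.1 ?_
      calc y⁻¹ * j * t * (y⁻¹ * j)⁻¹ = y⁻¹ * (j * t * j⁻¹) * y := by group
        _ = y⁻¹ * (y * t * y⁻¹) * y := by rw [ej, ey]
        _ = t := by group
    set k := y⁻¹ * j with hk
    have hkJ : k ∈ oc z := mul_mem (inv_mem hy) hj
    have hjk : j = y * k := by rw [hk, mul_inv_cancel_left]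
    have hxk : x * k * x⁻¹ = k := by rw [(hfix k hkJ h1).symm.eq, mul_inv_cancel_right]
    have e : x * j * x⁻¹ * j⁻¹ = c := by
      calc x * j * x⁻¹ * j⁻¹ = y * (y⁻¹ * (x * y * x⁻¹)) * (x * k * x⁻¹) * (k⁻¹ * y⁻¹) := by
            rw [hjk]; group
        _ = y * c * y⁻¹ := by rw [hxk, hc]; group
        _ = c := by rw [(hcen y hy).symm.eq, mul_inv_cancel_right]
    rw [e]
    exact h.central_cases hcen

/-- A conjugate of an involution of the centre commuting with `z` and fixed inside the centre. -/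
theorem Standing3.of_central (S : Standing3 z a b) {u g : G} (hu : InZ z a b u) (hu1 : u ≠ 1)
    (huz : u ≠ z) (hv : InZ z a b (g * u * g⁻¹)) (hw : Commute (g * z * g⁻¹) z) :
    g ∈ nrm a b := by
  obtain ⟨h, hid, hca, -⟩ := S
  obtain ⟨k, hk, hku⟩ := h.conj_centre hu hu1 huz hv
  have hkz := h.conj_z hk
  set m := k⁻¹ * g with hm
  have hmu : Commute m u := by
    refine mul_inv_eq_iff_eq_mul.1 ?_
    rw [hm, show k⁻¹ * g * u * (k⁻¹ * g)⁻¹ = k⁻¹ * (g * u * g⁻¹) * k by group, ← hku]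
    group
  have hmz : Commute (m * z * m⁻¹) z := by
    have h1 := (Commute.conj_iff k⁻¹).2 hw
    rwa [show k⁻¹ * (g * z * g⁻¹) * k⁻¹⁻¹ = m * z * m⁻¹ by rw [hm]; group,
      show k⁻¹ * z * k⁻¹⁻¹ = z by nth_rewrite 1 [← hkz]; group] at h1
  suffices hmn : m ∈ nrm a b by
    rw [show g = k * m by rw [hm, mul_inv_cancel_left]]
    exact mul_mem (h.stab hk) hmn
  obtain ⟨p, hp, e⟩ := Hyp3.InZ.cases h hu
  have hp1 : p ≠ 1 := fun e1 => by
    subst e1
    rcases e with e | e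
    exacts [hu1 e, huz (by rwa [one_mul] at e)]
  rcases e with rfl | rfl
  · obtain ⟨l, hl, hlp⟩ := h.to_u hp hp1
    have hlz := h.conj_z hl
    have h1 : l⁻¹ * m * l ∈ nrm a b := by
      refine hca _ ?_ ?_
      · have h2 := (Commute.conj_iff l⁻¹).2 hmu
        rwa [inv_inv, show l⁻¹ * u * l = a by rw [← hlp]; group] at h2
      · have h2 := (Commute.conj_iff l⁻¹).2 hmz
        rwa [show l⁻¹ * (m * z * m⁻¹) * l⁻¹⁻¹ =
            l⁻¹ * m * l * (l⁻¹ * z * l) * (l⁻¹ * m * l)⁻¹ by group,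
          show l⁻¹ * z * l = z by nth_rewrite 1 [← hlz]; group,
          show l⁻¹ * z * l⁻¹⁻¹ = z by nth_rewrite 1 [← hlz]; group] at h2
    rw [show m = l * (l⁻¹ * m * l) * l⁻¹ by group]
    exact mul_mem (mul_mem (h.stab hl) h1) (inv_mem (h.stab hl))
  · exact h.stab (mem_cz.2 (mul_inv_eq_iff_eq_mul.1 (hid p hp hp1 m hmu hmz)))

/-- A conjugate of `z` in `oc z` comes from the normaliser of the four-group. -/
theorem Standing3.inJ (S : Standing3 z a b) {g : G} (hg : g * z * g⁻¹ ∈ oc z) :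
    g ∈ nrm a b := by
  have h := S.hyp
  haveI : Fact (Nat.Prime 2) := ⟨Nat.prime_two⟩
  set w := g * z * g⁻¹ with hw
  by_cases hcz : ∀ j ∈ oc z, Commute w j
  · exact h.stab (mem_cz_of_conj_eq (h.eq_z_of_central hcz))
  have hzw : Commute w z := h.comm_z hg
  set K : Subgroup G := oc z ⊓ centralizer ({w} : Set G) with hKdef
  obtain ⟨k₁, hk₁, k₂, hk₂, hk12⟩ : ∃ x ∈ K, ∃ y ∈ K, x * y * x⁻¹ * y⁻¹ = z := by
    by_contra hcon
    push Not at hcon
    refine h.not_abelian (K := K) inf_le_left (fun x hx y hy hxK hyK => ?_) fun x hx y hy => ?_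
    · have hx' : x * w * x⁻¹ = z * w := by
        rcases h.comm x hx w hg with e | e
        · exact absurd (Subgroup.mem_inf.2 ⟨hx, mem_centralizer_singleton_iff.2
            (mul_inv_eq_iff_eq_mul.1 (mul_inv_eq_one.1 e))⟩) hxK
        · exact mul_inv_eq_iff_eq_mul.1 e
      have hy' : y * w * y⁻¹ = z * w := by
        rcases h.comm y hy w hg with e | e
        · exact absurd (Subgroup.mem_inf.2 ⟨hy, mem_centralizer_singleton_iff.2
            (mul_inv_eq_iff_eq_mul.1 (mul_inv_eq_one.1 e))⟩) hyK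
        · exact mul_inv_eq_iff_eq_mul.1 e
      refine Subgroup.mem_inf.2 ⟨mul_mem (inv_mem hx) hy, mem_centralizer_singleton_iff.2
        (mul_inv_eq_iff_eq_mul.1 ?_)⟩
      rw [show x⁻¹ * y * w * (x⁻¹ * y)⁻¹ = x⁻¹ * (y * w * y⁻¹) * x by group, hy', ← hx']
      group
    · rcases h.comm x hx.1 y hy.1 with e | e
      · exact mul_inv_eq_iff_eq_mul.1 (mul_inv_eq_one.1 e)
      · exact absurd e (hcon x hx y hy)
  obtain ⟨T, hT⟩ := h.exists_sylow
  set P := K.map (MulAut.conj g⁻¹).toMonoidHom with hPdef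
  have hP2 : IsPGroup 2 ↥P := ((oc_isPGroup z).to_le inf_le_left).map _
  have hPH : P ≤ centralizer ({z} : Set G) := by
    rintro _ ⟨k, hk, rfl⟩
    refine mem_centralizer_singleton_iff.2 ?_
    show g⁻¹ * k * g⁻¹⁻¹ * z = z * (g⁻¹ * k * g⁻¹⁻¹)
    have hkw : k * w = w * k := mem_centralizer_singleton_iff.1 hk.2
    calc g⁻¹ * k * g⁻¹⁻¹ * z = g⁻¹ * (k * w) * g := by rw [hw]; group
      _ = g⁻¹ * (w * k) * g := by rw [hkw]
      _ = z * (g⁻¹ * k * g⁻¹⁻¹) := by rw [hw]; group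
  have hTH : (T : Subgroup G) ≤ centralizer ({z} : Set G) := hT.trans inf_le_left
  obtain ⟨Q, hQ⟩ := (hP2.comap_of_injective (centralizer ({z} : Set G)).subtype
    (subtype_injective _)).exists_le_sylow
  obtain ⟨s, hs⟩ := MulAction.exists_smul_eq ↥(centralizer ({z} : Set G)) Q (T.subtype hTH)
  have hsP : ∀ p ∈ P, (s : G) * p * (s : G)⁻¹ ∈ cza z a := by
    intro p hp
    have h1 : (⟨p, hPH hp⟩ : ↥(centralizer ({z} : Set G))) ∈
        (Q : Subgroup ↥(centralizer ({z} : Set G))) := hQ hp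
    have h2 : MulAut.conj s ⟨p, hPH hp⟩ ∈
        ((s • Q : Sylow 2 _) : Subgroup ↥(centralizer ({z} : Set G))) := by
      rw [Sylow.coe_subgroup_smul]; exact ⟨_, h1, rfl⟩
    rw [hs] at h2
    exact hT (mem_subgroupOf.1 h2)
  set u₀ := (s : G)⁻¹ * a * s with hu₀
  have hu₀W : InW a b u₀ := by
    have := h.permW (inv_mem s.2) (Or.inr (Or.inl rfl) : InW a b a)
    rwa [inv_inv] at this
  have hu₀1 : u₀ ≠ 1 := fun e => h.a_ne (by
    calc a = (s : G) * u₀ * (s : G)⁻¹ := by rw [hu₀]; group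
      _ = 1 := by rw [e]; group)
  set t := g * u₀ * g⁻¹ with ht
  have htK : ∀ k ∈ K, Commute k t := by
    intro k hk
    have h1 := (Subgroup.mem_inf.1 (hsP _ ⟨k, hk, rfl⟩)).2
    have h2 : Commute ((s : G) * (g⁻¹ * k * g⁻¹⁻¹) * (s : G)⁻¹) a :=
      mem_centralizer_singleton_iff.1 h1
    have h3 := (Commute.conj_iff (g * (s : G)⁻¹)).2 h2
    rwa [show g * (s : G)⁻¹ * ((s : G) * (g⁻¹ * k * g⁻¹⁻¹) * (s : G)⁻¹) * (g * (s : G)⁻¹)⁻¹ = k by
      group, show g * (s : G)⁻¹ * a * (g * (s : G)⁻¹)⁻¹ = t by rw [ht, hu₀]; group] at h3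
  have htz : t ∈ centralizer ({z} : Set G) := by
    rw [mem_centralizer_singleton_iff]
    show Commute t z
    rw [← hk12]
    exact ((((htK _ hk₁).symm.mul_right (htK _ hk₂).symm).mul_right
      (htK _ hk₁).symm.inv_right).mul_right (htK _ hk₂).symm.inv_right)
  have htt : w * w = 1 := by
    rw [hw, show g * z * g⁻¹ * (g * z * g⁻¹) = g * (z * z) * g⁻¹ by group, h.zz]; group
  have hfix : ∀ j ∈ oc z, Commute j w → Commute j t := fun j hj hjw =>
    htK j (Subgroup.mem_inf.2 ⟨hj, mem_centralizer_singleton_iff.2 hjw.eq⟩)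
  have htJ := h.mem_oc_of_fix htz hg htt hcz hfix
  have hu₀z : u₀ ≠ z := fun e => h.z_notW (e ▸ hu₀W)
  rcases h.double_cent hg htJ hcz hfix with hc | hc
  · exact S.of_central (Or.inl hu₀W) hu₀1 hu₀z (h.central_cases hc) hzw
  · have hu : InZ z a b (u₀ * z) := Or.inr (by rwa [mul_assoc, h.zz, mul_one])
    refine S.of_central hu (fun e => h.z_notW ?_) (fun e => hu₀1 (mul_eq_right.1 e)) ?_ hzw
    · have : u₀ = z := by rw [← h.z_inv]; exact eq_inv_of_mul_eq_one_left e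
      exact this ▸ hu₀W
    · rw [show g * (u₀ * z) * g⁻¹ = t * w by rw [ht, hw]; group]
      exact h.central_cases hc

/-- A conjugate of an involution of the centre in `oc z`. -/
theorem Standing3.inJ_aux (S : Standing3 z a b) {u g : G} (hu : u = a ∨ u = a * z)
    (hg : g * u * g⁻¹ ∈ oc z) : InZ z a b (g * u * g⁻¹) ∨
      (u = a * z ∧ ∃ g', g' ∈ nrm a b ∧ g' * u * g'⁻¹ = g * u * g⁻¹ ∧ g' * z * g'⁻¹ ∈ oc z ∧
        Commute (g⁻¹ * g') u) := by
  have h := S.hyp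
  haveI : Fact (Nat.Prime 2) := ⟨Nat.prime_two⟩
  set t := g * u * g⁻¹ with ht
  by_cases hc : ∀ j ∈ oc z, Commute t j
  · exact Or.inl (h.central_cases hc)
  have huJ : u * u = 1 := by
    rcases hu with rfl | rfl
    · exact h.aa
    · rw [(h.comm_z h.a_mem).symm.mul_mul_mul_comm, h.aa, h.zz, one_mul]
  have htt : t * t = 1 := by
    rw [ht, show g * u * g⁻¹ * (g * u * g⁻¹) = g * (u * u) * g⁻¹ by group, huJ]; group
  obtain ⟨T, hT⟩ := h.exists_sylow
  set C := centralizer ({u} : Set G) with hC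
  have hTC : (T : Subgroup G) ≤ C := fun x hx => by
    have h1 := hT hx
    rw [← h.inf_az hu] at h1
    exact (Subgroup.mem_inf.1 h1).2
  set K : Subgroup G := oc z ⊓ centralizer ({t} : Set G) with hKdef
  set P := K.map (MulAut.conj g⁻¹).toMonoidHom with hPdef
  have hP2 : IsPGroup 2 ↥P := ((oc_isPGroup z).to_le inf_le_left).map _
  have hPC : P ≤ C := by
    rintro _ ⟨k, hk, rfl⟩
    refine mem_centralizer_singleton_iff.2 ?_
    show g⁻¹ * k * g⁻¹⁻¹ * u = u * (g⁻¹ * k * g⁻¹⁻¹)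
    have hkt : k * t = t * k := mem_centralizer_singleton_iff.1 hk.2
    calc g⁻¹ * k * g⁻¹⁻¹ * u = g⁻¹ * (k * t) * g := by rw [ht]; group
      _ = g⁻¹ * (t * k) * g := by rw [hkt]
      _ = u * (g⁻¹ * k * g⁻¹⁻¹) := by rw [ht]; group
  obtain ⟨Q, hQ⟩ := (hP2.comap_of_injective C.subtype (subtype_injective _)).exists_le_sylow
  obtain ⟨y, hy⟩ := MulAction.exists_smul_eq ↥C Q (T.subtype hTC)
  have hyP : ∀ p ∈ P, (y : G) * p * (y : G)⁻¹ ∈ cza z a := by
    intro p hp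
    have h1 : (⟨p, hPC hp⟩ : ↥C) ∈ (Q : Subgroup ↥C) := hQ hp
    have h2 : MulAut.conj y ⟨p, hPC hp⟩ ∈ ((y • Q : Sylow 2 _) : Subgroup ↥C) := by
      rw [Sylow.coe_subgroup_smul]; exact ⟨_, h1, rfl⟩
    rw [hy] at h2
    exact hT (mem_subgroupOf.1 h2)
  set g' := g * (y : G)⁻¹ with hg'
  have hyu : Commute (y : G) u := mem_centralizer_singleton_iff.1 y.2
  have hg't : g' * u * g'⁻¹ = t := by
    rw [hg', show g * (y : G)⁻¹ * u * (g * (y : G)⁻¹)⁻¹ = g * ((y : G)⁻¹ * u * y) * g⁻¹ by group,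
      mul_assoc (y : G)⁻¹ u, ← hyu.eq, inv_mul_cancel_left]
  set w' := g' * z * g'⁻¹ with hw'
  have hKw : ∀ k ∈ K, Commute k w' := by
    intro k hk
    have h1 := (Subgroup.mem_inf.1 (hyP _ ⟨k, hk, rfl⟩)).1
    have h2 : Commute ((y : G) * (g⁻¹ * k * g⁻¹⁻¹) * (y : G)⁻¹) z :=
      mem_centralizer_singleton_iff.1 h1
    have h3 := (Commute.conj_iff g').2 h2
    rwa [show g' * ((y : G) * (g⁻¹ * k * g⁻¹⁻¹) * (y : G)⁻¹) * g'⁻¹ = k by rw [hg']; group] at h3
  have hzK : z ∈ K := Subgroup.mem_inf.2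
    ⟨h.z_mem, mem_centralizer_singleton_iff.2 (h.comm_z hg).symm.eq⟩
  have hfix : ∀ j ∈ oc z, Commute j t → Commute j w' := fun j hj hjt =>
    hKw j (Subgroup.mem_inf.2 ⟨hj, mem_centralizer_singleton_iff.2 hjt.eq⟩)
  have hwJ := h.mem_oc_of_fix (mem_cz.2 (hKw z hzK).symm) hg htt hc hfix
  have hgn := S.inJ hwJ
  rcases hu with rfl | rfl
  · left
    have hW := ((mem_nrm.1 hgn) u).1 (Or.inr (Or.inl rfl))
    rw [hg't] at hW
    exact Or.inl hW
  · right
    refine ⟨rfl, g', hgn, hg't, hwJ, ?_⟩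
    rw [hg', inv_mul_cancel_left]
    exact hyu.inv_left

theorem Standing3.inJ_conj_a (S : Standing3 z a b) {g : G} (hg : g * a * g⁻¹ ∈ oc z) :
    InZ z a b (g * a * g⁻¹) := by
  rcases S.inJ_aux (Or.inl rfl) hg with h1 | ⟨h1, -⟩
  · exact h1
  · exact absurd (left_eq_mul.1 h1) S.hyp.z_ne_one

/-- The pair `(g, u)` with `g u g⁻¹ ∈ oc z` and `g z g⁻¹` centralising `z`. -/
theorem Standing3.inJ_conj (S : Standing3 z a b) {u g : G} (hu : InZ z a b u) (hu1 : u ≠ 1)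
    (huz : u ≠ z) (hg : g * u * g⁻¹ ∈ oc z) (hw : Commute (g * z * g⁻¹) z) : g ∈ nrm a b := by
  have h := S.hyp
  obtain ⟨p, hp, e⟩ := Hyp3.InZ.cases h hu
  have hp1 : p ≠ 1 := fun e1 => by
    subst e1
    rcases e with e | e
    exacts [hu1 e, huz (by rwa [one_mul] at e)]
  obtain ⟨k, hk, hkp⟩ := h.to_u hp hp1
  have hkz := h.conj_z hk
  obtain ⟨v, hv, hkv⟩ : ∃ v, (v = a ∨ v = a * z) ∧ k * v * k⁻¹ = u := by
    rcases e with rfl | rfl
    · exact ⟨a, Or.inl rfl, hkp⟩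
    · exact ⟨a * z, Or.inr rfl, by
        rw [show k * (a * z) * k⁻¹ = k * a * k⁻¹ * (k * z * k⁻¹) by group, hkp, hkz]⟩
  have hgv : g * k * v * (g * k)⁻¹ = g * u * g⁻¹ := by rw [← hkv]; group
  have hgkz : g * k * z * (g * k)⁻¹ = g * z * g⁻¹ := by
    rw [show g * k * z * (g * k)⁻¹ = g * (k * z * k⁻¹) * g⁻¹ by group, hkz]
  have hback : g * k ∈ nrm a b → g ∈ nrm a b := fun h1 => by
    have := mul_mem h1 (inv_mem (h.stab hk))
    rwa [mul_inv_cancel_right] at this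
  have hvz : InZ z a b v ∧ v ≠ 1 ∧ v ≠ z := by
    have haz : a ≠ z := fun e => h.z_notW (e ▸ Or.inr (Or.inl rfl))
    rcases hv with rfl | rfl
    · exact ⟨Or.inl (Or.inr (Or.inl rfl)), h.a_ne, haz⟩
    · refine ⟨Or.inr (by rw [mul_assoc, h.zz, mul_one]; exact Or.inr (Or.inl rfl)),
        fun e1 => haz ?_, fun e1 => h.a_ne (mul_eq_right.1 e1)⟩
      rw [← h.z_inv]; exact eq_inv_of_mul_eq_one_left e1
  refine hback ?_
  rcases S.inJ_aux hv (by rw [hgv]; exact hg) with h1 | ⟨h1, g', hgn, hgt, hwJ, hcom⟩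
  · exact S.of_central hvz.1 hvz.2.1 hvz.2.2 h1 (by rw [hgkz]; exact hw)
  subst h1
  -- the two conjugates of `z` in the centraliser of `t` commute
  set t := g * u * g⁻¹ with ht
  set w := g * z * g⁻¹ with hwdef
  set w' := g' * z * g'⁻¹ with hw'def
  rw [hgv] at hgt
  set q := g' * a * g'⁻¹ with hq
  have hqW : InW a b q := ((mem_nrm.1 hgn) a).1 (Or.inr (Or.inl rfl))
  have htq : t = q * w' := by rw [← hgt, hq, hw'def]; group
  have hwt : Commute w t := (Commute.conj_iff g).2 (h.comm_z (Hyp3.InZ.mem h hu).1).symm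
  have haz : Commute a z := h.comm_z h.a_mem
  have hzv : Commute z (a * z) := haz.symm.mul_right (Commute.refl z)
  have hww' : w * w' * w⁻¹ = w * q * w⁻¹ * (q * w') := by
    have hqq : q * q = 1 := (Hyp3.InW.mem h hqW).2.2
    have hw' : w' = q * t := by rw [htq, ← mul_assoc, hqq, one_mul]
    nth_rewrite 1 [hw']
    rw [show w * (q * t) * w⁻¹ = w * q * w⁻¹ * (w * t * w⁻¹) by group, hwt.eq, mul_inv_cancel_right,
      htq]
  have hqq' := h.permW (mem_cz.2 hw) hqW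
  have hcomm : Commute (w * w' * w⁻¹) w' := by
    rw [hww']
    exact ((Hyp3.InW.mem h hqq').2.1 w' hwJ).mul_left
      (((Hyp3.InW.mem h hqW).2.1 w' hwJ).mul_left (Commute.refl w'))
  have hww : w * w' * w⁻¹ = w' := by
    set n := g'⁻¹ * w * g' with hn
    have hnv : Commute n (a * z) := by
      have h2 := (Commute.conj_iff g'⁻¹).2 hwt
      rwa [inv_inv, show g'⁻¹ * t * g' = a * z by rw [← hgt]; group] at h2
    have h3 := S.iso_d a (Or.inr (Or.inl rfl)) h.a_ne n hnv (by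
      have h2 := (Commute.conj_iff g'⁻¹).2 hcomm
      rwa [inv_inv, show g'⁻¹ * (w * w' * w⁻¹) * g' = n * z * n⁻¹ by rw [hn, hw'def]; group,
        show g'⁻¹ * w' * g' = z by rw [hw'def]; group] at h2)
    calc w * w' * w⁻¹ = g' * (n * z * n⁻¹) * g'⁻¹ := by rw [hn, hw'def]; group
      _ = w' := by rw [h3]
  set m := g'⁻¹ * (g * k) with hm
  have hmv : Commute m (a * z) := by
    have h1 := hcom.inv_left
    rwa [show ((g * k)⁻¹ * g')⁻¹ = m by rw [hm]; group] at h1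
  have h3 := S.iso_d a (Or.inr (Or.inl rfl)) h.a_ne m hmv (by
    rw [hm, show g'⁻¹ * (g * k) * z * (g'⁻¹ * (g * k))⁻¹ = g'⁻¹ * (g * k * z * (g * k)⁻¹) * g' by
      group, hgkz]
    have h2 := (Commute.conj_iff g'⁻¹).2 (show Commute w w' from mul_inv_eq_iff_eq_mul.1 hww)
    rwa [inv_inv, show g'⁻¹ * w' * g' = z by rw [hw'def]; group] at h2)
  rw [show g * k = g' * m by rw [hm, mul_inv_cancel_left]]
  exact mul_mem hgn (h.stab (mem_cz.2 (mul_inv_eq_iff_eq_mul.1 h3)))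

end Cfsg.Agent.Fi23Two
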