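import Cfsg.Agent.Fi22Two.IsolatedTools

/-!
# Centraliser `(2² × 2^{1+8}).(3 × PSp₄(3)).2`: the common language

`z` is the involution, `oc z` its `O₂(C z)`, with centre `⟨a, b⟩ × ⟨z⟩`; the centraliser of `z`
normalises the four-group `⟨a, b⟩` and induces all permutations of its involutions.
-/

set_option autoImplicit false
set_option linter.unusedSectionVars false

open Cfsg Subgroup

namespace Cfsg.Agent.Fi23Two

open Cfsg.Agent.LargeExtra Cfsg.Agent.U62Rec
open Cfsg.Agent.Fi22Two (IsoIn cza)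

variable {G : Type*} [Group G] [Finite G]

/-- A member of the four-group. -/
def InW (a b x : G) : Prop := x = 1 ∨ x = a ∨ x = b ∨ x = a * b

/-- A member of the centre. -/
def InZ (z a b x : G) : Prop := InW a b x ∨ InW a b (x * z)

/-- The normaliser of the four-group. -/
def nrm (a b : G) : Subgroup G where
  carrier := {g | ∀ x, InW a b x ↔ InW a b (g * x * g⁻¹)}
  one_mem' := fun x => by rw [one_mul, inv_one, mul_one]
  mul_mem' := fun {g h} hg hh x => by
    rw [hh x, hg (h * x * h⁻¹), show g * (h * x * h⁻¹) * g⁻¹ = g * h * x * (g * h)⁻¹ by group]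
  inv_mem' := fun {g} hg x => by
    rw [hg (g⁻¹ * x * g⁻¹⁻¹), show g * (g⁻¹ * x * g⁻¹⁻¹) * g⁻¹ = x by group]

theorem mem_nrm {a b g : G} : g ∈ nrm a b ↔ ∀ x, InW a b x ↔ InW a b (g * x * g⁻¹) := Iff.rfl

/-- The four-group. -/
def wsub (a b : G) : Subgroup G := closure {a, b}

/-- The hypotheses. -/
structure Hyp3 (z a b : G) : Prop where
  ordz : orderOf z = 2
  a_mem : a ∈ oc z
  b_mem : b ∈ oc z
  aa : a * a = 1
  bb : b * b = 1
  a_ne : a ≠ 1
  b_ne : b ≠ 1
  ab_ne : a ≠ b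
  z_notW : ¬ InW a b z
  cent : centralizer ((oc z : Subgroup G) : Set G) ≤ oc z
  card : Nat.card ↥(oc z) = 2048
  comm : ∀ x ∈ oc z, ∀ y ∈ oc z, x * y * x⁻¹ * y⁻¹ = 1 ∨ x * y * x⁻¹ * y⁻¹ = z
  sq : ∀ x ∈ oc z, x * x = 1 ∨ x * x = z
  centre : ∀ x ∈ oc z, (∀ y ∈ oc z, Commute x y) ↔ InZ z a b x
  stab : centralizer ({z} : Set G) ≤ nrm a b
  trans : ∀ x, (x = b ∨ x = a * b) → ∃ h ∈ centralizer ({z} : Set G), h * a * h⁻¹ = x
  swap : ∃ s ∈ centralizer ({z} : Set G), Commute s a ∧ s * b * s⁻¹ = a * b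
  quot : ∃ f : ↥(cza z a) →* MulAut (Cfsg.PSp 2 (ZMod 3)),
    Function.Surjective f ∧ f.ker = (oc z).subgroupOf (cza z a)
  ext : ∃ E : Subgroup G, E ≤ oc z ∧ IsExtraspecial 2 ↥E ∧ Nat.card ↥E = 512 ∧
    ∀ x ∈ E, InZ z a b x → x = 1 ∨ x = z
  act : ∀ g ∈ centralizer ({z} : Set G),
    (∀ j ∈ oc z, InZ z a b (g * j * g⁻¹ * j⁻¹)) → g ∈ oc z

/-- Coordinates for `oc z` modulo its centre and for the action of `C z ⊓ C a`. -/
structure Mod3 (C : Cfg) (z a b : G) where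
  bar : G → ℕ
  rho : G → ℕ
  bar_lt : ∀ x, bar x < 256
  bar_mul : ∀ x ∈ oc z, ∀ y ∈ oc z, bar (x * y) = bar x ^^^ bar y
  bar_eq : ∀ x ∈ oc z, (bar x = 0 ↔ InZ z a b x)
  bar_surj : ∀ v < 256, ∃ x ∈ oc z, bar x = v
  sq : ∀ x ∈ oc z, x * x = if qv C.l (bar x) then z else 1
  comm : ∀ x ∈ oc z, ∀ y ∈ oc z, x * y * x⁻¹ * y⁻¹ = if fv (bar x) (bar y) then z else 1
  rho_code : ∀ h, IsCode (rho h)
  rho_mul : ∀ g ∈ cza z a, ∀ h ∈ cza z a, rho (g * h) = U62Rec.cmp (rho g) (rho h)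
  rho_act : ∀ h ∈ cza z a, ∀ x ∈ oc z, bar (h * x * h⁻¹) = app (rho h) (bar x)
  rho_ker : ∀ h ∈ cza z a, (rho h = idm ↔ h ∈ oc z)
  rho_gen : ∀ h ∈ cza z a, Gen C.gens (rho h)
  rho_surj : ∀ g ∈ C.gens, ∃ h ∈ cza z a, rho h = g

/-- A pair to be excluded. -/
structure Good3 (z a b g : G) : Prop where
  cz : Commute (g * z * g⁻¹) z
  out : g ∉ nrm a b
  ca : Commute (g * z * g⁻¹) a
  za : Commute z (g * a * g⁻¹)

/-- What holds after the quotients by `a` and `a * z` are known. -/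
structure Standing3 (z a b : G) : Prop where
  hyp : Hyp3 z a b
  iso_d : ∀ x, InW a b x → x ≠ 1 → IsoIn z (x * z)
  cent_a : ∀ g, Commute g a → Commute (g * z * g⁻¹) z → g ∈ nrm a b
  alt : IsoIn z a ∨ centralizer ({a} : Set G) ≤ nrm a b

theorem Hyp3.zz {z a b : G} (h : Hyp3 z a b) : z * z = 1 := by
  rw [← _root_.sq, ← h.ordz]; exact pow_orderOf_eq_one z

theorem Hyp3.z_mem {z a b : G} (h : Hyp3 z a b) : z ∈ oc z := mem_oc_self h.ordz

theorem Hyp3.z_ne_one {z a b : G} (h : Hyp3 z a b) : z ≠ 1 := fun e => h.z_notW (Or.inl e)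

theorem Hyp3.comm_ab {z a b : G} (h : Hyp3 z a b) : Commute a b :=
  (h.centre a h.a_mem).2 (Or.inl (Or.inr (Or.inl rfl))) b h.b_mem

theorem Hyp3.comm_z {z a b : G} (_h : Hyp3 z a b) {x : G} (hx : x ∈ oc z) : Commute x z :=
  mem_centralizer_singleton_iff.1 (oc_le z hx)

theorem mem_wsub {z a b x : G} (h : Hyp3 z a b) : x ∈ wsub a b ↔ InW a b x := by
  have hab := h.comm_ab
  constructor
  · intro hx
    induction hx using closure_induction with
    | mem y hy =>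
      rcases hy with rfl | rfl
      exacts [Or.inr (Or.inl rfl), Or.inr (Or.inr (Or.inl rfl))]
    | one => exact Or.inl rfl
    | inv y _ hy =>
      have : y⁻¹ = y := by
        rcases hy with rfl | rfl | rfl | rfl
        exacts [inv_one, inv_eq_of_mul_eq_one_right h.aa, inv_eq_of_mul_eq_one_right h.bb,
          inv_eq_of_mul_eq_one_right (by rw [hab.symm.mul_mul_mul_comm, h.aa, h.bb, one_mul])]
      rwa [this]
    | mul y y' _ _ hy hy' =>
      have e1 : b * a = a * b := hab.symm.eq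
      have e2 : a * (a * b) = b := by rw [← mul_assoc, h.aa, one_mul]
      have e3 : b * (a * b) = a := by rw [← mul_assoc, e1, mul_assoc, h.bb, mul_one]
      have e4 : a * b * a = b := by rw [mul_assoc, e1, e2]
      have e5 : a * b * b = a := by rw [mul_assoc, h.bb, mul_one]
      have e6 : a * b * (a * b) = 1 := by rw [hab.symm.mul_mul_mul_comm, h.aa, h.bb, one_mul]
      rcases hy with rfl | rfl | rfl | rfl <;> rcases hy' with rfl | rfl | rfl | rfl <;>
        simp only [one_mul, mul_one, h.aa, h.bb, e1, e2, e3, e4, e5, e6, InW] <;> simp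
  · rintro (rfl | rfl | rfl | rfl)
    exacts [one_mem _, subset_closure (Or.inl rfl), subset_closure (Or.inr rfl),
      mul_mem (subset_closure (Or.inl rfl)) (subset_closure (Or.inr rfl))]

end Cfsg.Agent.Fi23Two
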