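import Cfsg.Agent.Fi23Two.PairFacts
import Cfsg.Agent.Fi22Two.IsolatedSmall

/-!
# Counting the common centraliser in `oc z` against the maps centralising a pair
-/

set_option autoImplicit false
set_option linter.unusedSectionVars false

open Cfsg Subgroup

namespace Cfsg.Agent.Fi23Two

open Cfsg.Agent.LargeExtra Cfsg.Agent.U62Rec Cfsg.Agent.Fi22Two

variable {G : Type*} [Group G] [Finite G] {z a b g : G}

/-- The centre of `oc z` meets the other `oc` trivially. -/
theorem Good3.centre_notMem (h : Standing3 z a b) (P : Good3 z a b g) {e : G} (he : InZ z a b e)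
    (hm : e ∈ oc (g * z * g⁻¹)) : e = 1 := by
  by_contra h1
  have hm' : g⁻¹ * e * g⁻¹⁻¹ ∈ oc z := by rw [inv_inv]; exact oc_conj_back hm
  have hout : g⁻¹ ∉ nrm a b := P.inv.out
  by_cases hz : e = z
  · exact hout (h.inJ (hz ▸ hm'))
  · exact hout (h.inJ_conj he h1 hz hm' P.inv.cz)

variable (h : Standing3 z a b) (P : Good3 z a b g) {C : Cfg} (M : Mod3 C z a b)
include h P

theorem Good3.card_le2 {x y : G} (hx : Tr3 z a g⁻¹ x) (hy : Tr3 z a g⁻¹ y) {L : List ℕ} (hL : L.Nodup)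
    (hmem : ∀ m, m ∈ L ↔ Gen C.gens m ∧ U62Rec.cmp (M.rho x) m = U62Rec.cmp m (M.rho x) ∧
      U62Rec.cmp (M.rho y) m = U62Rec.cmp m (M.rho y)) :
    4 * (ulist M g).length ≤ (radU (ulist M g)).length * Nat.gcd L.length 256 := by
  classical
  set w := g * z * g⁻¹ with hw
  obtain ⟨mk, -, hk⟩ := h.hyp.quot
  have hJ : ∀ u : ↥(cza z a), mk u = 1 ↔ (u : G) ∈ oc z := fun u => by
    rw [← MonoidHom.mem_ker, hk, mem_subgroupOf]
  have hmk : ∀ u v : ↥(cza z a), mk u = mk v ↔ (u : G)⁻¹ * v ∈ oc z := fun u v => by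
    rw [← inv_mul_eq_one, ← map_inv, ← map_mul, hJ]; rfl
  let R : Subgroup G := oc z ⊓ centralizer ({w} : Set G)
  have hR : ∀ r : ↥R, (r : G) ∈ oc z ∧ Commute (r : G) w := fun r =>
    ⟨r.2.1, mem_centralizer_singleton_iff.1 r.2.2⟩
  -- conjugates of `R` centralise `z`, `a` and the three involutions of the other side
  have hback : ∀ u v : G, Commute u (g * v * g⁻¹) → Commute (g⁻¹ * u * g) v := fun u v =>
    commute_back.1
  have hs : ∀ r : ↥R, g⁻¹ * r * g ∈ cza z a := fun r => by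
    refine ⟨mem_cz.2 (hback _ _ (hR r).2), mem_centralizer_singleton_iff.2 (hback _ _ ?_).eq⟩
    exact P.commute_conj_a h (hR r).1 (hR r).2
  have htr : ∀ r : ↥R, ∀ u, Tr3 z a g⁻¹ u → Commute (g⁻¹ * r * g) u := fun r u hu => by
    have hc : ∀ e, InZ z a b e → Commute (g⁻¹ * r * g) (g⁻¹ * e * g) := fun e he => by
      have := (commute_conj_iff (g := g⁻¹)).2 (h.hyp.inZ_comm he (hR r).1).symm
      rwa [inv_inv] at this
    rcases hu with rfl | rfl | ⟨rfl, -⟩ <;> rw [inv_inv]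
    exacts [hc _ (h.hyp.el_inZ false false true), hc _ (h.hyp.el_inZ true false true),
      hc _ (h.hyp.el_inZ true false false)]
  let κ : ↥R →* MulAut (Cfsg.PSp 2 (ZMod 3)) :=
    mk.comp (MonoidHom.mk' (fun r => (⟨g⁻¹ * r * g, hs r⟩ : ↥(cza z a)))
    fun r s => Subtype.ext (by
      show g⁻¹ * ((r * s : ↥R) : G) * g = g⁻¹ * r * g * (g⁻¹ * s * g)
      rw [Subgroup.coe_mul]; group))
  -- the kernel
  have hker : ∀ r : ↥R, r ∈ κ.ker ↔ (r : G) ∈ oc w := fun r => by
    have : r ∈ κ.ker ↔ g⁻¹ * (r : G) * g ∈ oc z :=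
      (MonoidHom.mem_ker).trans (hJ ⟨g⁻¹ * r * g, hs r⟩)
    rw [this, hw]
    exact ⟨fun e => by simpa [mul_assoc] using conj_mem_oc (g := g) e, oc_conj_back⟩
  have hkerc : Nat.card ↥κ.ker ≤ (radU (ulist M g)).length := by
    have hin : ∀ r : ↥κ.ker, M.bar ((r : ↥R) : G) ∈ radU (ulist M g) := fun r => by
      obtain ⟨hrj, hrw⟩ := hR r.1
      refine List.mem_filter.2 ⟨mem_ulist.2 ⟨M.bar_lt _, _, hrj, hrw, rfl⟩, List.all_eq_true.2 ?_⟩
      intro v hv
      obtain ⟨-, j, hj, hjw, rfl⟩ := mem_ulist.1 hv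
      have hro := (hker r.1).1 r.2
      have hjw' : j ∈ centralizer ({w} : Set G) := mem_centralizer_singleton_iff.2 hjw.eq
      have hcm : ((r : ↥R) : G) * j * ((r : ↥R) : G)⁻¹ * j⁻¹ ∈ oc w := by
        rw [mul_assoc ((r : ↥R) : G), mul_assoc ((r : ↥R) : G)]
        exact mul_mem hro (by
          have := oc_conj_mem hjw' (inv_mem hro)
          simpa [mul_assoc] using this)
      have hone : ((r : ↥R) : G) * j * ((r : ↥R) : G)⁻¹ * j⁻¹ = 1 :=
        P.centre_notMem h (by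
          rcases h.hyp.comm _ hrj j hj with e | e <;> rw [e]
          exacts [Or.inl (Or.inl rfl), h.hyp.el_inZ false false true]) hcm
      simpa using (M.fv_iff h.hyp hrj hj).2 (mul_inv_eq_iff_eq_mul.1 (mul_inv_eq_one.1 hone))
    have hinj : Function.Injective
        fun r : ↥κ.ker => (⟨_, List.mem_toFinset.2 (hin r)⟩ : ↥(radU (ulist M g)).toFinset) := by
      intro r r' e
      have e' : M.bar ((r : ↥R) : G) = M.bar ((r' : ↥R) : G) := congrArg Subtype.val e
      have h1 := P.centre_notMem h (M.bcong h.hyp (hR r.1).1 (hR r'.1).1 e')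
        (mul_mem (inv_mem ((hker r.1).1 r.2)) ((hker r'.1).1 r'.2))
      exact Subtype.ext (Subtype.ext (inv_mul_eq_one.1 h1))
    refine (Nat.card_le_card_of_injective _ hinj).trans ?_
    rw [Nat.card_eq_fintype_card, Fintype.card_coe]
    exact List.toFinset_card_le _
  -- the image
  have hlift : ∀ m, m ∈ L → ∃ s ∈ cza z a, M.rho s = m := fun m hm => M.lift ((hmem m).1 hm).1
  choose lf hlf hlfe using hlift
  let Sset : Set (MulAut (Cfsg.PSp 2 (ZMod 3))) :=
    {q | ∃ s : ↥(cza z a), mk s = q ∧ (s : G) ∈ cza z a ∧ M.rho s ∈ L}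
  have hxm : x ∈ cza z a := P.inv.tr_mem h hx
  have hym : y ∈ cza z a := P.inv.tr_mem h hy
  have hcl : ∀ {m}, m ∈ L → ∀ u, u = M.rho x ∨ u = M.rho y → U62Rec.cmp u m = U62Rec.cmp m u := by
    intro m hm u hu
    rcases hu with rfl | rfl
    exacts [((hmem m).1 hm).2.1, ((hmem m).1 hm).2.2]
  have hprod : ∀ {m n}, m ∈ L → n ∈ L → U62Rec.cmp m n ∈ L := by
    intro m n hm hn
    refine (hmem _).2 ⟨((hmem m).1 hm).1.mul ((hmem n).1 hn).1, ?_, ?_⟩ <;>
    · rw [← cmp_assoc, hcl hm _ (by tauto), cmp_assoc, hcl hn _ (by tauto), ← cmp_assoc]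
  let S : Subgroup (MulAut (Cfsg.PSp 2 (ZMod 3))) :=
    { carrier := Sset
      mul_mem' := by
        rintro _ _ ⟨s, rfl, hs1, hs2⟩ ⟨t, rfl, ht1, ht2⟩
        refine ⟨s * t, map_mul mk s t, mul_mem hs1 ht1, ?_⟩
        rw [Subgroup.coe_mul, M.rho_mul _ hs1 _ ht1]
        exact hprod hs2 ht2
      one_mem' := ⟨1, map_one mk, one_mem _, by
        rw [OneMemClass.coe_one, M.rone]
        exact (hmem _).2 ⟨Gen.one, by rw [cmp_idm (M.rho_code x), idm_cmp (M.rho_code x)],
          by rw [cmp_idm (M.rho_code y), idm_cmp (M.rho_code y)]⟩⟩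
      inv_mem' := by
        rintro _ ⟨s, rfl, hs1, hs2⟩
        refine ⟨s⁻¹, map_inv mk s, inv_mem hs1, (hmem _).2 ⟨M.rho_gen _ (inv_mem hs1), ?_, ?_⟩⟩
        · rw [InvMemClass.coe_inv, ← M.rho_mul _ hxm _ (inv_mem hs1), ← M.rho_mul _ (inv_mem hs1) _ hxm]
          refine (M.rinj (mul_mem hxm (inv_mem hs1)) (mul_mem (inv_mem hs1) hxm)).2 ?_
          have := (hcl hs2 _ (Or.inl rfl))
          rw [← M.rho_mul _ hxm _ hs1, ← M.rho_mul _ hs1 _ hxm,
            M.rinj (mul_mem hxm hs1) (mul_mem hs1 hxm)] at this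
          exact Iso.comm_inv hs1.1 this
        · rw [InvMemClass.coe_inv, ← M.rho_mul _ hym _ (inv_mem hs1), ← M.rho_mul _ (inv_mem hs1) _ hym]
          refine (M.rinj (mul_mem hym (inv_mem hs1)) (mul_mem (inv_mem hs1) hym)).2 ?_
          have := (hcl hs2 _ (Or.inr rfl))
          rw [← M.rho_mul _ hym _ hs1, ← M.rho_mul _ hs1 _ hym,
            M.rinj (mul_mem hym hs1) (mul_mem hs1 hym)] at this
          exact Iso.comm_inv hs1.1 this }
  have hSc : Nat.card ↥S = L.length := by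
    let f : {m // m ∈ L} → ↥S := fun m =>
      ⟨mk ⟨lf m m.2, hlf m m.2⟩, _, rfl, hlf m m.2, by rw [hlfe]; exact m.2⟩
    have hf : Function.Bijective f := by
      constructor
      · intro m n e
        have e' := (hmk _ _).1 (congrArg Subtype.val e)
        have := (M.rinj (hlf m m.2) (hlf n n.2)).2 e'
        rw [hlfe, hlfe] at this
        exact Subtype.ext this
      · rintro ⟨_, s, rfl, hs1, hs2⟩
        refine ⟨⟨M.rho s, hs2⟩, Subtype.ext ((hmk _ _).2 ?_)⟩
        exact (M.rinj (hlf _ hs2) hs1).1 (hlfe _ hs2)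
    rw [← Nat.card_eq_of_bijective f hf, Nat.card_eq_fintype_card,
      Fintype.card_of_subtype L.toFinset fun _ => List.mem_toFinset, List.toFinset_card_of_nodup hL]
  have hκS : κ.range ≤ S := by
    rintro _ ⟨r, rfl⟩
    refine ⟨⟨g⁻¹ * r * g, hs r⟩, rfl, hs r, (hmem _).2 ⟨M.rho_gen _ (hs r), ?_, ?_⟩⟩
    · rw [← M.rho_mul _ hxm _ (hs r), ← M.rho_mul _ (hs r) _ hxm, (htr r x hx).eq]
    · rw [← M.rho_mul _ hym _ (hs r), ← M.rho_mul _ (hs r) _ hym, (htr r y hy).eq]
  have hQ : Nat.card (MulAut (Cfsg.PSp 2 (ZMod 3))) = 51840 := mulAut_psp.1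
  have hRc : Nat.card ↥κ.range * Nat.card ↥κ.ker = Nat.card ↥R := by
    rw [← index_ker κ, mul_comm, card_mul_index]
  have hrange : Nat.card ↥κ.range ∣ Nat.gcd L.length 256 := by
    refine Nat.dvd_gcd (hSc ▸ card_dvd_of_le hκS) ?_
    have h1 : Nat.card ↥κ.range ∣ 2048 :=
      h.hyp.card ▸ (Dvd.intro _ hRc).trans (card_dvd_of_le inf_le_left)
    have h2 : Nat.card ↥κ.range ∣ 51840 := hQ ▸ Subgroup.card_subgroup_dvd_card _
    exact (Nat.dvd_gcd h1 h2).trans (by norm_num)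
  -- `R` is the full preimage
  have hU : ∀ v, v ∈ ulist M g → ∃ j ∈ R, M.bar j = v := fun v hv => by
    obtain ⟨-, j, hj, hjw, e⟩ := mem_ulist.1 hv
    exact ⟨j, ⟨hj, mem_centralizer_singleton_iff.2 hjw.eq⟩, e⟩
  choose jf hjf hjfe using hU
  let ef : Fin 4 → G := ![1, z, a, a * z]
  have hef : ∀ i, InZ z a b (ef i) := fun i => by
    fin_cases i
    exacts [Or.inl (Or.inl rfl), h.hyp.el_inZ false false true, h.hyp.el_inZ true false false,
      h.hyp.el_inZ true false true]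
  have hefm : ∀ i, ef i ∈ R := fun i => by
    refine ⟨h.hyp.inZ_mem (hef i), mem_centralizer_singleton_iff.2 ?_⟩
    have hwz : Commute w z := P.cz
    have hwa : Commute w a := P.ca
    fin_cases i
    exacts [(Commute.one_left w).eq, hwz.symm.eq, hwa.symm.eq, (hwa.mul_right hwz).symm.eq]
  have hefi : Function.Injective ef := by
    have he : ∀ i : Fin 4, ef i = h.hyp.el (![false, false, true, true] i) false
        (![false, true, false, true] i) := fun i => by fin_cases i <;> rfl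
    intro i j e
    rw [he, he] at e
    obtain ⟨e1, -, e2⟩ := h.hyp.el_inj e
    revert e1 e2
    fin_cases i <;> fin_cases j <;> simp
  have hbig : 4 * (ulist M g).length ≤ Nat.card ↥R := by
    let f : {v // v ∈ ulist M g} × Fin 4 → ↥R := fun p =>
      ⟨jf p.1 p.1.2 * ef p.2, mul_mem (hjf _ _) (hefm _)⟩
    have hf : Function.Injective f := by
      rintro ⟨v, i⟩ ⟨v', i'⟩ e
      have e' : jf v v.2 * ef i = jf v' v'.2 * ef i' := congrArg Subtype.val e
      have hz0 : ∀ i, M.bar (ef i) = 0 := fun i => (M.bar_eq _ (hefm i).1).2 (hef i)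
      have hb := congrArg M.bar e'
      rw [M.bar_mul _ (hjf v v.2).1 _ (hefm i).1, M.bar_mul _ (hjf v' v'.2).1 _ (hefm i').1,
        hz0, hz0, Nat.xor_zero, Nat.xor_zero, hjfe, hjfe] at hb
      obtain rfl : v = v' := Subtype.ext hb
      exact Prod.ext rfl (hefi (mul_left_cancel e'))
    have := Nat.card_le_card_of_injective f hf
    rw [Nat.card_prod, Nat.card_eq_fintype_card (α := {v // v ∈ ulist M g}),
      Fintype.card_of_subtype (ulist M g).toFinset fun _ => List.mem_toFinset,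
      List.toFinset_card_of_nodup (ulist_nodup M (g := g)),
      Nat.card_eq_fintype_card,
      Fintype.card_fin] at this
    omega
  calc 4 * (ulist M g).length ≤ Nat.card ↥R := hbig
    _ = Nat.card ↥κ.ker * Nat.card ↥κ.range := by rw [← hRc, mul_comm]
    _ ≤ _ := Nat.mul_le_mul hkerc
      (Nat.le_of_dvd (Nat.gcd_pos_of_pos_right _ (by norm_num)) hrange)


omit P in
/-- Too few maps on both sides is impossible. -/
theorem Good3.count_absurd (P : Good3 z a b g) {x y x' y' : G} (hx : Tr3 z a g x)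
    (hy : Tr3 z a g y) (hs : Small C (M.rho x) (M.rho y) (ulist M g)) (hx' : Tr3 z a g⁻¹ x')
    (hy' : Tr3 z a g⁻¹ y') (hs' : Small C (M.rho x') (M.rho y') (ulist M g⁻¹)) : False := by
  obtain ⟨L, hL, hmem, hlt⟩ := hs
  obtain ⟨L', hL', hmem', hlt'⟩ := hs'
  have h1 := P.card_le2 h M hx' hy' hL' hmem'
  have h2 := P.inv.card_le2 h M (x := x) (y := y) (by rw [inv_inv]; exact hx)
    (by rw [inv_inv]; exact hy) hL hmem
  have h3 := Nat.mul_le_mul h1 h2
  have h4 := Nat.mul_lt_mul'' hlt hlt'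
  have e : (radU (ulist M g)).length * Nat.gcd L'.length 256 *
        ((radU (ulist M g⁻¹)).length * Nat.gcd L.length 256) =
      (radU (ulist M g)).length * Nat.gcd L.length 256 *
        ((radU (ulist M g⁻¹)).length * Nat.gcd L'.length 256) := by ring
  omega

end Cfsg.Agent.Fi23Two
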