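import Cfsg.Agent.S1714
import Cfsg.Agent.CosetCert.Fi22Order.Main

/-!
# From a centraliser `2.Fi₂₂` to `Fi₂₃`
-/

set_option autoImplicit false

open Cfsg Subgroup

namespace Cfsg.Agent.Fi23Two

theorem fi22_commutator : commutator Cfsg.Spor.Fi22 = ⊤ := by
  obtain ⟨hs, hcard⟩ := CosetCert.Fi22Order.order_and_simple
  haveI := hs
  haveI : (commutator Cfsg.Spor.Fi22).Normal := inferInstance
  refine ((inferInstance : (commutator Cfsg.Spor.Fi22).Normal).eq_bot_or_eq_top).resolve_left
    fun hbot => ?_
  have hcomm : ∀ a b : Cfsg.Spor.Fi22, a * b = b * a := fun a b =>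
    commutatorElement_eq_one_iff_mul_comm.1 (Subgroup.mem_bot.1 (hbot ▸
      commutator_mem_commutator (mem_top a) (mem_top b)))
  letI : CommGroup Cfsg.Spor.Fi22 := { mul_comm := hcomm }
  have hp : (Nat.card Cfsg.Spor.Fi22).Prime := IsSimpleGroup.prime_card
  rw [hcard] at hp
  exact absurd hp (by norm_num)

variable {G : Type*} [Group G] [Finite G]

/-- An involution in the derived subgroup of its centraliser `·.Fi₂₂` that is not weakly closed
there gives `Fi₂₃`. -/
theorem fi23_of_fi22 (v : G) (hv : orderOf v = 2)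
    [((zpowers v).subgroupOf (centralizer ({v} : Set G))).Normal]
    (e : Cfsg.Spor.IsoFi22 (↥(centralizer ({v} : Set G)) ⧸
      (zpowers v).subgroupOf (centralizer ({v} : Set G))))
    (hder : ∀ hm : v ∈ centralizer ({v} : Set G),
      (⟨v, hm⟩ : ↥(centralizer ({v} : Set G))) ∈ commutator ↥(centralizer ({v} : Set G)))
    (hnwc : ∃ g : G, g * v * g⁻¹ ∈ centralizer ({v} : Set G) ∧ g * v * g⁻¹ ≠ v) :
    Cfsg.Spor.IsoFi23 G := by
  obtain ⟨f⟩ := e
  set C := centralizer ({v} : Set G) with hC
  set N := (zpowers v).subgroupOf C with hN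
  haveI : IsSimpleGroup Cfsg.Spor.Fi22 := CosetCert.Fi22Order.order_and_simple.1
  haveI : Nontrivial (↥C ⧸ N) := f.toEquiv.nontrivial
  haveI : IsSimpleGroup (↥C ⧸ N) := f.isSimpleGroup
  have htop : commutator (↥C ⧸ N) = ⊤ := by
    have := map_top_of_surjective f.symm.toMonoidHom f.symm.surjective
    rw [← fi22_commutator, commutator_def, map_commutator, map_top_of_surjective _ f.symm.surjective]
      at this
    rw [commutator_def]; exact this
  have hmap : (commutator ↥C).map (QuotientGroup.mk' N) = ⊤ := by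
    rw [commutator_def, map_commutator, map_top_of_surjective _ (QuotientGroup.mk'_surjective N),
      ← commutator_def, htop]
  have hvC : v ∈ C := mem_centralizer_singleton_iff.2 rfl
  have hNle : N ≤ commutator ↥C := by
    intro x hx
    obtain ⟨k, hk⟩ := mem_zpowers_iff.1 (mem_subgroupOf.1 hx)
    have : x = (⟨v, hvC⟩ : ↥C) ^ k := Subtype.ext (by rw [SubgroupClass.coe_zpow]; exact hk.symm)
    rw [this]
    exact zpow_mem (hder hvC) k
  have hperf : commutator ↥C = ⊤ := by
    refine eq_top_iff.2 fun x _ => ?_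
    obtain ⟨y, hy, hyx⟩ := (hmap.symm ▸ mem_top _ : QuotientGroup.mk' N x ∈
      (commutator ↥C).map (QuotientGroup.mk' N))
    have : y⁻¹ * x ∈ commutator ↥C := hNle ((QuotientGroup.eq).1 hyx)
    simpa using mul_mem hy this
  have hcen : Subgroup.center ↥C = N := by
    refine le_antisymm (fun x hx => ?_) fun x hx => ?_
    · have hn : ((Subgroup.center ↥C).map (QuotientGroup.mk' N)).Normal :=
        Normal.map inferInstance _ (QuotientGroup.mk'_surjective N)
      rcases hn.eq_bot_or_eq_top with h | h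
      · have h1 : QuotientGroup.mk' N x ∈ (⊥ : Subgroup (↥C ⧸ N)) := h ▸ mem_map_of_mem _ hx
        exact (QuotientGroup.eq_one_iff x).1 (mem_bot.1 h1)
      · exfalso
        have hc : ∀ a b : ↥C ⧸ N, a * b = b * a := by
          intro a b
          obtain ⟨a', ha', rfl⟩ := (h.symm ▸ mem_top a : a ∈
            (Subgroup.center ↥C).map (QuotientGroup.mk' N))
          obtain ⟨b', rfl⟩ := QuotientGroup.mk'_surjective N b
          rw [← map_mul, ← map_mul, (Subgroup.mem_center_iff.1 ha' b').symm]
        have hbot : commutator (↥C ⧸ N) = ⊥ := by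
          rw [commutator_eq_bot_iff_center_eq_top, eq_top_iff]
          exact fun a _ => Subgroup.mem_center_iff.2 fun b => hc b a
        exact bot_ne_top (hbot.symm.trans htop)
    · refine Subgroup.mem_center_iff.2 fun y => Subtype.ext ?_
      have hy : Commute (y : G) v := mem_centralizer_singleton_iff.1 y.2
      obtain ⟨k, hk⟩ := mem_zpowers_iff.1 (mem_subgroupOf.1 hx)
      simp only [Subgroup.coe_mul]
      rw [← hk]
      exact (hy.zpow_right k).eq
  have hq : Cfsg.IsQuasisimple ↥C := by
    refine ⟨⟨hperf⟩, ?_⟩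
    haveI : Nontrivial (↥C ⧸ Subgroup.center ↥C) :=
      (QuotientGroup.quotientMulEquivOfEq hcen).toEquiv.nontrivial
    exact (QuotientGroup.quotientMulEquivOfEq hcen).isSimpleGroup
  exact S1714.result v hv hq ⟨f⟩ hnwc

end Cfsg.Agent.Fi23Two
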