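import Mathlib.GroupTheory.PGroup
import Mathlib.GroupTheory.QuotientGroup.Basic
import Mathlib.GroupTheory.OrderOfElement

/-!
# Controlling a class of involutions

Let `a` be an involution whose centraliser lies in `N`, and `Y` a class of involutions not containing
`a` whose fusion into `N` is controlled by `N`. If every 2-subgroup of `N` is centralised by a member
of `Y` in `N`, and for such a member `y` the elements `a`, `y` commute with `C (a y) ≤ N`, then all of
`Y` lies in `N`. The proof is an induction through the centraliser of an involution of `⟨a, y⟩` and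
through the quotient by it when it is central.
-/

set_option autoImplicit false

open Subgroup

namespace Cfsg.Agent.Fi23Two

universe u

/-- The hypotheses. -/
structure Controlled {G : Type u} [Group G] (N : Subgroup G) (a : G) (Y : Set G) : Prop where
  aa : a * a = 1
  a_ne : a ≠ 1
  a_notY : a ∉ Y
  conj : ∀ g : G, ∀ y ∈ Y, g * y * g⁻¹ ∈ Y
  sq : ∀ y ∈ Y, y * y = 1
  cent : centralizer ({a} : Set G) ≤ N
  fusion : ∀ g : G, ∀ y ∈ Y, y ∈ N → g * y * g⁻¹ ∈ N → g ∈ N
  comm : ∀ y ∈ Y, y ∈ N → Commute a y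
  cent_mul : ∀ y ∈ Y, y ∈ N → centralizer ({a * y} : Set G) ≤ N
  two : ∀ P : Subgroup G, P ≤ N → IsPGroup 2 P → ∃ y ∈ Y, y ∈ N ∧ ∀ p ∈ P, Commute y p

/-- Two involutions whose product has odd order are conjugate. -/
theorem exists_conj_of_odd {G : Type u} [Group G] {a y : G} (ha : a * a = 1) (hy : y * y = 1)
    (ho : Odd (orderOf (a * y))) : ∃ g : G, g * a * g⁻¹ = y := by
  obtain ⟨k, hk⟩ := ho
  refine ⟨(a * y) ^ k, ?_⟩
  have hai : a⁻¹ = a := inv_eq_of_mul_eq_one_right ha
  have hyi : y⁻¹ = y := inv_eq_of_mul_eq_one_right hy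
  have h1 : ∀ n : ℕ, a * ((a * y) ^ n)⁻¹ = (a * y) ^ n * a := by
    intro n
    have h := map_pow (MulAut.conj a) (a * y) n
    simp only [MulAut.conj_apply] at h
    rw [show a * (a * y) * a⁻¹ = (a * y)⁻¹ by
      rw [mul_inv_rev, hyi, hai, ← mul_assoc, ha, one_mul], inv_pow] at h
    rw [← h, hai, ← mul_assoc, ← mul_assoc, ha, one_mul]
  have h2 : (a * y) ^ (k + k) = y * a := by
    have h3 : (a * y) ^ (k + k) * (a * y) = 1 := by
      rw [← pow_succ, show k + k + 1 = orderOf (a * y) by omega, pow_orderOf_eq_one]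
    rw [eq_inv_of_mul_eq_one_left h3, mul_inv_rev, hyi, hai]
  rw [mul_assoc, h1 k, ← mul_assoc, ← pow_add, h2, mul_assoc, ha, mul_one]

theorem mem_of_controlled_aux : ∀ (n : ℕ) {G : Type u} [Group G] [Finite G] (N : Subgroup G) (a : G)
    (Y : Set G), Nat.card G = n → Controlled N a Y → ∀ y ∈ Y, y ∈ N := by
  intro n
  induction n using Nat.strong_induction_on with
  | _ n IH =>
    intro G _ _ N a Y hn h y hy
    by_contra hyN
    have haN : a ∈ N := h.cent (mem_centralizer_singleton_iff.2 rfl)
    rcases Nat.even_or_odd (orderOf (a * y)) with ⟨m, hm⟩ | ho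
    swap
    · obtain ⟨g, hg⟩ := exists_conj_of_odd h.aa (h.sq y hy) ho
      refine h.a_notY ?_
      have := h.conj g⁻¹ y hy
      rwa [← hg, inv_inv, show g⁻¹ * (g * a * g⁻¹) * g = a by group] at this
    -- the central involution of the dihedral group
    set t := (a * y) ^ m with ht
    have hpos : 0 < orderOf (a * y) := orderOf_pos _
    have ht1 : t ≠ 1 := pow_ne_one_of_lt_orderOf (by omega) (by omega)
    have ht2 : t * t = 1 := by rw [ht, ← pow_add, ← hm, pow_orderOf_eq_one]
    have hai : a⁻¹ = a := inv_eq_of_mul_eq_one_right h.aa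
    have hta : Commute a t := by
      have h1 := map_pow (MulAut.conj a) (a * y) m
      simp only [MulAut.conj_apply] at h1
      rw [show a * (a * y) * a⁻¹ = (a * y)⁻¹ by
        rw [mul_inv_rev, inv_eq_of_mul_eq_one_right (h.sq y hy), hai, ← mul_assoc, h.aa, one_mul],
        inv_pow, inv_eq_of_mul_eq_one_right ht2] at h1
      exact mul_inv_eq_iff_eq_mul.1 h1
    have hty : Commute y t := by
      have hc : Commute (a * y) t := Commute.self_pow _ _
      have := hta.mul_left hc
      rwa [← mul_assoc, h.aa, one_mul] at this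
    have htN : t ∈ N := h.cent (mem_centralizer_singleton_iff.2 hta.symm.eq)
    set X := centralizer ({t} : Set G) with hX
    have haX : a ∈ X := mem_centralizer_singleton_iff.2 hta.eq
    have hyX : y ∈ X := mem_centralizer_singleton_iff.2 hty.eq
    by_cases htop : X = ⊤
    swap
    · -- inside the centraliser
      have hlt : Nat.card X < n := hn ▸ lt_of_le_of_ne (Subgroup.card_le_card_group X)
        fun e => htop (Subgroup.eq_top_of_card_eq X e)
      refine hyN (IH _ hlt (G := ↥X) (N.subgroupOf X) ⟨a, haX⟩ {x | (x : G) ∈ Y} rfl ?_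
        ⟨y, hyX⟩ hy)
      refine ⟨Subtype.ext h.aa, fun e => h.a_ne (congrArg Subtype.val e), h.a_notY,
        fun g v hv => h.conj g v hv, fun v hv => Subtype.ext (h.sq v hv), fun v hv => ?_,
        fun g v hv hvN hg => h.fusion g v hv hvN hg, fun v hv hvN => Subtype.ext (h.comm v hv hvN).eq,
        fun v hv hvN x hx => ?_, fun P hPN hP => ?_⟩
      · exact h.cent (mem_centralizer_singleton_iff.2
          (congrArg Subtype.val (mem_centralizer_singleton_iff.1 hv)))
      · exact h.cent_mul v hv hvN (mem_centralizer_singleton_iff.2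
          (congrArg Subtype.val (mem_centralizer_singleton_iff.1 hx)))
      · let t' : ↥X := ⟨t, mem_centralizer_singleton_iff.2 rfl⟩
        have : (zpowers t').Normal := ⟨fun v hv g => by
          obtain ⟨k, rfl⟩ := hv
          have hc : Commute g t' := Subtype.ext (mem_centralizer_singleton_iff.1 g.2)
          show g * t' ^ k * g⁻¹ ∈ zpowers t'
          rw [(hc.zpow_right k).eq, mul_inv_cancel_right]
          exact ⟨k, rfl⟩⟩
        have ht'2 : IsPGroup 2 (zpowers t') := IsPGroup.of_card (n := 1) (by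
          rw [Nat.card_zpowers, orderOf_eq_prime (by rw [sq]; exact Subtype.ext ht2)
            (fun e => ht1 (congrArg Subtype.val e)), pow_one])
        obtain ⟨v, hv, hvN, hvc⟩ := h.two ((P ⊔ zpowers t').map X.subtype)
          (map_le_iff_le_comap.2 (sup_le hPN (zpowers_le.2 htN)))
          ((hP.to_sup_of_normal_right ht'2).map _)
        have hvt : Commute v t := hvc t ⟨t', mem_sup_right (mem_zpowers _), rfl⟩
        exact ⟨⟨v, mem_centralizer_singleton_iff.2 hvt.eq⟩, hv, hvN, fun p hp =>
          Subtype.ext (hvc p ⟨p, mem_sup_left hp, rfl⟩).eq⟩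
    -- `t` is central
    have hcen : ∀ g : G, Commute g t := fun g =>
      mem_centralizer_singleton_iff.1 (htop ▸ mem_top g : g ∈ X)
    by_cases hat : a = t
    · exact hyN (h.cent (mem_centralizer_singleton_iff.2 (hat ▸ (hcen y)).eq))
    by_cases hatY : a * t ∈ Y
    · refine hyN (h.cent_mul _ hatY (mul_mem haN htN) (mem_centralizer_singleton_iff.2 ?_))
      rw [show a * (a * t) = t by rw [← mul_assoc, h.aa, one_mul]]
      exact (hcen y).eq
    by_cases htY : t ∈ Y
    · refine hyN (h.fusion y t htY htN ?_)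
      rwa [(hcen y).eq, mul_inv_cancel_right]
    have hTn : (zpowers t).Normal := ⟨fun v hv g => by
      obtain ⟨k, rfl⟩ := hv
      show g * t ^ k * g⁻¹ ∈ zpowers t
      rw [((hcen g).zpow_right k).eq, mul_inv_cancel_right]
      exact ⟨k, rfl⟩⟩
    set q := QuotientGroup.mk' (zpowers t) with hq
    have hsurj : Function.Surjective q := QuotientGroup.mk'_surjective _
    have hker : ∀ v : G, q v = 1 ↔ v = 1 ∨ v = t := by
      intro v
      rw [hq, QuotientGroup.mk'_apply, QuotientGroup.eq_one_iff]
      constructor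
      · intro hv
        obtain ⟨k, rfl⟩ := mem_zpowers_iff.1 hv
        rcases Int.even_or_odd' k with ⟨j, rfl | rfl⟩
        · left; rw [zpow_mul, zpow_two, ht2, one_zpow]
        · right; rw [zpow_add_one, zpow_mul, zpow_two, ht2, one_zpow, one_mul]
      · rintro (rfl | rfl)
        exacts [one_mem _, mem_zpowers _]
    have heq : ∀ u v : G, q u = q v ↔ u = v ∨ u = v * t := by
      intro u v
      rw [eq_comm (a := q u), ← inv_mul_eq_one, ← map_inv, ← map_mul, hker, inv_mul_eq_one,
        inv_mul_eq_iff_eq_mul]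
      exact or_congr eq_comm Iff.rfl
    have hback : ∀ v : G, q v ∈ N.map q → v ∈ N := by
      rintro v ⟨u, hu, e⟩
      rcases (heq u v).1 e with rfl | rfl
      · exact hu
      · simpa using mul_mem hu (inv_mem htN)
    have hlt : Nat.card (G ⧸ zpowers t) < n := by
      have h1 := (zpowers t).card_eq_card_quotient_mul_card_subgroup
      rw [Nat.card_zpowers, orderOf_eq_prime (by rw [sq]; exact ht2) ht1, hn] at h1
      have : 0 < Nat.card (G ⧸ zpowers t) := Nat.card_pos
      omega
    -- what normalises `C u` and moves a member of `Y` in it into `N` lies in `N`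
    have hmove : ∀ u : G, centralizer ({u} : Set G) ≤ N → (∃ v ∈ Y, v ∈ N ∧ Commute v u) →
        ∀ x : G, q (x * u * x⁻¹) = q u → x ∈ N := by
      intro u hu ⟨v, hv, hvN, hvu⟩ x hx
      refine h.fusion x v hv hvN (hu (mem_centralizer_singleton_iff.2 ?_))
      have hc : Commute (x * v * x⁻¹) (x * u * x⁻¹) := (Commute.conj_iff x).2 hvu
      rcases (heq _ _).1 hx with e | e <;> rw [e] at hc
      · exact hc.eq
      · have := hc.mul_right (hcen (x * v * x⁻¹))
        rw [mul_assoc u t t, ht2, mul_one] at this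
        exact this.eq
    refine hyN (hback y (IH _ hlt (G := G ⧸ zpowers t) (N.map q) (q a) (q '' Y) rfl ?_
      (q y) ⟨y, hy, rfl⟩))
    refine ⟨by rw [← map_mul, h.aa, map_one], fun e => ?_, ?_, ?_, ?_, fun x hx => ?_, ?_, ?_, ?_,
      fun P hPN hP => ?_⟩
    · exact ((hker a).1 e).elim h.a_ne hat
    · rintro ⟨v, hv, e⟩
      rcases (heq v a).1 e with rfl | rfl
      exacts [h.a_notY hv, hatY hv]
    · intro g _ ⟨v, hv, e⟩
      obtain ⟨g, rfl⟩ := hsurj g
      exact ⟨g * v * g⁻¹, h.conj g v hv, by rw [← e, map_mul, map_mul, map_inv]⟩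
    · rintro _ ⟨v, hv, rfl⟩
      rw [← map_mul, h.sq v hv, map_one]
    · obtain ⟨x, rfl⟩ := hsurj x
      refine mem_map_of_mem q (hmove a h.cent ?_ x ?_)
      · obtain ⟨v, hv, hvN, hvc⟩ := h.two (zpowers a) (zpowers_le.2 haN) (IsPGroup.of_card (n := 1)
          (by rw [Nat.card_zpowers, orderOf_eq_prime (by rw [sq]; exact h.aa) h.a_ne, pow_one]))
        exact ⟨v, hv, hvN, hvc a (mem_zpowers _)⟩
      · rw [map_mul, map_mul, map_inv, mem_centralizer_singleton_iff.1 hx, mul_inv_cancel_right]
    · rintro g _ ⟨v, hv, rfl⟩ hvN hg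
      obtain ⟨g, rfl⟩ := hsurj g
      rw [← map_inv, ← map_mul, ← map_mul] at hg
      exact mem_map_of_mem q (h.fusion g v hv (hback v hvN) (hback _ hg))
    · rintro _ ⟨v, hv, rfl⟩ hvN
      exact (h.comm v hv (hback v hvN)).map q
    · rintro _ ⟨v, hv, rfl⟩ hvN x hx
      obtain ⟨x, rfl⟩ := hsurj x
      have hvN' := hback v hvN
      refine mem_map_of_mem q (hmove (a * v) (h.cent_mul v hv hvN')
        ⟨v, hv, hvN', (h.comm v hv hvN').symm.mul_right (Commute.refl v)⟩ x ?_)
      rw [← map_mul] at hx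
      rw [map_mul, map_mul, map_inv, mem_centralizer_singleton_iff.1 hx, mul_inv_cancel_right]
    · have hk : IsPGroup 2 q.ker := by
        rw [hq, QuotientGroup.ker_mk']
        exact IsPGroup.of_card (n := 1) (by
          rw [Nat.card_zpowers, orderOf_eq_prime (by rw [sq]; exact ht2) ht1, pow_one])
      obtain ⟨v, hv, hvN, hvc⟩ := h.two (P.comap q) (fun x hx => hback x (hPN hx))
        (hP.comap_of_ker_isPGroup q hk)
      refine ⟨q v, ⟨v, hv, rfl⟩, mem_map_of_mem q hvN, fun p hp => ?_⟩
      obtain ⟨p, rfl⟩ := hsurj p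
      exact (hvc p hp).map q

/-- All of `Y` lies in `N`. -/
theorem Controlled.mem {G : Type u} [Group G] [Finite G] {N : Subgroup G} {a : G} {Y : Set G}
    (h : Controlled N a Y) {y : G} (hy : y ∈ Y) : y ∈ N :=
  mem_of_controlled_aux _ N a Y rfl h y hy

end Cfsg.Agent.Fi23Two
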