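import Cfsg.Agent.Fi22Two.Conj
import Cfsg.Agent.Fi22Two.Basic
import Cfsg.Agent.Fi22Two.Parity
import Cfsg.Agent.Fi22Two.IsolatedTwisted
import Cfsg.Agent.Fi23Two.Common
import Cfsg.Agent.Fi23Two.Fusion
import Cfsg.Agent.Fi23Two.AutQuot
import Cfsg.Agent.Invol.IsolatedApps
import Cfsg.Agent.U62Rec.Main
import Cfsg.Agent.S0283

/-!
# From control of the fusion of `z` to the two conclusions
-/

set_option autoImplicit false
open Cfsg Subgroup
namespace Cfsg.Agent.Fi23Two
open Cfsg.Agent.LargeExtra Cfsg.Agent.U62Rec Cfsg.Agent.Fi22Two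
variable {G : Type*} [Group G] [Finite G] {z a b : G}


/-- Members of `W` commute. -/
theorem Hyp3.wcomm (h : Hyp3 z a b) {x y : G} (hx : InW a b x) (hy : InW a b y) : Commute x y := by
  have hxm : x ∈ oc z := by
    rcases hx with rfl | rfl | rfl | rfl
    exacts [one_mem _, h.a_mem, h.b_mem, mul_mem h.a_mem h.b_mem]
  have hym : y ∈ oc z := by
    rcases hy with rfl | rfl | rfl | rfl
    exacts [one_mem _, h.a_mem, h.b_mem, mul_mem h.a_mem h.b_mem]
  exact (h.centre x hxm).2 (Or.inl hx) y hym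

theorem Hyp3.ba (h : Hyp3 z a b) : b * a = a * b :=
  (h.wcomm (x := b) (y := a) (Or.inr (Or.inr (Or.inl rfl))) (Or.inr (Or.inl rfl))).eq

theorem Hyp3.wz (h : Hyp3 z a b) {x : G} (hx : InW a b x) : Commute x z := by
  have hxm : x ∈ oc z := by
    rcases hx with rfl | rfl | rfl | rfl
    exacts [one_mem _, h.a_mem, h.b_mem, mul_mem h.a_mem h.b_mem]
  exact mem_centralizer_singleton_iff.1 (oc_le z hxm)

theorem Hyp3.wsq (h : Hyp3 z a b) {x : G} (hx : InW a b x) : x * x = 1 := by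
  rcases hx with rfl | rfl | rfl | rfl
  exacts [one_mul 1, h.aa, h.bb, by
    rw [mul_assoc, ← mul_assoc b, h.ba, mul_assoc a, h.bb, mul_one, h.aa]]

/-- A member of `W` other than `1` is the conjugate of `a` by a member of `C z`. -/
theorem Hyp3.exists_move (h : Hyp3 z a b) {x : G} (hx : InW a b x) (hx1 : x ≠ 1) :
    ∃ k ∈ centralizer ({z} : Set G), k * a * k⁻¹ = x := by
  rcases hx with e | e | e | e
  · exact absurd e hx1
  · exact ⟨1, one_mem _, by rw [e]; group⟩
  · exact h.trans x (Or.inl e)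
  · exact h.trans x (Or.inr e)

/-- An involution acting on `W` fixes a member other than `1`. -/
theorem Hyp3.exists_fix (h : Hyp3 z a b) {u : G} (hu : u ∈ nrm a b) (huu : u * u = 1) :
    ∃ x, InW a b x ∧ x ≠ 1 ∧ Commute u x := by
  have hui : u⁻¹ = u := inv_eq_of_mul_eq_one_right huu
  rcases (hu a).1 (Or.inr (Or.inl rfl)) with e | e | e | e
  · exact absurd (conj_eq_one_iff.1 e) h.a_ne
  · exact ⟨a, Or.inr (Or.inl rfl), h.a_ne, mul_inv_eq_iff_eq_mul.1 e⟩
  · refine ⟨a * b, Or.inr (Or.inr (Or.inr rfl)), fun e1 => h.ab_ne ?_, mul_inv_eq_iff_eq_mul.1 ?_⟩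
    · rw [eq_inv_of_mul_eq_one_left e1]; exact inv_eq_of_mul_eq_one_right h.bb
    · have e' : u * b * u⁻¹ = a := by
        rw [← e, hui, show u * (u * a * u) * u = u * u * a * (u * u) by group, huu, one_mul, mul_one]
      rw [show u * (a * b) * u⁻¹ = u * a * u⁻¹ * (u * b * u⁻¹) by group, e, e', h.ba]
  · refine ⟨b, Or.inr (Or.inr (Or.inl rfl)), h.b_ne, mul_inv_eq_iff_eq_mul.1 ?_⟩
    have e' : u * (a * b) * u⁻¹ = a := by
      rw [← e, hui, show u * (u * a * u) * u = u * u * a * (u * u) by group, huu, one_mul, mul_one]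
    rw [show u * (a * b) * u⁻¹ = u * a * u⁻¹ * (u * b * u⁻¹) by group, e] at e'
    calc u * b * u⁻¹ = (a * b)⁻¹ * (a * b * (u * b * u⁻¹)) := by group
      _ = (a * b)⁻¹ * a := by rw [e']
      _ = b := by rw [mul_inv_rev, mul_assoc, inv_mul_cancel, mul_one, inv_eq_of_mul_eq_one_right h.bb]

/-- Two commuting involutions acting on `W` fix the same member other than `1`. -/
theorem Hyp3.exists_fix_two (h : Hyp3 z a b) {u v : G} (hu : u ∈ nrm a b) (huu : u * u = 1)
    (hv : v ∈ nrm a b) (hvv : v * v = 1) (huv : Commute u v) :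
    ∃ x, InW a b x ∧ x ≠ 1 ∧ Commute u x ∧ Commute v x := by
  obtain ⟨x, hx, hx1, hux⟩ := h.exists_fix hu huu
  set y := v * x * v⁻¹ with hy
  have hyW : InW a b y := (hv x).1 hx
  have huy : Commute u y := (huv.mul_right hux).mul_right huv.inv_right
  by_cases hyx : y = x
  · exact ⟨x, hx, hx1, hux, mul_inv_eq_iff_eq_mul.1 hyx⟩
  · refine ⟨x * y, ?_, fun e => hyx ?_, hux.mul_right huy, mul_inv_eq_iff_eq_mul.1 ?_⟩
    · have hm := mul_mem ((mem_wsub h).2 hx) ((mem_wsub h).2 hyW)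
      exact (mem_wsub h).1 hm
    · rw [eq_inv_of_mul_eq_one_right e]; exact inv_eq_of_mul_eq_one_right (h.wsq hx)
    · have e1 : v * y * v⁻¹ = x := by
        rw [hy, inv_eq_of_mul_eq_one_right hvv, show v * (v * x * v) * v = v * v * x * (v * v) by group,
          hvv, one_mul, mul_one]
      rw [show v * (x * y) * v⁻¹ = v * x * v⁻¹ * (v * y * v⁻¹) by group, e1, ← hy,
        (h.wcomm hyW hx).eq]

/-- A pair with fusion outside `N(W)` gives one in standard position. -/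
theorem Hyp3.exists_pair (h : Hyp3 z a b) {g : G} (hcz : Commute (g * z * g⁻¹) z)
    (hout : g ∉ nrm a b) : ∃ g' : G, Commute (g' * z * g'⁻¹) z ∧ g' ∉ nrm a b ∧
      Commute (g' * z * g'⁻¹) a ∧ Commute z (g' * a * g'⁻¹) := by
  have hzz : ∀ k : G, k * z * k⁻¹ * (k * z * k⁻¹) = 1 := fun k => by
    rw [show k * z * k⁻¹ * (k * z * k⁻¹) = k * (z * z) * k⁻¹ by group, h.zz]; group
  obtain ⟨x, hx, hx1, hwx⟩ := h.exists_fix (h.stab (mem_cz.2 hcz)) (hzz g)
  obtain ⟨k, hk, rfl⟩ := h.exists_move hx hx1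
  set g1 := k⁻¹ * g with hg1
  have ek : k⁻¹ * z * k⁻¹⁻¹ = z := mul_inv_eq_iff_eq_mul.2 (mem_cz.1 (inv_mem hk)).eq
  have hw1 : g1 * z * g1⁻¹ = k⁻¹ * (g * z * g⁻¹) * k⁻¹⁻¹ := by rw [hg1]; group
  have hcz1 : Commute (g1 * z * g1⁻¹) z := by
    have := (Commute.conj_iff k⁻¹).2 hcz
    rwa [ek, ← hw1] at this
  have hca1 : Commute (g1 * z * g1⁻¹) a := by
    have := (Commute.conj_iff k⁻¹).2 hwx
    rwa [← hw1, show k⁻¹ * (k * a * k⁻¹) * k⁻¹⁻¹ = a by group] at this
  have hout1 : g1 ∉ nrm a b := fun e => hout (by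
    rw [show g = k * g1 by rw [hg1]; group]; exact mul_mem (h.stab hk) e)
  have hu : g1⁻¹ * z * g1 ∈ centralizer ({z} : Set G) := mem_cz.2 (commute_back.1 hcz1.symm)
  have hv : g1⁻¹ * a * g1 ∈ centralizer ({z} : Set G) := mem_cz.2 (commute_back.1 hca1.symm)
  obtain ⟨y, hy, hy1, huy, -⟩ := h.exists_fix_two (h.stab hu)
    (by rw [show g1⁻¹ * z * g1 * (g1⁻¹ * z * g1) = g1⁻¹ * (z * z) * g1 by group, h.zz]; group)
    (h.stab hv)
    (by rw [show g1⁻¹ * a * g1 * (g1⁻¹ * a * g1) = g1⁻¹ * (a * a) * g1 by group, h.aa]; group)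
    (by
      have := (Commute.conj_iff g1⁻¹).2 (h.wz (x := a) (Or.inr (Or.inl rfl))).symm
      rwa [inv_inv] at this)
  obtain ⟨l, hl, rfl⟩ := h.exists_move hy hy1
  have e : g1 * l * z * (g1 * l)⁻¹ = g1 * z * g1⁻¹ := by
    rw [show g1 * l * z * (g1 * l)⁻¹ = g1 * (l * z * l⁻¹) * g1⁻¹ by group,
      mul_inv_eq_iff_eq_mul.2 (mem_cz.1 hl).eq]
  refine ⟨g1 * l, by rwa [e], fun e' => hout1 ?_, by rwa [e], ?_⟩
  · simpa using mul_mem e' (inv_mem (h.stab hl))
  · rw [show g1 * l * a * (g1 * l)⁻¹ = g1 * (l * a * l⁻¹) * g1⁻¹ by group]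
    exact commute_back.2 huy

/-- `C (x z)` lies in `C z` when the centralisers of `W` lie in `N(W)`. -/
theorem Hyp3.cent_d (h : Hyp3 z a b) (hC : ∀ y, InW a b y → y ≠ 1 → centralizer ({y} : Set G) ≤ nrm a b)
    {x : G} (hx : InW a b x) (hx1 : x ≠ 1) (hiso : IsoIn z (x * z)) :
    centralizer ({x * z} : Set G) ≤ centralizer ({z} : Set G) := by
  classical
  set X := centralizer ({x * z} : Set G) with hX
  have hzx : Commute z (x * z) := (h.wz hx).symm.mul_right (Commute.refl z)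
  have hJX : oc z ≤ X := fun j hj => by
    have hxm : x ∈ oc z := by
      rcases hx with rfl | rfl | rfl | rfl
      exacts [one_mem _, h.a_mem, h.b_mem, mul_mem h.a_mem h.b_mem]
    exact mem_centralizer_singleton_iff.2 ((((h.centre x hxm).2 (Or.inl hx)) j hj).symm.mul_right
      (mem_cz.1 (oc_le z hj))).eq
  let z' : ↥X := ⟨z, mem_centralizer_singleton_iff.2 hzx.eq⟩
  have hiz : Cfsg.IsIsolatedInvolution z' := ⟨(orderOf_injective X.subtype X.subtype_injective z').symm.trans h.ordz,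
    fun g hg => Subtype.ext (hiso g (mem_centralizer_singleton_iff.1 g.2)
      (congrArg Subtype.val hg.symm.eq : ((g : G) * z * (g : G)⁻¹) * z = z * ((g : G) * z * (g : G)⁻¹)))⟩
  intro g hg
  obtain ⟨o, ho, hc⟩ := Cfsg.Agent.Invol.isolated_decomp hiz ⟨g, hg⟩
  have hodd : ∀ p ∈ Cfsg.oddCore ↥X, Odd (orderOf ((p : G))) := fun p hp => by
    rw [orderOf_coe]
    have h1 := Nat.coprime_two_right.1 (Cfsg.Agent.Core.coprime_card_pPrimeCore (p := 2) (G := ↥X))
    exact h1.of_dvd_nat (Subgroup.orderOf_dvd_natCard _ hp)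
  set N := (Cfsg.oddCore ↥X).map X.subtype with hN
  have hNodd : Odd (Nat.card ↥N) := by
    rw [hN, Nat.card_congr (equivMapOfInjective _ _ X.subtype_injective).toEquiv.symm]
    exact Nat.coprime_two_right.1 (Cfsg.Agent.Core.coprime_card_pPrimeCore (p := 2) (G := ↥X))
  have hNn : ∀ k ∈ X, ∀ p ∈ N, k * p * k⁻¹ ∈ N := by
    rintro k hk _ ⟨p, hp, rfl⟩
    exact ⟨⟨k, hk⟩ * p * ⟨k, hk⟩⁻¹, (inferInstance : (Cfsg.oddCore ↥X).Normal).conj_mem p hp _, rfl⟩
  -- fixed points of an involution of `X` on `N`, when absent, give inversion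
  have hinv : ∀ u ∈ X, u * u = 1 → (∀ p ∈ N, Commute u p → p = 1) → ∀ p ∈ N, u * p * u⁻¹ = p⁻¹ := by
    intro u hu huu hfree
    let φ : ↥N →* ↥N :=
      { toFun := fun p => ⟨u * p * u⁻¹, hNn u hu p p.2⟩
        map_one' := Subtype.ext (by simp)
        map_mul' := fun p q => Subtype.ext (by simp [mul_assoc]) }
    have hφ : MonoidHom.FixedPointFree φ := fun p hp =>
      Subtype.ext (hfree p p.2 (mul_inv_eq_iff_eq_mul.1 (congrArg Subtype.val hp)))
    have hi : Function.Involutive φ := fun p => Subtype.ext (by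
      show u * (u * (p : G) * u⁻¹) * u⁻¹ = p
      rw [inv_eq_of_mul_eq_one_right huu,
        show u * (u * (p : G) * u) * u = u * u * p * (u * u) by group, huu, one_mul, mul_one])
    exact fun p hp => congrArg Subtype.val (congrFun (hφ.coe_eq_inv_of_involutive hi) ⟨p, hp⟩)
  have hzN : ∀ p ∈ N, z * p * z⁻¹ = p⁻¹ := by
    refine hinv z (mem_centralizer_singleton_iff.2 hzx.eq) h.zz fun p hp hzp => ?_
    have hbot : N ⊓ oc z = ⊥ := LargeExtra.inf_eq_bot_of_odd hNodd (oc_isPGroup z)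
    have hpH : p ∈ centralizer ({z} : Set G) := mem_cz.2 hzp.symm
    have hpJ : p ∈ oc z := h.cent (mem_centralizer_iff.2 fun j hj => by
      have hm : p * j * p⁻¹ * j⁻¹ ∈ N ⊓ oc z := by
        refine ⟨?_, (oc z).mul_mem (oc_conj_mem hpH hj) ((oc z).inv_mem hj)⟩
        rw [mul_assoc p, mul_assoc p]
        exact mul_mem hp (hNn j (hJX hj) _ (inv_mem hp))
      rw [hbot, mem_bot, mul_inv_eq_one, mul_inv_eq_iff_eq_mul] at hm
      exact hm.symm)
    have h2 : p ∈ N ⊓ oc z := ⟨hp, hpJ⟩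
    rwa [hbot, mem_bot] at h2
  have hxX : ∀ y, InW a b y → y ∈ X := fun y hy => mem_centralizer_singleton_iff.2
    ((h.wcomm hy hx).mul_right (h.wz hy)).eq
  have hxN : ∀ p ∈ N, x * p * x⁻¹ = p⁻¹ := by
    intro p hp
    have hpd : Commute p (x * z) := by
      obtain ⟨q, -, rfl⟩ := hp; exact mem_centralizer_singleton_iff.1 q.2
    have e : x = x * z * z := by rw [mul_assoc, h.zz, mul_one]
    calc x * p * x⁻¹ = x * z * (z * p * z⁻¹) * (x * z)⁻¹ := by
          nth_rewrite 1 [e]; nth_rewrite 2 [e]; group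
      _ = p⁻¹ := by rw [hzN p hp, (hpd.inv_left.symm).eq, mul_inv_cancel_right]
  have hoN : ∀ p ∈ N, Odd (orderOf p) := fun p hp => hNodd.of_dvd_nat (Subgroup.orderOf_dvd_natCard _ hp)
  have hsmall : ∀ p ∈ N, p * p = 1 → p = 1 := fun p hp e => by
    rcases (Nat.dvd_prime Nat.prime_two).1 (orderOf_dvd_of_pow_eq_one (x := p) (n := 2) (by rw [_root_.sq]; exact e)) with e' | e'
    · exact orderOf_eq_one_iff.1 e'
    · exact absurd (e' ▸ hoN p hp) (by decide)
  have hyN : ∀ y, InW a b y → y ≠ 1 → y ≠ x → ∀ p ∈ N, y * p * y⁻¹ = p⁻¹ := by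
    intro y hy hy1 hyx
    refine hinv y (hxX y hy) (h.wsq hy) fun p hp hyp => ?_
    have hpn : p ∈ nrm a b := hC y hy hy1 (mem_centralizer_singleton_iff.2 hyp.symm.eq)
    have e : p * x * p⁻¹ = p * p * x := by
      have := hxN p⁻¹ (inv_mem hp)
      rw [inv_inv] at this
      calc p * x * p⁻¹ = p * (x * p⁻¹ * x⁻¹) * x := by group
        _ = p * p * x := by rw [this]
    have hm : p * p * x * x ∈ wsub a b := mul_mem ((mem_wsub h).2 (e ▸ (hpn x).1 hx)) ((mem_wsub h).2 hx)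
    rw [mul_assoc, h.wsq hx, mul_one] at hm
    refine hsmall p hp (hsmall _ (mul_mem hp hp) (h.wsq ((mem_wsub h).1 hm)))
  have hone : ∀ p ∈ N, p = 1 := by
    intro p hp
    obtain ⟨y, hy, hy1, hyx⟩ : ∃ y, InW a b y ∧ y ≠ 1 ∧ y ≠ x := by
      by_cases e : x = a
      · exact ⟨b, Or.inr (Or.inr (Or.inl rfl)), h.b_ne, fun e' => h.ab_ne (e.symm.trans e'.symm)⟩
      · exact ⟨a, Or.inr (Or.inl rfl), h.a_ne, fun e' => e e'.symm⟩
    have hm : InW a b (x * y) := (mem_wsub h).1 (mul_mem ((mem_wsub h).2 hx) ((mem_wsub h).2 hy))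
    have e1 := hyN (x * y) hm (fun e => hyx (by
      rw [eq_inv_of_mul_eq_one_right e]; exact inv_eq_of_mul_eq_one_right (h.wsq hx))) (fun e => hy1 (mul_eq_left.1 e)) p hp
    have e2 : x * y * p * (x * y)⁻¹ = p := by
      calc x * y * p * (x * y)⁻¹ = x * (y * p * y⁻¹) * x⁻¹ := by group
        _ = p := by rw [hyN y hy hy1 hyx p hp, hxN _ (inv_mem hp), inv_inv]
    rw [e2] at e1
    exact hsmall p hp (eq_inv_iff_mul_eq_one.1 e1)
  have ho1 : (o : G) = 1 := hone _ ⟨o, ho, rfl⟩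
  have : o = 1 := Subtype.ext ho1
  rw [this, inv_one, one_mul] at hc
  exact mem_cz.2 (congrArg Subtype.val hc.eq)

/-- Either `z` is isolated or the four-group is normal. -/
theorem global_main (S : Standing3 z a b)
    (hkey : ∀ g : G, Commute (g * z * g⁻¹) z → g ∈ nrm a b)
    (hsyl : ∃ S : Sylow 2 G, (S : Subgroup G) ≤ centralizer ({z} : Set G))
    {K : Type*} [Field K] [Fintype K] (hK : Fintype.card K = 4)
    (hbig : IsoIn z a ∨ (centralizer ({a} : Set G) ≤ nrm a b ∧ ∃ L : Subgroup G,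
      wsub a b ≤ L ∧ L ≤ centralizer ({a} : Set G) ∧ (L.subgroupOf (centralizer ({a} : Set G))).index = 2 ∧
      ∃ hn : ((wsub a b).subgroupOf L).Normal,
        Nonempty ((↥L ⧸ (wsub a b).subgroupOf L) ≃* Cfsg.PSU 6 K 2))) :
    centralizer ({z} : Set G) ⊔ Cfsg.oddCore G = ⊤ ∨
      (∃ (W : Subgroup G) (_hW : W.Normal), Nat.card ↥W = 4 ∧ (∀ w ∈ W, w ^ 2 = 1) ∧
        Nonempty ((G ⧸ W) ≃* MulAut (Cfsg.PSU 6 K 2))) := by
  classical
  have h := S.hyp
  rcases hbig with hia | ⟨hCa, L, hWL, hLC, hL2, hn, ⟨i⟩⟩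
  · refine Or.inl (decomp_of_isolated h.ordz fun g hg => ?_)
    have hgN := hkey g (mem_cz.1 hg)
    have hx : InW a b (g * a * g⁻¹) := (hgN a).1 (Or.inr (Or.inl rfl))
    obtain ⟨k, hk, ek⟩ := h.exists_move hx (fun e => h.a_ne (conj_eq_one_iff.1 e))
    have hga : Commute (k⁻¹ * g) a := mul_inv_eq_iff_eq_mul.1 (by
      rw [show k⁻¹ * g * a * (k⁻¹ * g)⁻¹ = k⁻¹ * (g * a * g⁻¹) * k by group, ← ek]; group)
    have ekz : k * z * k⁻¹ = z := mul_inv_eq_iff_eq_mul.2 (mem_cz.1 hk).eq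
    have e1 : k⁻¹ * g * z * (k⁻¹ * g)⁻¹ = k⁻¹ * (g * z * g⁻¹) * k⁻¹⁻¹ := by group
    have hc : Commute (k⁻¹ * g * z * (k⁻¹ * g)⁻¹) z := by
      rw [e1]; exact mem_cz.1 (mul_mem (mul_mem (inv_mem hk) hg) (inv_mem (inv_mem hk)))
    have e := hia (k⁻¹ * g) hga hc
    rw [e1] at e
    calc g * z * g⁻¹ = k * (k⁻¹ * (g * z * g⁻¹) * k⁻¹⁻¹) * k⁻¹ := by group
      _ = z := by rw [e, ekz]
  refine Or.inr ?_
  set N := nrm a b
  set H := centralizer ({z} : Set G) with hH
  set Ca := centralizer ({a} : Set G) with hCadef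
  have hC : ∀ y, InW a b y → y ≠ 1 → centralizer ({y} : Set G) ≤ N := by
    intro y hy hy1 g hg
    obtain ⟨k, hk, rfl⟩ := h.exists_move hy hy1
    have : k⁻¹ * g * k ∈ Ca :=
      mem_centralizer_singleton_iff.2 (commute_back.1 (mem_centralizer_singleton_iff.1 hg)).eq
    have h2 := mul_mem (mul_mem (h.stab hk) (hCa this)) (inv_mem (h.stab hk))
    rwa [show k * (k⁻¹ * g * k) * k⁻¹ = g by group] at h2
  have hcd : ∀ y, InW a b y → y ≠ 1 → centralizer ({y * z} : Set G) ≤ H := fun y hy hy1 =>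
    h.cent_d hC hy hy1 (S.iso_d y hy hy1)
  obtain ⟨P₀, hP₀⟩ := hsyl
  have hmove : ∀ P : Subgroup G, P ≤ N → IsPGroup 2 P → ∃ t ∈ N, ∀ p ∈ P, t * p * t⁻¹ ∈ H := by
    intro P hP hp
    obtain ⟨Q, hQ⟩ := (hp.comap_of_injective N.subtype N.subtype_injective).exists_le_sylow
    obtain ⟨t, ht⟩ := MulAction.exists_smul_eq ↥N Q (P₀.subtype (hP₀.trans h.stab))
    refine ⟨t, t.2, fun p hpP => hP₀ ?_⟩
    have hm : MulAut.conj t (⟨p, hP hpP⟩ : ↥N) ∈ ((t • Q : Sylow 2 ↥N) : Subgroup ↥N) := by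
      rw [Sylow.coe_subgroup_smul]
      exact Subgroup.smul_mem_pointwise_smul _ _ _ (hQ (mem_comap.2 hpP))
    rw [ht] at hm
    exact mem_subgroupOf.1 hm
  have hmemN : ∀ x : G, x * z * x⁻¹ ∈ N → x ∈ N := by
    intro x hx
    obtain ⟨t, ht, htp⟩ := hmove (zpowers (x * z * x⁻¹)) (zpowers_le.2 hx) (IsPGroup.of_card (n := 1) (by
      rw [Nat.card_zpowers, pow_one, show x * z * x⁻¹ = MulAut.conj x z from rfl, MulEquiv.orderOf_eq]
      exact h.ordz))
    have h1 := htp _ (mem_zpowers _)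
    have h2 := hkey (t * x) (by
      rw [show t * x * z * (t * x)⁻¹ = t * (x * z * x⁻¹) * t⁻¹ by group]; exact mem_cz.1 h1)
    simpa using mul_mem (inv_mem ht) h2
  have hctrl : Controlled N a {y | ∃ g : G, g * z * g⁻¹ = y} := by
    refine ⟨h.aa, h.a_ne, ?_, ?_, ?_, hCa, ?_, ?_, ?_, ?_⟩
    · rintro ⟨g, e⟩
      have hg := hkey g (by rw [e]; exact h.wz (Or.inr (Or.inl rfl)))
      refine h.z_notW ?_
      have h1 := ((inv_mem hg : g⁻¹ ∈ N) a).1 (Or.inr (Or.inl rfl))
      rwa [show g⁻¹ * a * g⁻¹⁻¹ = z by rw [← e]; group] at h1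
    · rintro g _ ⟨k, rfl⟩; exact ⟨g * k, by group⟩
    · rintro _ ⟨k, rfl⟩
      rw [show k * z * k⁻¹ * (k * z * k⁻¹) = k * (z * z) * k⁻¹ by group, h.zz]; group
    · rintro g _ ⟨k, rfl⟩ hk hg
      have h1 := hmemN k hk
      have h2 := hmemN (g * k) (by
        rwa [show g * k * z * (g * k)⁻¹ = g * (k * z * k⁻¹) * g⁻¹ by group])
      simpa using mul_mem h2 (inv_mem h1)
    · rintro _ ⟨k, rfl⟩ hk
      have h1 := ((inv_mem (hmemN k hk) : k⁻¹ ∈ N) a).1 (Or.inr (Or.inl rfl))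
      rw [inv_inv] at h1
      exact commute_back.2 (h.wz h1)
    · rintro _ ⟨k, rfl⟩ hk u hu
      have hkN := hmemN k hk
      have h1 := ((inv_mem hkN : k⁻¹ ∈ N) a).1 (Or.inr (Or.inl rfl))
      rw [inv_inv] at h1
      have hu' : Commute u (a * (k * z * k⁻¹)) := mem_centralizer_singleton_iff.1 hu
      rw [show a * (k * z * k⁻¹) = k * (k⁻¹ * a * k * z) * k⁻¹ by group] at hu'
      have h2 := h.stab (hcd _ h1 (fun e => h.a_ne (by
        calc a = k * (k⁻¹ * a * k) * k⁻¹ := by group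
          _ = 1 := by rw [e]; group))
        (mem_centralizer_singleton_iff.2 (commute_back.1 hu').eq))
      have h3 := mul_mem (mul_mem hkN h2) (inv_mem hkN)
      rwa [show k * (k⁻¹ * u * k) * k⁻¹ = u by group] at h3
    · intro P hP hp
      obtain ⟨t, ht, htp⟩ := hmove P hP hp
      refine ⟨t⁻¹ * z * t⁻¹⁻¹, ⟨t⁻¹, rfl⟩, ?_, fun p hpP => ?_⟩
      · exact mul_mem (mul_mem (inv_mem ht) (h.stab (mem_centralizer_singleton_iff.2 rfl)))
          (inv_mem (inv_mem ht))
      · refine (commute_back.2 ?_).symm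
        simpa using mem_cz.1 (htp p hpP)
  have hall : ∀ g : G, g ∈ N := fun g => hmemN g (hctrl.mem ⟨g, rfl⟩)
  set W := wsub a b with hW
  haveI hWn : W.Normal := ⟨fun n hn g => (mem_wsub h).2 ((hall g n).1 ((mem_wsub h).1 hn))⟩
  have haW : a ∈ W := (mem_wsub h).2 (Or.inr (Or.inl rfl))
  have hbW : b ∈ W := (mem_wsub h).2 (Or.inr (Or.inr (Or.inl rfl)))
  set D := centralizer (W : Set G) with hD
  haveI hDn : D.Normal := ⟨fun n hn g => mem_centralizer_iff.2 fun w hw => by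
    have h1 := mem_centralizer_iff.1 hn (g⁻¹ * w * g⁻¹⁻¹) (hWn.conj_mem w hw g⁻¹)
    calc w * (g * n * g⁻¹) = g * (g⁻¹ * w * g⁻¹⁻¹ * n) * g⁻¹ := by group
      _ = g * (n * (g⁻¹ * w * g⁻¹⁻¹)) * g⁻¹ := by rw [h1]
      _ = g * n * g⁻¹ * w := by group⟩
  have hab' : b ≠ a * b := fun e => h.a_ne (mul_eq_right.1 e.symm)
  have hD2 : ∀ g ∈ Ca, g * b * g⁻¹ = b ∨ g * b * g⁻¹ = a * b := by
    intro g hg
    have hga : g * a * g⁻¹ = a := mul_inv_eq_iff_eq_mul.2 (mem_centralizer_singleton_iff.1 hg)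
    rcases (hall g b).1 (Or.inr (Or.inr (Or.inl rfl))) with e | e | e | e
    · exact absurd (conj_eq_one_iff.1 e) h.b_ne
    · exact absurd (mul_left_cancel (mul_right_cancel (hga.trans e.symm))) h.ab_ne
    · exact Or.inl e
    · exact Or.inr e
  have hDiff : ∀ g ∈ Ca, (g ∈ D ↔ g * b * g⁻¹ = b) := by
    intro g hg
    constructor
    · exact fun hgD => mul_inv_eq_iff_eq_mul.2 (mem_centralizer_iff.1 hgD b hbW).symm
    · intro e
      have hgb : Commute g b := mul_inv_eq_iff_eq_mul.1 e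
      have hga : Commute g a := mem_centralizer_singleton_iff.1 hg
      refine mem_centralizer_iff.2 fun w hw => ?_
      rcases (mem_wsub h).1 hw with e' | e' | e' | e' <;> rw [e']
      exacts [(Commute.one_left g).eq, hga.symm.eq, hgb.symm.eq, (hga.mul_right hgb).symm.eq]
  haveI : ((wsub a b).subgroupOf L).Normal := hn
  haveI : IsSimpleGroup (Cfsg.PSU 6 K 2) :=
    Cfsg.Agent.S0283.result (by rw [hK]; norm_num : Fintype.card K = 2 ^ 2) 6 (by norm_num) (by norm_num)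
  haveI hsim : IsSimpleGroup (↥L ⧸ W.subgroupOf L) := (MulEquiv.isSimpleGroup_congr i).2 inferInstance
  have hnc : ¬ ∀ p q : ↥L ⧸ W.subgroupOf L, p * q = q * p := fun hc =>
    psu_not_comm hK (⟨⟨fun p q => by
      have := congrArg i (hc (i.symm p) (i.symm q))
      simpa using this⟩⟩)
  set π := QuotientGroup.mk' (W.subgroupOf L) with hπ
  have hLD : L ≤ D := by
    rcases ((inferInstance : (D.subgroupOf L).Normal).map π (QuotientGroup.mk'_surjective _)).eq_bot_or_eq_top with hb | ht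
    · exfalso
      have hone : ∀ l : ↥L, (l : G) ∈ D → π l = 1 := fun l hl => by
        have := mem_map_of_mem π (show l ∈ D.subgroupOf L from hl)
        rwa [hb, mem_bot] at this
      have htwo : ∀ p q : ↥L ⧸ W.subgroupOf L, p ≠ 1 → q ≠ 1 → p = q := by
        intro p q hp hq
        obtain ⟨l, rfl⟩ := QuotientGroup.mk'_surjective _ p
        obtain ⟨m, rfl⟩ := QuotientGroup.mk'_surjective _ q
        have hl : ¬ (l : G) ∈ D := fun e => hp (hone l e)
        have hm : ¬ (m : G) ∈ D := fun e => hq (hone m e)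
        have el := (hD2 _ (hLC l.2)).resolve_left fun e => hl ((hDiff _ (hLC l.2)).2 e)
        have em := (hD2 _ (hLC m.2)).resolve_left fun e => hm ((hDiff _ (hLC m.2)).2 e)
        refine inv_mul_eq_one.1 ?_
        rw [← map_inv, ← map_mul]
        refine hone _ ((hDiff _ (hLC (l⁻¹ * m).2)).2 ?_)
        rw [coe_mul, coe_inv, show (l : G)⁻¹ * m * b * ((l : G)⁻¹ * m)⁻¹ = (l : G)⁻¹ * ((m : G) * b * (m : G)⁻¹) * l by group,
          em, ← el]
        group
      refine hnc fun p q => ?_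
      by_cases hp : p = 1
      · subst hp; simp
      by_cases hq : q = 1
      · subst hq; simp
      rw [htwo p q hp hq]
    · intro l hl
      obtain ⟨d, hd, e⟩ : π ⟨l, hl⟩ ∈ (D.subgroupOf L).map π := ht ▸ mem_top _
      have h2 : (d : G)⁻¹ * l ∈ W := mem_subgroupOf.1 (QuotientGroup.eq.1 e)
      have hWD : W ≤ D := fun w hw => mem_centralizer_iff.2 fun v hv =>
        (h.wcomm ((mem_wsub h).1 hv) ((mem_wsub h).1 hw)).eq
      simpa using mul_mem (mem_subgroupOf.1 hd) (hWD h2)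
  obtain ⟨s, hs, hsa, hsb⟩ := h.swap
  have hsC : s ∈ Ca := mem_centralizer_singleton_iff.2 hsa.eq
  have hsD : s ∉ D := fun e => hab' (((hDiff s hsC).1 e).symm.trans hsb)
  have hDC : D ≤ Ca := fun d hd => mem_centralizer_singleton_iff.2 (mem_centralizer_iff.1 hd a haW).symm
  have hDL : D ≤ L := by
    intro d hd
    by_contra hdL
    have h1 := (Subgroup.mul_mem_iff_of_index_two hL2 (a := ⟨s, hsC⟩) (b := ⟨d, hDC hd⟩)).2
      (iff_of_false (fun e => hsD (hLD (mem_subgroupOf.1 e))) (fun e => hdL (mem_subgroupOf.1 e)))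
    exact hsD (by simpa using mul_mem (hLD (mem_subgroupOf.1 h1)) (inv_mem hd))
  obtain rfl : L = D := le_antisymm hLD hDL
  have hidx : D.index = 6 := by
    have h3 : Ca.index = 3 := by
      let T : Finset G := {a, b, a * b}
      have hT : ∀ g : G, g * a * g⁻¹ ∈ T := fun g => by
        rcases (hall g a).1 (Or.inr (Or.inl rfl)) with e | e | e | e
        · exact absurd (conj_eq_one_iff.1 e) h.a_ne
        all_goals simp [T, e]
      have key : ∀ g k : G, g⁻¹ * k ∈ Ca ↔ g * a * g⁻¹ = k * a * k⁻¹ := by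
        intro g k
        rw [hCadef, mem_centralizer_singleton_iff]
        constructor
        · intro e
          calc g * a * g⁻¹ = g * (a * (g⁻¹ * k)) * k⁻¹ := by group
            _ = g * (g⁻¹ * k * a) * k⁻¹ := by rw [e]
            _ = k * a * k⁻¹ := by group
        · intro e
          calc g⁻¹ * k * a = g⁻¹ * (k * a * k⁻¹) * k := by group
            _ = a * (g⁻¹ * k) := by rw [← e]; group
      let f : G ⧸ Ca → ↥T := Quotient.lift (fun g => (⟨g * a * g⁻¹, hT g⟩ : ↥T))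
        (fun g k e => Subtype.ext ((key g k).1 (QuotientGroup.leftRel_apply.1 e)))
      have hf : Function.Bijective f := by
        refine ⟨fun p q e => ?_, fun ⟨x, hx⟩ => ?_⟩
        · obtain ⟨g, rfl⟩ := QuotientGroup.mk_surjective p
          obtain ⟨k, rfl⟩ := QuotientGroup.mk_surjective q
          exact QuotientGroup.eq.2 ((key g k).2 (congrArg Subtype.val e))
        · simp only [T, Finset.mem_insert, Finset.mem_singleton] at hx
          rcases hx with rfl | hx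
          · exact ⟨QuotientGroup.mk 1, Subtype.ext (show 1 * x * 1⁻¹ = x by group)⟩
          · obtain ⟨k, -, ek⟩ := h.trans x hx
            exact ⟨QuotientGroup.mk k, Subtype.ext ek⟩
      have hcardT : T.card = 3 := by
        have h1 : a ≠ a * b := fun e => h.b_ne (mul_eq_left.1 e.symm)
        simp [T, h.ab_ne, h1, hab']
      rw [Subgroup.index, Nat.card_eq_of_bijective f hf, Nat.card_eq_fintype_card, Fintype.card_coe, hcardT]
    rw [← Subgroup.relIndex_mul_index hDC, h3, Subgroup.relIndex, hL2]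
  have hzD : z ∈ D := mem_centralizer_iff.2 fun w hw => (h.wz ((mem_wsub h).1 hw)).eq
  have hcent : ∀ g : G, (∀ l ∈ D, g * l * g⁻¹ * l⁻¹ ∈ W) → g ∈ W := by
    intro g hg
    have hgz : g * z * g⁻¹ = z := by
      have hw := (mem_wsub h).1 (hg z hzD)
      by_contra hne
      have hw1 : g * z * g⁻¹ * z⁻¹ ≠ 1 := fun e => hne (mul_inv_eq_one.1 e)
      set y := g * z * g⁻¹ * z⁻¹ with hy
      have ey : y * z = g * z * g⁻¹ := by rw [hy]; group
      -- `C (y z)` is a conjugate of `C z` inside `C z`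
      have hmap : H.map (MulAut.conj g).toMonoidHom ≤ H := by
        rintro _ ⟨k, hk, rfl⟩
        refine hcd y hw hw1 (mem_centralizer_singleton_iff.2 ?_)
        rw [ey]
        exact ((Commute.conj_iff g).2 (mem_cz.1 hk)).eq
      have heq := Subgroup.eq_of_le_of_card_ge hmap
        (by rw [card_map_of_injective (MulAut.conj g).injective])
      have hall2 : ∀ k ∈ H, Commute k y := by
        intro k hk
        have hk' : k ∈ H.map (MulAut.conj g).toMonoidHom := heq.ge hk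
        obtain ⟨m, hm, rfl⟩ := hk'
        have h1 : Commute (g * m * g⁻¹) (y * z) := by
          rw [ey]; exact (Commute.conj_iff g).2 (mem_cz.1 hm)
        have h2 : Commute (g * m * g⁻¹) z := mem_cz.1 (hmap ⟨m, hm, rfl⟩)
        have h3 := h1.mul_right h2
        rw [show y * z * z = y by rw [mul_assoc, h.zz, mul_one]] at h3
        exact h3
      obtain ⟨k0, hk0, ek0⟩ := h.exists_move hw hw1
      have hya : y = a := by
        rw [← ek0]
        have h1 := (hall2 k0 hk0).eq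
        have h2 : k0 * a * k0⁻¹ = y := ek0
        calc k0 * a * k0⁻¹ = y := h2
          _ = k0⁻¹ * (k0 * y) := by group
          _ = k0⁻¹ * (y * k0) := by rw [h1]
          _ = a := by rw [← h2]; group
      obtain ⟨k1, hk1, ek1⟩ := h.trans b (Or.inl rfl)
      have := hall2 k1 hk1
      rw [hya] at this
      exact h.ab_ne ((mul_inv_eq_iff_eq_mul.2 this.eq).symm.trans ek1)
    have hgH : g ∈ H := mem_cz_of_conj_eq hgz
    have hJD : oc z ≤ D := fun j hj => mem_centralizer_iff.2 fun w hw => by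
      have hw' := (mem_wsub h).1 hw
      have hwm : w ∈ oc z := by
        rcases hw' with rfl | rfl | rfl | rfl
        exacts [one_mem _, h.a_mem, h.b_mem, mul_mem h.a_mem h.b_mem]
      exact ((h.centre w hwm).2 (Or.inl hw') j hj).eq
    have hgJ : g ∈ oc z := h.act g hgH fun j hj => Or.inl ((mem_wsub h).1 (hg j (hJD hj)))
    have hgD : g ∈ D := hJD hgJ
    have hcen : π ⟨g, hgD⟩ ∈ center (↥D ⧸ W.subgroupOf D) := mem_center_iff.2 fun p => by
      obtain ⟨l, rfl⟩ := QuotientGroup.mk'_surjective _ p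
      rw [← map_mul, ← map_mul]
      refine (mul_inv_eq_one.1 ?_).symm
      rw [← map_inv, ← map_mul, hπ, QuotientGroup.mk'_apply, QuotientGroup.eq_one_iff, mem_subgroupOf]
      simp only [coe_mul, coe_inv, mul_inv_rev, ← mul_assoc]
      exact hg l l.2
    rcases (inferInstance : (center (↥D ⧸ W.subgroupOf D)).Normal).eq_bot_or_eq_top with hb | ht
    · rw [hb, mem_bot] at hcen
      exact mem_subgroupOf.1 ((QuotientGroup.eq_one_iff (⟨g, hgD⟩ : ↥D)).1 hcen)
    · exact absurd (fun p q => (mem_center_iff.1 (ht ▸ mem_top q : q ∈ center _) p)) hnc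
  refine ⟨W, hWn, ?_, fun w hw => by rw [_root_.sq]; exact h.wsq ((mem_wsub h).1 hw),
    quot_aut hK W D hWL hidx ⟨hn, ⟨i⟩⟩ hcent⟩
  let T : Finset G := {1, a, b, a * b}
  have hcard : T.card = 4 := by
    have h1 : a ≠ a * b := fun e => h.b_ne (mul_eq_left.1 e.symm)
    have h2 : a * b ≠ 1 := fun e => h.ab_ne (by
      rw [eq_inv_of_mul_eq_one_left e]; exact inv_eq_of_mul_eq_one_right h.bb)
    simp [T, h.ab_ne, h1, hab', h.a_ne.symm, h.b_ne.symm, h2.symm]
  rw [show Nat.card ↥W = Nat.card ↥T from Nat.card_congr (Equiv.subtypeEquivRight fun x => by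
    rw [mem_wsub h]; simp [InW, T]), Nat.card_eq_fintype_card, Fintype.card_coe, hcard]

end Cfsg.Agent.Fi23Two
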