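import Cfsg.Agent.Fi23Two.PairBase
import Cfsg.Agent.Fi22Two.TripleData
import Cfsg.Agent.U62Rec.Check.RedAM
import Cfsg.Agent.U62Rec.Check.RedAP
import Cfsg.Agent.U62Rec.Check.RedIP

/-!
# The check of commuting pairs: the configurations RedAP, RedAM
-/

set_option autoImplicit false
set_option maxRecDepth 65536
set_option maxHeartbeats 4000000
set_option Elab.async false

namespace Cfsg.Agent.Fi23Two

open Cfsg.Agent.U62Rec Cfsg.Agent.Fi22Two

theorem redAP_qOK : QOK ⟨RedAP.gens, RedAP.lin⟩ := by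
  show (RedAP.gens.all fun g => (List.range 256).all fun v =>
    qv RedAP.lin (app g v) == qv RedAP.lin v) = true
  decide +kernel

theorem redAP_none : noCand2 RedAP.lin (triRedP1 RedAP.ct3) = true := by decide +kernel

theorem redAP_check : check2 RedAP.lin (triRedP0 RedAP.ct0) RedIP.ct0 RedIP.ct1.ts
    (triRedP1 RedAP.ct3).c = true := by
  decide +kernel

/-- The verdict in the configuration RedAP. -/
theorem redAP_pair {p x : ℕ} {U : List ℕ} (T : Two ⟨RedAP.gens, RedAP.lin⟩ p x U)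
    (hp : InnerCode ⟨RedAP.gens, RedAP.lin⟩ p) :
    Small ⟨RedAP.gens, RedAP.lin⟩ p x U ∨
      (InnerCode ⟨RedAP.gens, RedAP.lin⟩ x ∧ Twisted ⟨RedAP.gens, RedAP.lin⟩ p x U) := by
  refine pair_of_classes redAP_qOK (gI := RedIP.gens) (ginvI := RedIP.ginv) (by decide +kernel)
    (by decide +kernel) (outOK_tab RedIP.out1) (outOK_tab RedIP.out0)
    (dataOK_of_outOK (D := (triRedP1 RedAP.ct3)) RedAP.out3 rfl (by decide +kernel))
    (dataOK_of_outOK (D := (triRedP0 RedAP.ct0)) RedAP.out0 rfl (by decide +kernel))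
    redAP_none (by decide +kernel) redAP_check (fun m a b d => ?_) T hp
  obtain ⟨o, ho, h, hh, e⟩ := RedIP.facts.cls m a b d
  simp only [List.mem_cons, List.not_mem_nil, or_false] at ho
  rcases ho with rfl | rfl
  · exact ⟨_, Or.inr rfl, h, hh, e⟩
  · exact ⟨_, Or.inl rfl, h, hh, e⟩

theorem redAM_qOK : QOK ⟨RedAM.gens, RedAM.lin⟩ := by
  show (RedAM.gens.all fun g => (List.range 256).all fun v =>
    qv RedAM.lin (app g v) == qv RedAM.lin v) = true
  decide +kernel

theorem redAM_none : noCand2 RedAM.lin (triRedM1 RedAM.ct3) = true := by decide +kernel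

theorem redAM_check : check2 RedAM.lin (triRedM0 RedAM.ct0) RedIP.ct0 RedIP.ct1.ts
    (triRedM1 RedAM.ct3).c = true := by
  decide +kernel

/-- The verdict in the configuration RedAM. -/
theorem redAM_pair {p x : ℕ} {U : List ℕ} (T : Two ⟨RedAM.gens, RedAM.lin⟩ p x U)
    (hp : InnerCode ⟨RedAM.gens, RedAM.lin⟩ p) :
    Small ⟨RedAM.gens, RedAM.lin⟩ p x U ∨
      (InnerCode ⟨RedAM.gens, RedAM.lin⟩ x ∧ Twisted ⟨RedAM.gens, RedAM.lin⟩ p x U) := by
  refine pair_of_classes redAM_qOK (gI := RedIP.gens) (ginvI := RedIP.ginv) (by decide +kernel)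
    (by decide +kernel) (outOK_tab RedIP.out1) (outOK_tab RedIP.out0)
    (dataOK_of_outOK (D := (triRedM1 RedAM.ct3)) RedAM.out3 rfl (by decide +kernel))
    (dataOK_of_outOK (D := (triRedM0 RedAM.ct0)) RedAM.out0 rfl (by decide +kernel))
    redAM_none (by decide +kernel) redAM_check (fun m a b d => ?_) T hp
  obtain ⟨o, ho, h, hh, e⟩ := RedIP.facts.cls m a b d
  simp only [List.mem_cons, List.not_mem_nil, or_false] at ho
  rcases ho with rfl | rfl
  · exact ⟨_, Or.inr rfl, h, hh, e⟩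
  · exact ⟨_, Or.inl rfl, h, hh, e⟩

end Cfsg.Agent.Fi23Two
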