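import Cfsg.Agent.Fi23Two.PairNat
import Cfsg.Agent.Fi23Two.PairRedA
import Cfsg.Agent.Fi23Two.PairRedB
import Cfsg.Agent.U62Rec.ResultOuter

/-!
# The finite check of commuting pairs of involutory maps
-/

set_option autoImplicit false

namespace Cfsg.Agent.Fi23Two

open Cfsg.Agent.U62Rec Cfsg.Agent.Fi22Two

/-- In every configuration with an outer element a pair with an inner first map is small, or its
second map is inner and twisted by the first. -/
theorem pair_verdict {c : List ℕ × ℕ} (hc : c ∈ outerCfgs) {p x : ℕ} {U : List ℕ}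
    (T : Two ⟨c.1, c.2⟩ p x U) (hp : InnerCode ⟨c.1, c.2⟩ p) :
    Small ⟨c.1, c.2⟩ p x U ∨ (InnerCode ⟨c.1, c.2⟩ x ∧ Twisted ⟨c.1, c.2⟩ p x U) := by
  rw [outer_lists] at hc
  simp only [List.mem_cons, List.not_mem_nil, or_false] at hc
  rcases hc with rfl | rfl | rfl | rfl | rfl
  · exact natO_pair T hp
  · exact redAP_pair T hp
  · exact redAM_pair T hp
  · exact redBP_pair T hp
  · exact redBM_pair T hp

end Cfsg.Agent.Fi23Two
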