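import Cfsg.Agent.Fi22Two.TripleBase

/-!
# The finite check of commuting pairs of involutory maps

The variant of the check of triples where only the two maps, not their product, restrict the common fixed part.
-/

set_option autoImplicit false

namespace Cfsg.Agent.Fi23Two

open Cfsg.Agent.U62Rec Cfsg.Agent.Fi22Two

/-- `U` is the common image of the centralisers of two commuting involutions. -/
structure Two (C : Cfg) (p x : ℕ) (U : List ℕ) : Prop where
  ip : InvCode C p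
  ix : InvCode C x
  comm : U62Rec.cmp p x = U62Rec.cmp x p
  ne : p ≠ x
  nodup : U.Nodup
  fix : ∀ v ∈ U, v < 256 ∧ app p v = v ∧ app x v = v
  moved : ∀ q, q = p ∨ q = x → ∀ v < 256, Moved q v → (v ∈ U ↔ qv C.l v = false)
  phi : ∀ q, q = p ∨ q = x → InnerCode C q →
    ∃ m < 256, ∀ v < 256, app q v = v → (v ∈ U ↔ lv m v = false)

/-- A candidate for the second map and the common fixed part. -/
def cand2 (l x : ℕ) (U : List ℕ) : Bool :=
  U.all (fun v => Nat.beq (app x v) v) && movedOK l U x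

/-- A class without candidates. -/
def noCand2 (l : ℕ) (D : CData) : Bool :=
  D.T.S.all fun x => Nat.beq x idm || Nat.beq x D.c || !Nat.beq (U62Rec.cmp x x) idm ||
    D.Us.all fun e => !cand2 l x e.2

/-- Every candidate is small, or is inner and twisted or leads to the class `c0`. -/
def check2 (l : ℕ) (D : CData) (T1 : Tab) (ts0 : List (ℕ × ℕ)) (c0 : ℕ) : Bool :=
  D.T.S.all fun x => Nat.beq x idm || Nat.beq x D.c || !Nat.beq (U62Rec.cmp x x) idm ||
    D.Us.all fun e => !cand2 l x e.2 || smallOK D x e.2 ||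
      (mem x T1.S && (twistOK D x e.2 ||
        ts0.any fun p => Nat.beq (U62Rec.cmp x p.1) (U62Rec.cmp p.1 c0)))

variable {C : Cfg} {p x : ℕ} {U : List ℕ}

theorem Two.swap (T : Two C p x U) : Two C x p U :=
  ⟨T.ix, T.ip, T.comm.symm, T.ne.symm, T.nodup,
    fun v hv => ⟨(T.fix v hv).1, (T.fix v hv).2.2, (T.fix v hv).2.1⟩,
    fun q hq => T.moved q hq.symm, fun q hq => T.phi q hq.symm⟩

theorem Two.conj {h g : ℕ} (P : Pair C h g) (hQ : QOK C) (T : Two C p x U) :
    Two C (cjm h g p) (cjm h g x) (U.map (app h)) := by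
  have hU : ∀ v ∈ U, v < 256 := fun v hv => (T.fix v hv).1
  have hcode : ∀ q, q = p ∨ q = x → IsCode q := by
    rintro q (rfl | rfl)
    exacts [T.ip.gen.isCode, T.ix.gen.isCode]
  have which : ∀ q, q = cjm h g p ∨ q = cjm h g x →
      ∃ q', (q' = p ∨ q' = x) ∧ q = cjm h g q' := by
    rintro q (rfl | rfl)
    exacts [⟨p, Or.inl rfl, rfl⟩, ⟨x, Or.inr rfl, rfl⟩]
  refine ⟨P.inv T.ip, P.inv T.ix, by rw [cjm_mul P.gh, cjm_mul P.gh, T.comm],
    fun e => T.ne (P.inj T.ip.gen.isCode T.ix.gen.isCode e), ?_, ?_, ?_, ?_⟩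
  · exact T.nodup.map_on fun u hu v hv e => by
      rw [← app_app P.gh (hU u hu), e, app_app P.gh (hU v hv)]
  · intro v hv
    obtain ⟨w, hw, rfl⟩ := List.mem_map.1 hv
    obtain ⟨hw', hp, hx⟩ := T.fix w hw
    exact ⟨app_lt _ _, by rw [app_cjm P.gh hw', hp], by rw [app_cjm P.gh hw', hx]⟩
  · intro q hq v hv hm
    obtain ⟨q', hq', rfl⟩ := which q hq
    rw [mem_map_app P.hg P.gh hU hv,
      T.moved q' hq' _ (app_lt _ _) ((moved_iff P.hg P.gh q' hv).1 hm),
      qv_gen hQ P.symm.hG v hv]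
  · intro q hq hi
    obtain ⟨q', hq', rfl⟩ := which q hq
    have hi' : InnerCode C q' := by
      have := P.symm.inner hi
      rwa [cjm_cjm P.gh (hcode q' hq')] at this
    obtain ⟨m, hm, hmU⟩ := T.phi q' hq' hi'
    obtain ⟨m', hm', hmv⟩ := exists_lv (fun v => lv m (app g v)) fun a _ b _ => by
      rw [app_xor, lv_xor]
    refine ⟨m', hm', fun v hv hfv => ?_⟩
    rw [mem_map_app P.hg P.gh hU hv, hmv v hv]
    refine hmU _ (app_lt _ _) ?_
    have := congrArg (app g) hfv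
    rwa [← app_app P.hg hv, app_cjm P.gh (app_lt _ _), app_app P.gh (app_lt _ _),
      app_app P.hg hv] at this

/-- Too few maps centralise the pair; conjugation does not matter. -/
theorem small_conj {h g : ℕ} (P : Pair C h g) (hQ : QOK C) (hU : ∀ v ∈ U, v < 256)
    (hp : IsCode p) (hx : IsCode x) (V : Small C p x U) :
    Small C (cjm h g p) (cjm h g x) (U.map (app h)) := by
  obtain ⟨L, hn, hL, hlt⟩ := V
  refine ⟨L.map (cjm h g), ?_, ?_, ?_⟩
  · exact hn.map_on fun u hu v hv e =>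
      P.inj ((hL u).1 hu).1.isCode ((hL v).1 hv).1.isCode e
  · intro m
    rw [List.mem_map]
    constructor
    · rintro ⟨w, hw, rfl⟩
      obtain ⟨h1, h2, h3⟩ := (hL w).1 hw
      exact ⟨P.gen h1, by rw [cjm_mul P.gh, cjm_mul P.gh, h2],
        by rw [cjm_mul P.gh, cjm_mul P.gh, h3]⟩
    · rintro ⟨h1, h2, h3⟩
      refine ⟨cjm g h m, (hL _).2 ⟨P.symm.gen h1, ?_, ?_⟩, cjm_cjm P.hg h1.isCode⟩
      · have := congrArg (cjm g h) h2
        rwa [← cjm_mul P.hg, ← cjm_mul P.hg, cjm_cjm P.gh hp] at this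
      · have := congrArg (cjm g h) h3
        rwa [← cjm_mul P.hg, ← cjm_mul P.hg, cjm_cjm P.gh hx] at this
  · rw [length_rad_map (fun a ha b hb => fv_gen hQ P.hG ha hb) hU, List.length_map,
      List.length_map]
    exact hlt

/-- Twisting is invariant under conjugation. -/
theorem twisted_conj {h g : ℕ} (P : Pair C h g) (hU : ∀ v ∈ U, v < 256)
    (V : Twisted C p x U) : Twisted C (cjm h g p) (cjm h g x) (U.map (app h)) := by
  obtain ⟨hfix, c, hc, hc3, hcq, hy1, hy2⟩ := V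
  refine ⟨?_, cjm h g c, P.gen hc, ?_, ?_, ?_⟩
  · intro v hv hfv
    have hg' : app p (app g v) = app g v := by
      have := congrArg (app g) hfv
      rwa [← app_app P.hg hv, app_cjm P.gh (app_lt _ _), app_app P.gh (app_lt _ _),
        app_app P.hg hv] at this
    obtain ⟨h1, h2⟩ := hfix _ (app_lt _ _) hg'
    exact ⟨(mem_map_app P.hg P.gh hU hv).2 h1, (moved_iff P.hg P.gh p hv).2 h2⟩
  · rw [cjm_mul P.gh, cjm_mul P.gh, hc3, cjm_idm P.hg P.gI.isCode]
  · rw [cjm_mul P.gh, cjm_mul P.gh, hcq]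
  · simp only [cjm_mul P.gh]
    refine ⟨fun e => hy1 ?_, by rw [hy2, cjm_idm P.hg P.gI.isCode]⟩
    have := congrArg (cjm g h) e
    rwa [cjm_cjm P.gh (isCode_cmp _ _), cjm_idm P.gh P.hI.isCode] at this

variable {ginv : List ℕ} {D : CData}

/-- The common fixed part is one of the listed ones. -/
theorem Two.exists_listed (hD : dataOK C.gens ginv C.l D = true) (T : Two C D.c x U)
    (hi : InnerCode C D.c) : ∃ e ∈ D.Us, U.Perm e.2 := by
  simp only [dataOK, restOK, Bool.and_eq_true, List.all_eq_true, Bool.or_eq_true, List.any_eq_true,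
    decide_eq_true_eq, List.mem_range, Nat.beq_eq, bne_iff_ne, beq_iff_eq] at hD
  obtain ⟨⟨-, -⟩, ⟨⟨⟨hW, hB⟩, hUs⟩, hm'⟩⟩ := hD
  obtain ⟨m, hm, hmU⟩ := T.phi D.c (Or.inl rfl) hi
  rcases hm' m hm with ⟨e, he, hne⟩ | ⟨e, he, heW⟩
  · exfalso
    obtain ⟨⟨hu, hu2⟩, hv⟩ := hB e he
    have hfix : app D.c e.1 = e.1 := by
      rw [← hu, app_xor, ← app_cmp, T.ip.sq, app_idm hu2, Nat.xor_comm]
    have h1 := hmU e.1 hv hfix
    have h2 := T.moved D.c (Or.inl rfl) e.1 hv ⟨e.2, hu2, hu⟩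
    rw [h1] at h2
    apply hne
    revert h2
    cases lv m e.1 <;> cases qv C.l e.1 <;> simp
  · refine ⟨e, he, (List.perm_ext_iff_of_nodup T.nodup ?_).2 fun v => ?_⟩
    · rw [hUs e he, hW]; exact (List.nodup_range.filter _).filter _
    · have hmemW : ∀ w, w ∈ D.W ↔ w < 256 ∧ app D.c w = w := fun w => by
        rw [hW, List.mem_filter, List.mem_range, Nat.beq_eq]
      rw [hUs e he, List.mem_filter]
      constructor
      · intro hv
        obtain ⟨h1, h2, -⟩ := T.fix v hv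
        have := (hmemW v).2 ⟨h1, h2⟩
        refine ⟨this, ?_⟩
        rw [heW v this, (hmU v h1 h2).1 hv]; rfl
      · rintro ⟨hv, hl⟩
        obtain ⟨h1, h2⟩ := (hmemW v).1 hv
        rw [hmU v h1 h2, ← heW v hv]
        simpa using hl

theorem Two.cand (T : Two C D.c x U) {U₀ : List ℕ} (hp : U.Perm U₀) : cand2 C.l x U₀ = true := by
  simp only [cand2, movedOK, Bool.and_eq_true, List.all_eq_true, Nat.beq_eq, beq_iff_eq,
    List.mem_range]
  refine ⟨fun v hv => (T.fix v (hp.mem_iff.2 hv)).2.2, fun u hu => ?_⟩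
  have hlt : app x u ^^^ u < 256 := Nat.xor_lt_two_pow (n := 8) (app_lt _ _) hu
  have h1 := T.moved x (Or.inr rfl) _ hlt ⟨u, hu, rfl⟩
  rw [hp.mem_iff, ← U62Rec.mem_iff] at h1
  revert h1
  cases mem (app x u ^^^ u) U₀ <;> cases qv C.l (app x u ^^^ u) <;> simp

theorem Two.x_listed (hD : dataOK C.gens ginv C.l D = true) (T : Two C D.c x U) :
    x ∈ D.T.S ∧ Nat.beq x idm = false ∧ Nat.beq x D.c = false ∧
      (!Nat.beq (U62Rec.cmp x x) idm) = false := by
  simp only [dataOK, Bool.and_eq_true] at hD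
  refine ⟨Tab.mem_of_comm hD.1.1 hD.1.2 T.ix.gen T.comm.symm, ?_, ?_, ?_⟩
  · rw [← Bool.not_eq_true, Nat.beq_eq]; exact T.ix.ne
  · rw [← Bool.not_eq_true, Nat.beq_eq]; exact T.ne.symm
  · rw [T.ix.sq]; simp

theorem false_of_noCand2 (hD : dataOK C.gens ginv C.l D = true) (hi : InnerCode C D.c)
    (hn : noCand2 C.l D = true) (T : Two C D.c x U) : False := by
  obtain ⟨hx, h1, h2, h3⟩ := T.x_listed hD
  obtain ⟨e, he, hp⟩ := T.exists_listed hD hi
  simp only [noCand2, List.all_eq_true] at hn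
  have := hn x hx
  rw [h1, h2, h3] at this
  simp only [Bool.false_or, List.all_eq_true] at this
  have := this e he
  rw [T.cand hp] at this
  exact Bool.false_ne_true this

theorem verdict_of_check2 (hD : dataOK C.gens ginv C.l D = true) (hi : InnerCode C D.c)
    {T1 : Tab} {ts0 : List (ℕ × ℕ)} {c0 : ℕ} (hck : check2 C.l D T1 ts0 c0 = true)
    (T : Two C D.c x U) :
    Small C D.c x U ∨ x ∈ T1.S ∧
      (Twisted C D.c x U ∨ ∃ p ∈ ts0, U62Rec.cmp x p.1 = U62Rec.cmp p.1 c0) := by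
  obtain ⟨hx, h1, h2, h3⟩ := T.x_listed hD
  obtain ⟨e, he, hp⟩ := T.exists_listed hD hi
  simp only [check2, List.all_eq_true] at hck
  have := hck x hx
  rw [h1, h2, h3] at this
  simp only [Bool.false_or, List.all_eq_true] at this
  have h := this e he
  rw [T.cand hp] at h
  simp only [Bool.not_true, Bool.false_or, Bool.or_eq_true, Bool.and_eq_true, List.any_eq_true,
    Nat.beq_eq, U62Rec.mem_iff] at h
  simp only [dataOK, restOK, Bool.and_eq_true, List.all_eq_true, decide_eq_true_eq, Nat.beq_eq] at hD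
  obtain ⟨⟨hT, hc⟩, ⟨⟨⟨hW, hB⟩, -⟩, -⟩⟩ := hD
  rcases h with h | ⟨hxT, h | h⟩
  · left
    simp only [smallOK, decide_eq_true_eq] at h
    refine ⟨(D.T.S.filter fun s => Nat.beq (U62Rec.cmp x s) (U62Rec.cmp s x)).dedup,
      List.nodup_dedup _, fun m => ?_, lt_of_le_of_lt (le_of_eq ?_) (h.trans_le
      (le_of_eq (by rw [hp.length_eq])))⟩
    · rw [List.mem_dedup, List.mem_filter, Nat.beq_eq]
      constructor
      · rintro ⟨hm, hmx⟩
        exact ⟨(Tab.spec_of_ok hT).S_gen m hm, (Tab.S_comm hT hc m hm).symm, hmx⟩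
      · rintro ⟨hm, hmc, hmx⟩
        exact ⟨Tab.mem_of_comm hT hc hm hmc.symm, hmx⟩
    · congr 1
      have hall : ∀ v, U.all (fun u => !fv v u) = e.2.all (fun u => !fv v u) := fun v => by
        rw [Bool.eq_iff_iff, List.all_eq_true, List.all_eq_true]
        exact ⟨fun H u hu => H u (hp.mem_iff.2 hu), fun H u hu => H u (hp.mem_iff.1 hu)⟩
      show (U.filter fun v => U.all fun u => !fv v u).length = _
      simp only [hall]
      exact (hp.filter _).length_eq
  · refine Or.inr ⟨hxT, Or.inl ?_⟩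
    simp only [twistOK, Bool.and_eq_true, List.all_eq_true, List.any_eq_true, Nat.beq_eq,
      Bool.not_eq_true', U62Rec.mem_iff] at h
    obtain ⟨hWU, s, hs, hs3, hy1, hy2⟩ := h
    refine ⟨fun v hv hfv => ?_, s, (Tab.spec_of_ok hT).S_gen s hs, hs3,
      Tab.S_comm hT hc s hs, ?_, hy2⟩
    · have hvW : v ∈ D.W := by
        rw [hW, List.mem_filter, List.mem_range, Nat.beq_eq]; exact ⟨hv, hfv⟩
      obtain ⟨h1, b, hb, rfl⟩ := hWU v hvW
      exact ⟨hp.mem_iff.2 h1, b.2, (hB b hb).1.2, (hB b hb).1.1⟩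
    · intro e'
      rw [← Bool.not_eq_true, Nat.beq_eq] at hy1
      exact hy1 e'
  · exact Or.inr ⟨hxT, Or.inr h⟩

/-- The verdict from the checks at the two classes of the inner part. -/
theorem pair_of_classes (hQ : QOK C) {ginvI : List ℕ} {gI : List ℕ}
    (hgI : C.gens.take 8 = gI) (hinv : invOK gI ginvI = true) {T0 T1 : Tab}
    (hT0 : T0.ok gI ginvI = true) (hT1 : T1.ok gI ginvI = true) {D0 D1 : CData}
    (h0 : dataOK C.gens ginv C.l D0 = true) (h1 : dataOK C.gens ginv C.l D1 = true)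
    (hn : noCand2 C.l D0 = true) (hc0 : mem D0.c T0.S = true)
    (hck : check2 C.l D1 T1 T0.ts D0.c = true)
    (hcls : ∀ m, Gen gI m → m ≠ idm → U62Rec.cmp m m = idm →
      ∃ c, (c = D0.c ∨ c = D1.c) ∧ ∃ h, Gen gI h ∧ U62Rec.cmp m h = U62Rec.cmp h c)
    (T : Two C p x U) (hp : InnerCode C p) :
    Small C p x U ∨ (InnerCode C x ∧ Twisted C p x U) := by
  have hIeq : ∀ m, InnerCode C m ↔ Gen gI m := fun m => by rw [InnerCode, hgI]
  have hgc : ∀ g ∈ gI, IsCode g := (Tab.spec_of_ok hT0).code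
  obtain ⟨c, hc, h, hh, hconj⟩ := hcls p ((hIeq p).1 hp) T.ip.ne T.ip.sq
  obtain ⟨g, hg, hhg⟩ := hh.exists_inv hgc hinv
  have P : Pair C g h :=
    ⟨(hIeq _).2 hg, (hIeq _).2 hh, left_inv_of_right hg.isCode hh.isCode hhg, hhg⟩
  have e : cjm g h p = c := by
    show U62Rec.cmp g (U62Rec.cmp p h) = c
    rw [hconj, ← cmp_assoc, P.hg, idm_cmp]
    rcases hc with rfl | rfl
    · exact isCode_of_data h0
    · exact isCode_of_data h1
  have T' := T.conj P hQ
  rw [e] at T'
  have hi : InnerCode C c := e ▸ P.inner hp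
  have hU : ∀ v ∈ U, v < 256 := fun v hv => (T.fix v hv).1
  have hU' : ∀ v ∈ U.map (app g), v < 256 := fun v hv => (T'.fix v hv).1
  rcases hc with rfl | rfl
  · exact (false_of_noCand2 h0 hi hn T').elim
  · rcases verdict_of_check2 h1 hi hck T' with V | ⟨hxT, V | ⟨t, ht, htc⟩⟩
    · left
      have V' := small_conj P.symm hQ hU' T'.ip.gen.isCode T'.ix.gen.isCode V
      rw [← e, cjm_cjm P.gh T.ip.gen.isCode, cjm_cjm P.gh T.ix.gen.isCode,
        map_app_back P.symm hU] at V'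
      exact V'
    · have hxi : InnerCode C (cjm g h x) := (hIeq _).2 ((Tab.spec_of_ok hT1).S_gen _ hxT)
      refine Or.inr ⟨?_, ?_⟩
      · have := P.symm.inner hxi
        rwa [cjm_cjm P.gh T.ix.gen.isCode] at this
      · have V' := twisted_conj P.symm hU' V
        rw [← e, cjm_cjm P.gh T.ip.gen.isCode, cjm_cjm P.gh T.ix.gen.isCode,
          map_app_back P.symm hU] at V'
        exact V'
    · exfalso
      obtain ⟨ht1, ht2, htt⟩ := (Tab.spec_of_ok hT0).ts_gen t ht
      have Q : Pair C t.2 t.1 :=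
        ⟨(hIeq _).2 ht2, (hIeq _).2 ht1, left_inv_of_right ht2.isCode ht1.isCode htt, htt⟩
      have e2 : cjm t.2 t.1 (cjm g h x) = D0.c := by
        show U62Rec.cmp t.2 (U62Rec.cmp (cjm g h x) t.1) = D0.c
        rw [htc, ← cmp_assoc, Q.hg, idm_cmp (isCode_of_data h0)]
      have T'' := T'.swap.conj Q hQ
      rw [e2] at T''
      have hi0 : InnerCode C D0.c := (hIeq _).2 ((Tab.spec_of_ok hT0).S_gen _ (mem_iff.1 hc0))
      exact false_of_noCand2 h0 hi0 hn T''

end Cfsg.Agent.Fi23Two
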