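import Cfsg.Agent.Fi23Two.Common

/-!
# The common image of the centralisers
-/

set_option autoImplicit false
set_option linter.unusedSectionVars false

open Cfsg Subgroup

namespace Cfsg.Agent.Fi23Two

open Cfsg.Agent.LargeExtra Cfsg.Agent.U62Rec

variable {G : Type*} [Group G] [Finite G] {z a b g : G}

/-- The common image of the centralisers. -/
noncomputable def ulist {C : Cfg} (M : Mod3 C z a b) (g : G) : List ℕ :=
  haveI := Classical.decPred fun v => ∃ j ∈ oc z, Commute j (g * z * g⁻¹) ∧ M.bar j = v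
  (List.range 256).filter fun v => decide (∃ j ∈ oc z, Commute j (g * z * g⁻¹) ∧ M.bar j = v)

theorem mem_ulist {C : Cfg} {M : Mod3 C z a b} {v : ℕ} :
    v ∈ ulist M g ↔ v < 256 ∧ ∃ j ∈ oc z, Commute j (g * z * g⁻¹) ∧ M.bar j = v := by
  simp [ulist]

end Cfsg.Agent.Fi23Two
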