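import Cfsg.Agent.Fi23Two.Pair
import Cfsg.Agent.Fi23Two.UList
import Cfsg.Agent.Fi23Two.PairBase

/-!
# The conditions of the finite check on a commuting pair of conjugates
-/

set_option autoImplicit false
set_option linter.unusedSectionVars false

open Cfsg Subgroup
open scoped commutatorElement

namespace Cfsg.Agent.Fi23Two

open Cfsg.Agent.LargeExtra Cfsg.Agent.U62Rec Cfsg.Agent.Fi22Two
open Cfsg.Agent.Fi22Two.Iso (com com_mem com_eq_one exists_lv)

variable {G : Type*} [Group G] [Finite G] {z a b g : G}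

theorem ulist_nodup {C : Cfg} (M : Mod3 C z a b) : (ulist M g).Nodup :=
  List.nodup_range.filter _

section

variable (h : Hyp3 z a b)
include h

/-- The value of a functional `s` on the part in `⟨a, b⟩`. -/
def Part (s : Bool → Bool → Bool) (e : G) : Prop := ∃ i j k, e = h.el i j k ∧ s i j = true

theorem part_el (s : Bool → Bool → Bool) (i j k : Bool) : Part h s (h.el i j k) ↔ s i j = true := by
  constructor
  · rintro ⟨i', j', k', e, hs⟩
    obtain ⟨rfl, rfl, -⟩ := h.el_inj e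
    exact hs
  · exact fun hs => ⟨i, j, k, rfl, hs⟩

theorem part_mul {s : Bool → Bool → Bool}
    (hs : ∀ i j i' j', s (i ^^ i') (j ^^ j') = (s i j ^^ s i' j')) {e f : G} (he : InZ z a b e)
    (hf : InZ z a b f) : Part h s (e * f) ↔ ¬ (Part h s e ↔ Part h s f) := by
  obtain ⟨i, j, k, rfl⟩ := h.exists_el he
  obtain ⟨i', j', k', rfl⟩ := h.exists_el hf
  rw [h.el_mul, part_el, part_el, part_el, hs]
  cases s i j <;> cases s i' j' <;> simp

theorem part_one_z {s : Bool → Bool → Bool}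
    (hs : ∀ i j i' j', s (i ^^ i') (j ^^ j') = (s i j ^^ s i' j')) {e : G} (he : e = 1 ∨ e = z) :
    InZ z a b e ∧ ¬ Part h s e := by
  have h0 : s false false = false := by
    have := hs false false false false
    simp at this; exact this
  rcases he with rfl | rfl
  · exact ⟨Or.inl (Or.inl rfl), fun hp => by
      have := (part_el h s false false false).1 hp
      simp [h0] at this⟩
  · exact ⟨h.el_inZ false false true, fun hp => by
      have := (part_el h s false false true).1 hp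
      simp [h0] at this⟩

variable {C : Cfg} (M : Mod3 C z a b) {x j k : G} (hx : x ∈ cza z a)
include M hx

theorem bar_com3 (hj : j ∈ oc z) : M.bar (com x j) = app (M.rho x) (M.bar j) ^^^ M.bar j := by
  rw [com, M.bar_mul _ (oc_conj_mem hx.1 hj) _ (inv_mem hj), M.binv h hj, M.rho_act x hx j hj]

theorem com_inZ_iff (hj : j ∈ oc z) : InZ z a b (com x j) ↔ app (M.rho x) (M.bar j) = M.bar j := by
  rw [← M.bar_eq _ (com_mem hx.1 hj), bar_com3 h M hx hj, Nat.xor_eq_zero_iff]

theorem com_congr3 (hxb : Commute x b) (hj : j ∈ oc z) (hk : k ∈ oc z) (e : M.bar j = M.bar k) :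
    com x k = com x j := by
  have he : InZ z a b (j⁻¹ * k) := M.bcong h hj hk e
  obtain ⟨d, rfl⟩ : ∃ d, k = j * d := ⟨j⁻¹ * k, by group⟩
  rw [inv_mul_cancel_left] at he
  show x * (j * d) * x⁻¹ * (j * d)⁻¹ = x * j * x⁻¹ * j⁻¹
  rw [show x * (j * d) * x⁻¹ = x * j * (d * x⁻¹) by group,
    ((h.cen_comm he hx hxb).inv_left.eq).symm]
  group

theorem com_mul3 (hj : j ∈ oc z) (hk : InZ z a b (com x k)) :
    com x (j * k) = com x j * com x k := by
  calc com x (j * k) = x * j * x⁻¹ * com x k * j⁻¹ := by simp only [com]; group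
    _ = x * j * x⁻¹ * (com x k * j⁻¹) := by rw [mul_assoc]
    _ = x * j * x⁻¹ * (j⁻¹ * com x k) := by rw [(h.inZ_comm hk (inv_mem hj)).eq]
    _ = com x j * com x k := by simp only [com, mul_assoc]

theorem com_mul_left3 (hxb : Commute x b) {y : G} (hy : InZ z a b (com y j)) :
    com (x * y) j = com y j * com x j := by
  calc com (x * y) j = x * com y j * x⁻¹ * com x j := by simp only [com]; group
    _ = com y j * com x j := by rw [(h.cen_comm hy hx hxb).eq, mul_inv_cancel_right]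

end

namespace Good3

variable (h : Standing3 z a b) (P : Good3 z a b g) {C : Cfg} (M : Mod3 C z a b)
include h P

theorem rho_inv {x : G} (hx : Tr3 z a g x) : InvCode C (M.rho x) := by
  refine ⟨M.rho_gen x (P.tr_mem h hx),
    fun e => P.tr_notMem h hx ((M.rho_ker x (P.tr_mem h hx)).1 e), ?_⟩
  rw [← M.rho_mul x (P.tr_mem h hx) x (P.tr_mem h hx), P.tr_sq h hx, M.rone]

theorem rho_ne {x y : G} (hx : Tr3 z a g x) (hy : Tr3 z a g y) (hne : x ≠ y) :
    M.rho x ≠ M.rho y := fun e => P.tr_mul_notMem h hx hy hne (by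
  have := (M.rinj (P.tr_mem h hx) (P.tr_mem h hy)).1 e
  rwa [inv_eq_of_mul_eq_one_right (P.tr_sq h hx)] at this)

theorem u_fix {x : G} (hx : Tr3 z a g x) {v : ℕ} (hv : v ∈ ulist M g) :
    app (M.rho x) v = v := by
  obtain ⟨-, j, hj, hjw, rfl⟩ := mem_ulist.1 hv
  rw [← M.rho_act x (P.tr_mem h hx) j hj, ((P.tr_commute h hx hj).2 hjw).symm.eq,
    mul_inv_cancel_right]

theorem mem_u_iff {x j : G} (hx : Tr3 z a g x) (hxb : Commute x b) (hj : j ∈ oc z) :
    M.bar j ∈ ulist M g ↔ com x j = 1 := by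
  rw [mem_ulist, com_eq_one]
  constructor
  · rintro ⟨-, k, hk, hkw, e⟩
    have h1 : com x k = 1 := com_eq_one.2 ((P.tr_commute h hx hk).2 hkw).symm
    rwa [← com_congr3 h.hyp M (P.tr_mem h hx) hxb hk hj e, com_eq_one] at h1
  · exact fun e => ⟨M.bar_lt j, j, hj, (P.tr_commute h hx hj).1 e.symm, rfl⟩

theorem moved_com {x : G} (hx : Tr3 z a g x) {v : ℕ} (hm : Moved (M.rho x) v) :
    ∃ j ∈ oc z, M.bar j = v ∧ com x j = j⁻¹ * j⁻¹ := by
  obtain ⟨u0, hu0, rfl⟩ := hm
  obtain ⟨j0, hj0, rfl⟩ := M.bar_surj u0 hu0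
  have hxm := P.tr_mem h hx
  refine ⟨com x j0, com_mem hxm.1 hj0, bar_com3 h.hyp M hxm hj0, ?_⟩
  have hxi : x⁻¹ = x := inv_eq_of_mul_eq_one_right (P.tr_sq h hx)
  simp only [com, mul_inv_rev, inv_inv]
  rw [show x * (x * j0 * x⁻¹ * j0⁻¹) * x⁻¹ = x * x * (j0 * x⁻¹ * j0⁻¹) * x⁻¹ by group,
    P.tr_sq h hx, hxi]
  group

theorem u_moved {x : G} (hx : Tr3 z a g x) {v : ℕ} (hm : Moved (M.rho x) v) :
    v ∈ ulist M g ↔ qv C.l v = false := by
  obtain ⟨c, hc, rfl, hcc⟩ := P.moved_com h M hx hm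
  have hxm := P.tr_mem h hx
  rw [M.qv_iff h.hyp hc]
  constructor
  · intro hu
    obtain ⟨-, k, hk, hkw, e⟩ := mem_ulist.1 hu
    have he : InZ z a b (c⁻¹ * k) := M.bcong h.hyp hc hk e.symm
    set d := c⁻¹ * k
    have hkx : x * k * x⁻¹ = k := by
      rw [((P.tr_commute h hx hk).2 hkw).symm.eq, mul_inv_cancel_right]
    have hcx : x * c * x⁻¹ = c⁻¹ := by
      have : com x c * c = x * c * x⁻¹ := by simp [com]
      rw [← this, hcc, inv_mul_cancel_right]
    have h1 : x * d * x⁻¹ * d⁻¹ = c * c := by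
      have hd : x * d * x⁻¹ = c * k := by
        rw [show x * d * x⁻¹ = (x * c * x⁻¹)⁻¹ * (x * k * x⁻¹) by simp only [d]; group, hcx, hkx,
          inv_inv]
      calc x * d * x⁻¹ * d⁻¹ = c * k * d⁻¹ := by rw [hd]
        _ = c * c := by simp only [d]; group
    rcases h.hyp.com_inZ hxm he with e1 | e1 <;> rw [h1] at e1
    · exact e1
    · rcases h.hyp.sq c hc with e2 | e2
      · exact e2
      · exact absurd (Or.inr (Or.inl (e2.symm.trans e1))) h.hyp.z_notW
  · intro hs
    refine mem_ulist.2 ⟨M.bar_lt c, c, hc, (P.tr_commute h hx hc).1 ?_, rfl⟩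
    have : com x c = 1 := by rw [hcc, ← mul_inv_rev, hs, inv_one]
    exact (com_eq_one.1 this).symm

variable (hFun : ∀ p m, InnerFunctional C p m → ∀ v < 256, app p v = v → lv m v = false)
  (hbr : ∀ y ∈ cza z a, InnerCode C (M.rho y) ↔ Commute y b)
include hFun hbr

/-- The commutator map of an inner involution does not reach `⟨a, b⟩`. -/
theorem not_part {x : G} (hx : Tr3 z a g x) (hi : InnerCode C (M.rho x)) {j : G} (hj : j ∈ oc z)
    (hv : app (M.rho x) (M.bar j) = M.bar j) {s : Bool → Bool → Bool}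
    (hs : ∀ i j i' j', s (i ^^ i') (j ^^ j') = (s i j ^^ s i' j')) :
    ¬ Part h.hyp s (com x j) := by
  classical
  have hxm := P.tr_mem h hx
  have hxb : Commute x b := (hbr x hxm).1 hi
  let S : ℕ → Prop := fun v => v < 256 ∧ app (M.rho x) v = v
  let f : ℕ → Bool := fun v => decide (∃ k ∈ oc z, M.bar k = v ∧ Part h.hyp s (com x k))
  have hfd : ∀ k ∈ oc z, f (M.bar k) = decide (Part h.hyp s (com x k)) := fun k hk =>
    decide_eq_decide.2 ⟨fun ⟨k', hk', e, ho⟩ => com_congr3 h.hyp M hxm hxb hk' hk e ▸ ho,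
      fun ho => ⟨k, hk, rfl, ho⟩⟩
  have hS : ∀ v w, S v → S w → S (v ^^^ w) := fun v w hv hw =>
    ⟨Nat.xor_lt_two_pow (n := 8) hv.1 hw.1, by rw [app_xor, hv.2, hw.2]⟩
  have hfx : ∀ v w, S v → S w → f (v ^^^ w) = (f v ^^ f w) := by
    intro v w hv hw
    obtain ⟨k, hk, rfl⟩ := M.bar_surj v hv.1
    obtain ⟨l, hl, rfl⟩ := M.bar_surj w hw.1
    have hkc := (com_inZ_iff h.hyp M hxm hk).2 hv.2
    have hlc := (com_inZ_iff h.hyp M hxm hl).2 hw.2
    rw [← M.bar_mul k hk l hl, hfd _ (mul_mem hk hl), hfd _ hk, hfd _ hl,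
      com_mul3 h.hyp M hxm hk hlc]
    have := part_mul h.hyp hs hkc hlc
    by_cases h1 : Part h.hyp s (com x k) <;> by_cases h2 : Part h.hyp s (com x l) <;>
      simp [h1, h2] at this ⊢ <;> exact this
  obtain ⟨m, -, hmv⟩ := exists_lv S f hS hfx
  have hF : InnerFunctional C (M.rho x) m := by
    refine ⟨P.rho_inv h M hx, hi, ?_, ?_, ?_⟩
    · intro v hv256 hm
      obtain ⟨k, hk, rfl, hc⟩ := P.moved_com h M hx hm
      have hn : com x k = 1 ∨ com x k = z := by
        rw [hc, ← mul_inv_rev]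
        rcases h.hyp.sq k hk with e | e <;> rw [e]
        · exact Or.inl inv_one
        · exact Or.inr (inv_eq_of_mul_eq_one_right h.hyp.zsq)
      obtain ⟨hcen, hno⟩ := part_one_z h.hyp hs hn
      rw [hmv _ hv256 ⟨hv256, (com_inZ_iff h.hyp M hxm hk).1 hcen⟩, hfd k hk]
      exact decide_eq_false hno
    · intro c hc hcomm v hv256 hfix
      obtain ⟨d, hd, rfl⟩ := M.lift hc.gen
      have hdb : Commute d b := (hbr d hd).1 hc
      obtain ⟨k, hk, rfl⟩ := M.bar_surj v hv256
      have hkc := (com_inZ_iff h.hyp M hxm hk).2 hfix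
      have hdk : d * k * d⁻¹ ∈ oc z := oc_conj_mem hd.1 hk
      have hfix' : app (M.rho x) (app (M.rho d) (M.bar k)) = app (M.rho d) (M.bar k) := by
        rw [← app_cmp, ← hcomm, app_cmp, hfix]
      have hdkc : InZ z a b (com x (d * k * d⁻¹)) :=
        (com_inZ_iff h.hyp M hxm hdk).2 (by rw [M.rho_act d hd k hk]; exact hfix')
      rw [← M.rho_act d hd k hk,
        hmv _ (M.bar_lt _) ⟨M.bar_lt _, by rw [M.rho_act d hd k hk]; exact hfix'⟩,
        hmv _ hv256 ⟨hv256, hfix⟩, hfd _ hdk, hfd _ hk]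
      set l := d * k * d⁻¹ with hl
      have ht : d * x * d⁻¹ * x⁻¹ ∈ oc z := by
        rw [← M.rho_ker _ (mul_mem (mul_mem (mul_mem hd hxm) (inv_mem hd)) (inv_mem hxm)),
          M.rho_mul _ (mul_mem (mul_mem hd hxm) (inv_mem hd)) _ (inv_mem hxm),
          M.rho_mul _ (mul_mem hd hxm) _ (inv_mem hd), M.rho_mul _ hd _ hxm, hcomm,
          cmp_assoc (M.rho x) (M.rho d), M.rcancel hd, cmp_idm (M.rho_code x), M.rcancel hxm]
      set t := d * x * d⁻¹ * x⁻¹ with ht'
      obtain ⟨hzc, hzn⟩ := part_one_z h.hyp hs (h.hyp.comm t ht l hdk)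
      have key : com x k = com x l * (t * l * t⁻¹ * l⁻¹) := by
        calc com x k = d * com x k * d⁻¹ := by
              rw [(h.hyp.cen_comm hkc hd hdb).eq, mul_inv_cancel_right]
          _ = t * com x l * l * t⁻¹ * l⁻¹ := by rw [ht', hl]; simp only [com]; group
          _ = com x l * (t * l * t⁻¹ * l⁻¹) := by
              rw [← (h.hyp.inZ_comm hdkc ht).eq]; group
      have := part_mul h.hyp hs hdkc hzc
      rw [← key] at this
      by_cases h1 : Part h.hyp s (com x l) <;> by_cases h2 : Part h.hyp s (com x k) <;>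
        simp [h1, h2, hzn] at this ⊢
    · intro v hv256 hfix hgen
      obtain ⟨k, hk, rfl⟩ := M.bar_surj v hv256
      rw [hmv _ hv256 ⟨hv256, hfix⟩, hfd k hk]
      refine decide_eq_false ?_
      set I := cza z a ⊓ centralizer ({b} : Set G)
      have hIb : ∀ y ∈ I, Commute y b := fun y hy => mem_centralizer_singleton_iff.1 hy.2
      have hall : ∀ y ∈ I, InZ z a b (com y k) := fun y hy => by
        refine (com_inZ_iff h.hyp M hy.1 hk).2 ?_
        suffices ∀ p, InnerCode C p → app p (M.bar k) = M.bar k from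
          this _ ((hbr y hy.1).2 (hIb y hy))
        intro p hp
        induction hp with
        | one => exact app_idm hv256
        | @step p m hp' _ ih => rw [app_cmp, ih, hgen p hp']
      have hmul : ∀ p ∈ I, ∀ q ∈ I, (Part h.hyp s (com (p * q) k) ↔
          ¬ (Part h.hyp s (com q k) ↔ Part h.hyp s (com p k))) := fun p hp q hq => by
        rw [com_mul_left3 h.hyp M hp.1 (hIb p hp) (hall q hq)]
        exact part_mul h.hyp hs (hall q hq) (hall p hp)
      have hone : ¬ Part h.hyp s (com 1 k) := by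
        refine (part_one_z h.hyp hs (Or.inl ?_)).2
        simp [com]
      have hinv : ∀ p ∈ I, (Part h.hyp s (com p⁻¹ k) ↔ Part h.hyp s (com p k)) := fun p hp => by
        have := hmul p hp _ (inv_mem hp)
        rw [mul_inv_cancel] at this
        by_cases h1 : Part h.hyp s (com p k) <;> by_cases h2 : Part h.hyp s (com p⁻¹ k) <;>
          simp_all
      let K : Subgroup G :=
        { carrier := {y | y ∈ I ∧ ¬ Part h.hyp s (com y k)}
          mul_mem' := fun {p q} hp hq => ⟨mul_mem hp.1 hq.1, by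
            rw [hmul p hp.1 q hq.1]; have := hp.2; have := hq.2; tauto⟩
          one_mem' := ⟨one_mem _, hone⟩
          inv_mem' := fun {p} hp => ⟨inv_mem hp.1, by rw [hinv p hp.1]; exact hp.2⟩ }
      have hJI : oc z ≤ I := fun t ht => ⟨⟨oc_le z ht, mem_centralizer_singleton_iff.2
        (h.hyp.inZ_comm (Or.inl (Or.inr (Or.inl rfl))) ht).symm.eq⟩,
        mem_centralizer_singleton_iff.2
        (h.hyp.inZ_comm (Or.inl (Or.inr (Or.inr (Or.inl rfl)))) ht).symm.eq⟩
      have hJK : oc z ≤ K := fun t ht =>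
        ⟨hJI ht, (part_one_z h.hyp hs (h.hyp.comm t ht k hk)).2⟩
      have hcK : ⁅I, I⁆ ≤ K := by
        rw [commutator_le]
        intro p hp q hq
        refine ⟨mul_mem (mul_mem (mul_mem hp hq) (inv_mem hp)) (inv_mem hq), ?_⟩
        rw [commutatorElement_def, hmul _ (mul_mem (mul_mem hp hq) (inv_mem hp)) _ (inv_mem hq),
          hmul _ (mul_mem hp hq) _ (inv_mem hp), hmul _ hp _ hq, hinv p hp, hinv q hq]
        tauto
      exact (sup_le hcK hJK (h.hyp.fixed_le_derived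
        ⟨hxm, mem_centralizer_singleton_iff.2 hxb.eq⟩)).2
  have h0 := hFun _ _ hF _ (M.bar_lt j) hv
  rw [hmv _ (M.bar_lt j) ⟨M.bar_lt j, hv⟩, hfd j hj] at h0
  exact of_decide_eq_false h0

theorem com_one_z {x : G} (hx : Tr3 z a g x) (hi : InnerCode C (M.rho x)) {j : G} (hj : j ∈ oc z)
    (hv : app (M.rho x) (M.bar j) = M.bar j) : com x j = 1 ∨ com x j = z := by
  obtain ⟨i, k, l, e⟩ := h.hyp.exists_el ((com_inZ_iff h.hyp M (P.tr_mem h hx) hj).2 hv)
  have h1 := P.not_part h M hFun hbr hx hi hj hv (s := fun i _ => i) (fun _ _ _ _ => rfl)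
  have h2 := P.not_part h M hFun hbr hx hi hj hv (s := fun _ k => k) (fun _ _ _ _ => rfl)
  rw [e, part_el] at h1 h2
  obtain rfl : i = false := by simpa using h1
  obtain rfl : k = false := by simpa using h2
  rw [e]
  cases l <;> simp [Hyp3.el]

theorem u_phi {x : G} (hx : Tr3 z a g x) (hi : InnerCode C (M.rho x)) :
    ∃ m < 256, ∀ v < 256, app (M.rho x) v = v → (v ∈ ulist M g ↔ lv m v = false) := by
  classical
  have hxm := P.tr_mem h hx
  have hxb : Commute x b := (hbr x hxm).1 hi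
  have hz : z ≠ 1 := fun e => h.hyp.z_notW (Or.inl e)
  let S : ℕ → Prop := fun v => v < 256 ∧ app (M.rho x) v = v
  let f : ℕ → Bool := fun v => decide (∃ k ∈ oc z, M.bar k = v ∧ com x k ≠ 1)
  have hfd : ∀ k ∈ oc z, f (M.bar k) = decide (com x k ≠ 1) := fun k hk =>
    decide_eq_decide.2 ⟨fun ⟨k', hk', e, ho⟩ => com_congr3 h.hyp M hxm hxb hk' hk e ▸ ho,
      fun ho => ⟨k, hk, rfl, ho⟩⟩
  have hS : ∀ v w, S v → S w → S (v ^^^ w) := fun v w hv hw =>
    ⟨Nat.xor_lt_two_pow (n := 8) hv.1 hw.1, by rw [app_xor, hv.2, hw.2]⟩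
  have hfx : ∀ v w, S v → S w → f (v ^^^ w) = (f v ^^ f w) := by
    intro v w hv hw
    obtain ⟨k, hk, rfl⟩ := M.bar_surj v hv.1
    obtain ⟨l, hl, rfl⟩ := M.bar_surj w hw.1
    have h1 := P.com_one_z h M hFun hbr hx hi hk hv.2
    have h2 := P.com_one_z h M hFun hbr hx hi hl hw.2
    rw [← M.bar_mul k hk l hl, hfd _ (mul_mem hk hl), hfd _ hk, hfd _ hl,
      com_mul3 h.hyp M hxm hk ((com_inZ_iff h.hyp M hxm hl).2 hw.2)]
    rcases h1 with e1 | e1 <;> rcases h2 with e2 | e2 <;>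
      simp [e1, e2, hz, h.hyp.zsq]
  obtain ⟨m, hm, hmv⟩ := exists_lv S f hS hfx
  refine ⟨m, hm, fun v hv hfix => ?_⟩
  obtain ⟨k, hk, rfl⟩ := M.bar_surj v hv
  rw [P.mem_u_iff h M hx hxb hk, hmv _ hv ⟨hv, hfix⟩, hfd k hk]
  simp

/-- The conditions of the pair check. -/
theorem two {x y : G} (hx : Tr3 z a g x) (hy : Tr3 z a g y) (hne : x ≠ y) :
    Two C (M.rho x) (M.rho y) (ulist M g) := by
  have hxm := P.tr_mem h hx
  have hym := P.tr_mem h hy
  refine ⟨P.rho_inv h M hx, P.rho_inv h M hy, ?_, P.rho_ne h M hx hy hne, ulist_nodup M, ?_, ?_, ?_⟩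
  · rw [← M.rho_mul x hxm y hym, ← M.rho_mul y hym x hxm, (P.tr_pair h hx hy).eq]
  · exact fun v hv => ⟨(mem_ulist.1 hv).1, P.u_fix h M hx hv, P.u_fix h M hy hv⟩
  · intro q hq v hv hm
    rcases hq with rfl | rfl
    exacts [P.u_moved h M hx hm, P.u_moved h M hy hm]
  · intro q hq hqi
    rcases hq with rfl | rfl
    exacts [P.u_phi h M hFun hbr hx hqi, P.u_phi h M hFun hbr hy hqi]

end Good3

end Cfsg.Agent.Fi23Two
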