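import Cfsg.Agent.Fi23Two.Common
import Cfsg.Agent.Fi22Two.IsolatedTriple

/-!
# Coordinates modulo a centre of order eight: elementary consequences
-/

set_option autoImplicit false
set_option linter.unusedSectionVars false

open Cfsg Subgroup
open scoped commutatorElement

namespace Cfsg.Agent.Fi23Two

open Cfsg.Agent.LargeExtra Cfsg.Agent.U62Rec

variable {G : Type*} [Group G] [Finite G] {z a b : G}

namespace Hyp3

variable (h : Hyp3 z a b)
include h

theorem zsq : z * z = 1 := by
  rw [← _root_.sq, ← h.ordz]; exact pow_orderOf_eq_one z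

theorem z_in : z ∈ oc z := mem_oc_self h.ordz

theorem za_comm : Commute z a := (mem_centralizer_singleton_iff.1 (oc_le z h.a_mem)).symm

theorem zb_comm : Commute z b := (mem_centralizer_singleton_iff.1 (oc_le z h.b_mem)).symm

theorem ab_comm : Commute a b :=
  (h.centre a h.a_mem).2 (Or.inl (Or.inr (Or.inl rfl))) b h.b_mem

theorem inZ_mem {e : G} (he : InZ z a b e) : e ∈ oc z := by
  have hW : ∀ {x}, InW a b x → x ∈ oc z := by
    rintro x (rfl | rfl | rfl | rfl)
    exacts [one_mem _, h.a_mem, h.b_mem, mul_mem h.a_mem h.b_mem]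
  rcases he with e1 | e1
  · exact hW e1
  · rw [show e = e * z * z by rw [mul_assoc, h.zsq, mul_one]]
    exact mul_mem (hW e1) h.z_in

theorem inZ_comm {e j : G} (he : InZ z a b e) (hj : j ∈ oc z) : Commute e j :=
  (h.centre e (h.inZ_mem he)).2 he j hj

theorem inZ_mul {e f : G} (he : InZ z a b e) (hf : InZ z a b f) : InZ z a b (e * f) :=
  (h.centre _ (mul_mem (h.inZ_mem he) (h.inZ_mem hf))).1
    fun y hy => (h.inZ_comm he hy).mul_left (h.inZ_comm hf hy)

/-- The element of the centre with given bits. -/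
def el (_ : Hyp3 z a b) (i j k : Bool) : G := bif i then (bif j then (bif k then a * b * z else a * b)
  else (bif k then a * z else a)) else (bif j then (bif k then b * z else b) else (bif k then z else 1))

theorem el_eq (i j k : Bool) :
    h.el i j k = (bif i then a else 1) * (bif j then b else 1) * (bif k then z else 1) := by
  cases i <;> cases j <;> cases k <;> simp [el]

theorem el_mul (i j k i' j' k' : Bool) :
    h.el i j k * h.el i' j' k' = h.el (i ^^ i') (j ^^ j') (k ^^ k') := by
  have key : ∀ (x : G), x * x = 1 → ∀ p q : Bool,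
      (bif p then x else 1) * (bif q then x else 1) = bif (p ^^ q) then x else 1 := by
    intro x hx p q; cases p <;> cases q <;> simp [hx]
  have c1 : Commute (bif j then b else 1 : G) (bif i' then a else 1) := by
    cases j <;> cases i' <;> simp [h.ab_comm.symm]
  have c2 : Commute (bif k then z else 1 : G) ((bif i' then a else 1) * (bif j' then b else 1)) := by
    cases k <;> cases i' <;> cases j' <;>
      simp [h.za_comm, h.zb_comm, h.za_comm.mul_right h.zb_comm]
  simp only [el_eq]
  rw [c2.mul_mul_mul_comm, c1.mul_mul_mul_comm, key a h.aa, key b h.bb, key z h.zsq]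

theorem el_inZ (i j k : Bool) : InZ z a b (h.el i j k) := by
  cases i <;> cases j <;> cases k <;> simp [el, InZ, InW, mul_assoc, h.zsq]

theorem el_one {i j k : Bool} (e : h.el i j k = 1) : i = false ∧ j = false ∧ k = false := by
  have hab : a * b ≠ 1 := fun e => h.ab_ne (by
    rw [← inv_eq_of_mul_eq_one_right e]; exact (inv_eq_of_mul_eq_one_right h.aa).symm)
  have hzx : ∀ x, InW a b x → x * z ≠ 1 := fun x hx e => h.z_notW (by
    rw [eq_inv_of_mul_eq_one_left e, inv_eq_of_mul_eq_one_right h.zsq] at hx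
    exact hx)
  have hz1 : z ≠ 1 := fun e => h.z_notW (Or.inl e)
  cases i <;> cases j <;> cases k <;> simp only [el, cond_true, cond_false] at e ⊢ <;>
    first
      | exact ⟨trivial, trivial, trivial⟩
      | exact absurd e hz1
      | exact absurd e h.b_ne
      | exact absurd e h.a_ne
      | exact absurd e hab
      | exact absurd e (hzx _ (by simp [InW]))

theorem el_inj {i j k i' j' k' : Bool} (e : h.el i j k = h.el i' j' k') :
    i = i' ∧ j = j' ∧ k = k' := by
  have h1 : h.el (i ^^ i') (j ^^ j') (k ^^ k') = 1 := by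
    rw [← h.el_mul, e, h.el_mul]; simp [el]
  obtain ⟨p, q, r⟩ := h.el_one h1
  simp only [bne_eq_false_iff_eq] at p q r
  exact ⟨p, q, r⟩

theorem exists_el {e : G} (he : InZ z a b e) : ∃ i j k, e = h.el i j k := by
  rcases he with e1 | e1
  · rcases e1 with rfl | rfl | rfl | rfl
    exacts [⟨false, false, false, rfl⟩, ⟨true, false, false, rfl⟩, ⟨false, true, false, rfl⟩,
      ⟨true, true, false, rfl⟩]
  · have e0 : e = e * z * z := by rw [mul_assoc, h.zsq, mul_one]
    rcases e1 with e1 | e1 | e1 | e1 <;> rw [e1] at e0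
    exacts [⟨false, false, true, by simpa [el] using e0⟩, ⟨true, false, true, e0⟩,
      ⟨false, true, true, e0⟩, ⟨true, true, true, e0⟩]

theorem inZ_sq {e : G} (he : InZ z a b e) : e * e = 1 := by
  obtain ⟨i, j, k, rfl⟩ := h.exists_el he
  rw [h.el_mul]; simp [el]

theorem inZ_inv {e : G} (he : InZ z a b e) : e⁻¹ = e := inv_eq_of_mul_eq_one_right (h.inZ_sq he)

/-- An element centralising `z`, `a` and `b` centralises the centre. -/
theorem cen_comm {e x : G} (he : InZ z a b e) (hx : x ∈ Fi22Two.cza z a) (hxb : Commute x b) :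
    Commute x e := by
  have hxz : Commute x z := mem_centralizer_singleton_iff.1 hx.1
  have hxa : Commute x a := mem_centralizer_singleton_iff.1 hx.2
  obtain ⟨i, j, k, rfl⟩ := h.exists_el he
  cases i <;> cases j <;> cases k <;> simp only [el, cond_true, cond_false]
  exacts [.one_right x, hxz, hxb, hxb.mul_right hxz, hxa, hxa.mul_right hxz, hxa.mul_right hxb,
    (hxa.mul_right hxb).mul_right hxz]

/-- An element centralising `z` and `a` fixes `b` or sends it to `a * b`. -/
theorem conj_b {y : G} (hy : y ∈ Fi22Two.cza z a) : y * b * y⁻¹ = b ∨ y * b * y⁻¹ = a * b := by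
  have hya : Commute y a := mem_centralizer_singleton_iff.1 hy.2
  rcases (h.stab hy.1 b).1 (Or.inr (Or.inr (Or.inl rfl))) with e | e | e | e
  · exact absurd (conj_eq_one_iff.1 e) h.b_ne
  · refine absurd ?_ h.ab_ne.symm
    calc b = y⁻¹ * (y * b * y⁻¹) * y := by group
      _ = a := by rw [e, mul_assoc, ← hya.eq, inv_mul_cancel_left]
  · exact Or.inl e
  · exact Or.inr e

/-- The commutator with an element of the centre lies in `{1, a}`. -/
theorem com_inZ {y e : G} (hy : y ∈ Fi22Two.cza z a) (he : InZ z a b e) :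
    y * e * y⁻¹ * e⁻¹ = 1 ∨ y * e * y⁻¹ * e⁻¹ = a := by
  rw [h.inZ_inv he]
  have hyz : y * z * y⁻¹ = z := by
    rw [mem_centralizer_singleton_iff.1 hy.1, mul_inv_cancel_right]
  have hya : y * a * y⁻¹ = a := by
    rw [mem_centralizer_singleton_iff.1 hy.2, mul_inv_cancel_right]
  obtain ⟨i, j, k, rfl⟩ := h.exists_el he
  have key : ∃ i', y * h.el i j k * y⁻¹ = h.el i' j k := by
    have hb : ∃ i0, y * (bif j then b else 1) * y⁻¹ = h.el i0 j false := by
      cases j
      · exact ⟨false, by simp [el]⟩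
      · rcases h.conj_b hy with e | e
        · exact ⟨false, by simp [el, e]⟩
        · exact ⟨true, by simp [el, e]⟩
    obtain ⟨i0, hi0⟩ := hb
    refine ⟨i ^^ i0, ?_⟩
    calc y * h.el i j k * y⁻¹ = (y * (bif i then a else 1) * y⁻¹) *
          (y * (bif j then b else 1) * y⁻¹) * (y * (bif k then z else 1) * y⁻¹) := by
          rw [el_eq]; group
      _ = h.el i false false * h.el i0 j false * h.el false false k := by
          rw [hi0]; cases i <;> cases k <;> simp [el, hya, hyz]
      _ = h.el (i ^^ i0) j k := by rw [h.el_mul, h.el_mul]; simp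
  obtain ⟨i', e⟩ := key
  rw [e, h.el_mul]
  cases i <;> cases i' <;> simp [el]

/-- The centraliser of `b` is perfect modulo `oc z`. -/
theorem fixed_le_derived : Fi22Two.cza z a ⊓ centralizer ({b} : Set G) ≤
    ⁅Fi22Two.cza z a ⊓ centralizer ({b} : Set G), Fi22Two.cza z a ⊓ centralizer ({b} : Set G)⁆ ⊔
      oc z := by
  have hP : commutator (Cfsg.PSp 2 (ZMod 3)) = ⊤ := by
    haveI : Fact (Nat.Prime 3) := ⟨by norm_num⟩
    let M : Sp43.Model (Cfsg.PSp 2 (ZMod 3)) := Sp43.model
    haveI := M.simple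
    rcases (inferInstance : (commutator (Cfsg.PSp 2 (ZMod 3))).Normal).eq_bot_or_eq_top with h | h
    · exfalso
      apply M.rels.ne
      have hm : ⁅M.u, M.d 0⁆ ∈ commutator (Cfsg.PSp 2 (ZMod 3)) :=
        commutator_mem_commutator (mem_top _) (mem_top _)
      rw [h, mem_bot, commutatorElement_eq_one_iff_mul_comm] at hm
      exact hm
    · exact h
  obtain ⟨f, hf, hk⟩ := h.quot
  set I := (centralizer ({b} : Set G)).subgroupOf (Fi22Two.cza z a) with hI
  have hkI : f.ker ≤ I := fun u hu => by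
    rw [hk] at hu
    exact mem_centralizer_singleton_iff.2 (h.inZ_comm (e := b)
      (Or.inl (Or.inr (Or.inr (Or.inl rfl)))) hu).symm.eq
  have hmemI : ∀ u, u ∈ I ↔ (u : G) * b * (u : G)⁻¹ = b := fun u => by
    rw [hI, mem_subgroupOf, mem_centralizer_singleton_iff, mul_inv_eq_iff_eq_mul]
  have hcI : commutator ↥(Fi22Two.cza z a) ≤ I := by
    rw [_root_.commutator_def, commutator_le]
    intro p _ q _
    have hpar : ∀ u v, u ∉ I → v ∉ I → u * v ∈ I := by
      intro u v hu hv
      rw [hmemI] at hu hv ⊢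
      have eu := (h.conj_b u.2).resolve_left hu
      have ev := (h.conj_b v.2).resolve_left hv
      have ea : (u : G) * a * (u : G)⁻¹ = a := by
        rw [mem_centralizer_singleton_iff.1 u.2.2, mul_inv_cancel_right]
      rw [Subgroup.coe_mul, show (u : G) * v * b * ((u : G) * v)⁻¹ = u * (v * b * (v : G)⁻¹) * (u : G)⁻¹
        by group, ev, ← conjm, ea, eu, ← mul_assoc, h.aa, one_mul]
    have hparity : ∀ u v, (u * v ∈ I ↔ (u ∈ I ↔ v ∈ I)) := by
      intro u v
      by_cases hu : u ∈ I <;> by_cases hv : v ∈ I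
      · simp [hu, hv, mul_mem]
      · simp [hu, hv, mul_mem_cancel_left]
      · simp [hu, hv, mul_mem_cancel_right]
      · simp [hu, hv, hpar u v hu hv]
    rw [commutatorElement_def]
    simp only [hparity, inv_mem_iff]
    tauto
  obtain ⟨-, hcom, hidx, -, -⟩ := Fi22Two.mulAut_psp
  have hge : commutator (MulAut (Cfsg.PSp 2 (ZMod 3))) ≤ I.map f := by
    rw [_root_.commutator_def, ← map_top_of_surjective f hf, ← map_commutator,
      ← _root_.commutator_def]
    exact map_mono hcI
  have hfI : I.map f = commutator (MulAut (Cfsg.PSp 2 (ZMod 3))) := by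
    obtain ⟨s, hs, hsa, hsb⟩ := h.swap
    refine le_antisymm (fun m hm => ?_) hge
    by_contra hmn
    have hsI : (⟨s, hs, mem_centralizer_singleton_iff.2 hsa.eq⟩ : ↥(Fi22Two.cza z a)) ∉ I := by
      rw [hmemI, hsb]
      exact fun e => h.a_ne (mul_eq_right.1 e)
    apply hsI
    rw [← comap_map_eq_self hkI, mem_comap]
    by_cases hsc : f ⟨s, hs, mem_centralizer_singleton_iff.2 hsa.eq⟩ ∈
        commutator (MulAut (Cfsg.PSp 2 (ZMod 3)))
    · exact hge hsc
    · have := (Subgroup.mul_mem_iff_of_index_two hidx).2 (iff_of_false hsc hmn)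
      exact (mul_mem_cancel_right hm).1 (hge this)
  have hII : (⁅I, I⁆).map f = I.map f := by
    rw [map_commutator, hfI, hcom, MonoidHom.range_eq_map, ← map_commutator,
      ← _root_.commutator_def, hP]
  have hle : I ≤ ⁅I, I⁆ ⊔ f.ker :=
    calc I ≤ (I.map f).comap f := le_comap_map _ _
      _ = ((⁅I, I⁆).map f).comap f := by rw [hII]
      _ = ⁅I, I⁆ ⊔ f.ker := comap_map_eq _ _
  have e : I.map (Fi22Two.cza z a).subtype = Fi22Two.cza z a ⊓ centralizer ({b} : Set G) := by
    rw [hI, subgroupOf_map_subtype, inf_comm]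
  calc Fi22Two.cza z a ⊓ centralizer ({b} : Set G) = I.map (Fi22Two.cza z a).subtype := e.symm
    _ ≤ (⁅I, I⁆ ⊔ f.ker).map (Fi22Two.cza z a).subtype := map_mono hle
    _ ≤ _ := by
      rw [Subgroup.map_sup, map_commutator, e]
      refine sup_le_sup le_rfl ?_
      rw [hk, subgroupOf_map_subtype]
      exact inf_le_left

end Hyp3

namespace Mod3

variable {C : Cfg} (M : Mod3 C z a b)

theorem bone (h : Hyp3 z a b) : M.bar 1 = 0 := (M.bar_eq 1 (one_mem _)).2 (Or.inl (Or.inl rfl))

theorem binv (h : Hyp3 z a b) {x : G} (hx : x ∈ oc z) : M.bar x⁻¹ = M.bar x := by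
  have h1 := M.bar_mul x⁻¹ (inv_mem hx) x hx
  rw [inv_mul_cancel, M.bone h] at h1
  exact Nat.xor_eq_zero_iff.1 h1.symm

theorem bcong (h : Hyp3 z a b) {x y : G} (hx : x ∈ oc z) (hy : y ∈ oc z) (e : M.bar x = M.bar y) :
    InZ z a b (x⁻¹ * y) :=
  (M.bar_eq _ (mul_mem (inv_mem hx) hy)).1 (by
    rw [M.bar_mul _ (inv_mem hx) _ hy, M.binv h hx, e, Nat.xor_self])

theorem rone : M.rho 1 = idm := (M.rho_ker 1 (one_mem _)).2 (one_mem _)

theorem rcancel {x : G} (hx : x ∈ Fi22Two.cza z a) :
    U62Rec.cmp (M.rho x) (M.rho x⁻¹) = idm := by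
  rw [← M.rho_mul x hx _ (inv_mem hx), mul_inv_cancel, M.rone]

theorem rinj {x y : G} (hx : x ∈ Fi22Two.cza z a) (hy : y ∈ Fi22Two.cza z a) :
    M.rho x = M.rho y ↔ x⁻¹ * y ∈ oc z := by
  rw [← M.rho_ker _ (mul_mem (inv_mem hx) hy), M.rho_mul _ (inv_mem hx) y hy]
  constructor
  · intro e
    rw [← e, ← M.rho_mul _ (inv_mem hx) x hx, inv_mul_cancel, M.rone]
  · intro e
    calc M.rho x = U62Rec.cmp (M.rho x) (U62Rec.cmp (M.rho x⁻¹) (M.rho y)) := by
          rw [e, cmp_idm (M.rho_code x)]
      _ = M.rho y := by rw [← cmp_assoc, M.rcancel hx, idm_cmp (M.rho_code y)]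

theorem lift {m : ℕ} (hm : Gen C.gens m) : ∃ x ∈ Fi22Two.cza z a, M.rho x = m := by
  induction hm with
  | one => exact ⟨1, one_mem _, M.rone⟩
  | @step g m hg _ ih =>
    obtain ⟨x, hx, rfl⟩ := ih
    obtain ⟨y, hy, rfl⟩ := M.rho_surj g hg
    exact ⟨y * x, mul_mem hy hx, M.rho_mul y hy x hx⟩

theorem qv_iff (h : Hyp3 z a b) {x : G} (hx : x ∈ oc z) : qv C.l (M.bar x) = false ↔ x * x = 1 := by
  have hz : z ≠ 1 := fun e => h.z_notW (Or.inl e)
  rw [M.sq x hx]
  cases qv C.l (M.bar x) <;> simp [hz]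

theorem fv_iff (h : Hyp3 z a b) {x y : G} (hx : x ∈ oc z) (hy : y ∈ oc z) :
    fv (M.bar x) (M.bar y) = false ↔ Commute x y := by
  have hz : z ≠ 1 := fun e => h.z_notW (Or.inl e)
  constructor
  · intro e
    have h1 := M.comm x hx y hy
    rw [e] at h1
    exact mul_inv_eq_iff_eq_mul.1 (mul_inv_eq_one.1 (by simpa using h1))
  · intro e
    have h1 := M.comm x hx y hy
    rw [e.eq, mul_inv_cancel_right, mul_inv_cancel] at h1
    cases hfv : fv (M.bar x) (M.bar y)
    · rfl
    · rw [hfv] at h1; exact absurd h1.symm hz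

end Mod3

end Cfsg.Agent.Fi23Two
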