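import Cfsg.Agent.Fi23Two.Basic
import Cfsg.Agent.Fi23Two.PairTools
import Cfsg.Agent.Fi22Two.Quot

/-!
# The centraliser of `a` when one involution of its quotient generates a normal subgroup
-/

set_option autoImplicit false
set_option linter.unusedSectionVars false

open Cfsg Subgroup

namespace Cfsg.Agent.Fi23Two

open Cfsg.Agent.LargeExtra
open Cfsg.Agent.Fi22Two (IsoIn cza Qa Na mem_zpowers_two)

variable {G : Type*} [Group G] [Finite G] {z a b : G}

/-- A normal involution of the quotient gives a subgroup of order four normalised by `C a`. -/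
theorem conj_of_normal {v : ↥(centralizer ({a} : Set G))} (ha : a * a = 1)
    (hv : (v : G) * v = 1)
    (hn : (zpowers (QuotientGroup.mk v : Qa a)).Normal) {g : G} (hg : Commute g a)
    (hv1 : (v : G) ≠ 1) (hva : (v : G) ≠ a) :
    g * v * g⁻¹ = v ∨ g * v * g⁻¹ = v * a := by
  have hgm : g ∈ centralizer ({a} : Set G) := mem_centralizer_singleton_iff.2 hg.eq
  have hq : (QuotientGroup.mk v : Qa a) * QuotientGroup.mk v = 1 := by
    rw [← QuotientGroup.mk_mul, QuotientGroup.eq_one_iff, mem_subgroupOf, Subgroup.coe_mul, hv]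
    exact one_mem _
  have hm := hn.conj_mem _ (mem_zpowers _) (QuotientGroup.mk ⟨g, hgm⟩)
  rw [← QuotientGroup.mk_mul, ← QuotientGroup.mk_inv, ← QuotientGroup.mk_mul,
    mem_zpowers_two hq] at hm
  rcases hm with e | e
  · exfalso
    rw [QuotientGroup.eq_one_iff, mem_subgroupOf, mem_zpowers_two ha] at e
    simp only [Subgroup.coe_mul, InvMemClass.coe_inv] at e
    rcases e with e | e
    · exact hv1 (conj_eq_one_iff.1 e)
    · refine hva ?_
      calc (v : G) = g⁻¹ * (g * v * g⁻¹) * g := by group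
        _ = a := by rw [e, mul_assoc, ← hg.eq, inv_mul_cancel_left]
  · rw [eq_comm, QuotientGroup.eq, mem_subgroupOf, mem_zpowers_two ha] at e
    simp only [Subgroup.coe_mul, InvMemClass.coe_inv] at e
    rcases e with e | e
    · exact Or.inl (inv_mul_eq_one.1 e).symm
    · exact Or.inr (inv_mul_eq_iff_eq_mul.1 e)

namespace Hyp3

variable (h : Hyp3 z a b)
include h

theorem b_ca : b ∈ centralizer ({a} : Set G) := mem_centralizer_singleton_iff.2 h.comm_ab.symm.eq

theorem bz_ca : b * z ∈ centralizer ({a} : Set G) :=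
  mul_mem h.b_ca (mem_centralizer_singleton_iff.2 (h.comm_z h.a_mem).symm.eq)

/-- When the image of `b * z` is normal, `z` is isolated in `C a`. -/
theorem iso_of_bz_normal (hd : ∀ x, InW a b x → x ≠ 1 → IsoIn z (x * z))
    (hn : (zpowers (QuotientGroup.mk (⟨b * z, h.bz_ca⟩ : ↥(centralizer ({a} : Set G))) : Qa a)).Normal) :
    IsoIn z a := by
  have hbz : b * z * (b * z) = 1 := by
    rw [(h.comm_z h.b_mem).symm.mul_mul_mul_comm, h.bb, h.zz, one_mul]
  intro g hga hgz
  have hIb : IsoIn z (b * z) := hd b (Or.inr (Or.inr (Or.inl rfl))) h.b_ne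
  have h1 : (b * z : G) ≠ 1 := fun e => h.z_notW (Or.inr (Or.inr (Or.inl (by
    rw [eq_inv_of_mul_eq_one_right e, inv_eq_of_mul_eq_one_right h.bb]))))
  have h2 : (b * z : G) ≠ a := fun e => h.z_notW (Or.inr (Or.inr (Or.inr (by
    rw [← e, (h.comm_z h.b_mem).eq, mul_assoc, h.bb, mul_one]))))
  rcases conj_of_normal (v := ⟨b * z, h.bz_ca⟩) h.aa hbz hn hga h1 h2 with e | e
  · exact hIb g (mul_inv_eq_iff_eq_mul.1 e) hgz
  · obtain ⟨s, hs, hsa, hsb⟩ := h.swap
    have hsz : s * z * s⁻¹ = z := h.conj_z hs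
    have hsz' : s * (g * z * g⁻¹) * s⁻¹ = s * g * z * (s * g)⁻¹ := by group
    have hc : Commute (s * g) (b * z) := by
      refine mul_inv_eq_iff_eq_mul.1 ?_
      rw [show s * g * (b * z) * (s * g)⁻¹ = s * (g * (b * z) * g⁻¹) * s⁻¹ by group, e]
      show s * (b * z * a) * s⁻¹ = b * z
      rw [show s * (b * z * a) * s⁻¹ = s * b * s⁻¹ * (s * z * s⁻¹) * (s * a * s⁻¹) by group, hsb,
        hsz, hsa.eq, mul_inv_cancel_right, mul_assoc, (h.comm_z h.a_mem).symm.eq, ← mul_assoc,
        show a * b * a = b by rw [mul_assoc, h.comm_ab.symm.eq, ← mul_assoc, h.aa, one_mul]]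
    have hz : Commute (s * g * z * (s * g)⁻¹) z := by
      have := (Commute.conj_iff s).2 hgz
      rwa [hsz, hsz'] at this
    have := hIb (s * g) hc hz
    calc g * z * g⁻¹ = s⁻¹ * (s * g * z * (s * g)⁻¹) * s := by group
      _ = z := by rw [this, mul_assoc, ← (mem_centralizer_singleton_iff.1 hs), inv_mul_cancel_left]

/-- When the image of `b` is normal, `C a` normalises the four-group and is `(2 × 2).U₆(2).2`. -/
theorem big_of_b_normal {K : Type*} [Field K] [Fintype K] (G₀ : Subgroup (Qa a))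
    (hn : (zpowers (QuotientGroup.mk (⟨b, h.b_ca⟩ : ↥(centralizer ({a} : Set G))) : Qa a)).Normal)
    (hb : (QuotientGroup.mk (⟨b, h.b_ca⟩ : ↥(centralizer ({a} : Set G))) : Qa a) ∈ G₀)
    (hidx : G₀.index = 2)
    (hiso : ∃ hn' : ((zpowers (QuotientGroup.mk (⟨b, h.b_ca⟩ : ↥(centralizer ({a} : Set G))) :
        Qa a)).subgroupOf G₀).Normal,
      Nonempty ((↥G₀ ⧸ (zpowers (QuotientGroup.mk (⟨b, h.b_ca⟩ : ↥(centralizer ({a} : Set G))) :
        Qa a)).subgroupOf G₀) ≃* Cfsg.PSU 6 K 2)) :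
    centralizer ({a} : Set G) ≤ nrm a b ∧ ∃ L : Subgroup G, wsub a b ≤ L ∧
      L ≤ centralizer ({a} : Set G) ∧ (L.subgroupOf (centralizer ({a} : Set G))).index = 2 ∧
      ∃ hn : ((wsub a b).subgroupOf L).Normal,
        Nonempty ((↥L ⧸ (wsub a b).subgroupOf L) ≃* Cfsg.PSU 6 K 2) := by
  set bq : Qa a := QuotientGroup.mk (⟨b, h.b_ca⟩ : ↥(centralizer ({a} : Set G))) with hbq
  have hbb : bq * bq = 1 := by
    rw [hbq, ← QuotientGroup.mk_mul, QuotientGroup.eq_one_iff, mem_subgroupOf, Subgroup.coe_mul]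
    show b * b ∈ zpowers a
    rw [h.bb]; exact one_mem _
  have hle : centralizer ({a} : Set G) ≤ nrm a b := by
    intro g hg
    have hga : Commute g a := mem_centralizer_singleton_iff.1 hg
    have key : ∀ g : G, Commute g a → ∀ x, InW a b x → InW a b (g * x * g⁻¹) := by
      intro g hga x hx
      have ea : g * a * g⁻¹ = a := by rw [hga.eq, mul_inv_cancel_right]
      have eb := conj_of_normal (v := ⟨b, h.b_ca⟩) h.aa h.bb hn hga h.b_ne h.ab_ne.symm
      have eba : b * a = a * b := h.comm_ab.symm.eq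
      rcases hx with rfl | rfl | rfl | rfl
      · simp [InW]
      · rw [ea]; exact Or.inr (Or.inl rfl)
      · rcases eb with e | e <;> rw [show g * x * g⁻¹ = _ from e]
        · exact Or.inr (Or.inr (Or.inl rfl))
        · exact Or.inr (Or.inr (Or.inr eba))
      · rw [show g * (a * b) * g⁻¹ = g * a * g⁻¹ * (g * b * g⁻¹) by group, ea]
        rcases eb with e | e <;> rw [show g * b * g⁻¹ = _ from e]
        · exact Or.inr (Or.inr (Or.inr rfl))
        · exact Or.inr (Or.inr (Or.inl (by rw [eba, ← mul_assoc, h.aa, one_mul])))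
    refine mem_nrm.2 fun x => ⟨key g hga x, fun hx => ?_⟩
    have := key g⁻¹ hga.inv_left _ hx
    rwa [show g⁻¹ * (g * x * g⁻¹) * g⁻¹⁻¹ = x by group] at this
  set P := G₀.comap (QuotientGroup.mk' (Na a))
  set L := P.map (centralizer ({a} : Set G)).subtype with hL
  have hwc : wsub a b ≤ centralizer ({a} : Set G) := (closure_le _).2 (by
    rintro x (rfl | rfl)
    exacts [mem_centralizer_singleton_iff.2 rfl, h.b_ca])
  have hWN : ∀ u : ↥(centralizer ({a} : Set G)),
      (u : G) ∈ wsub a b ↔ QuotientGroup.mk' (Na a) u ∈ zpowers bq := by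
    intro u
    rw [mem_wsub h, mem_zpowers_two hbb, QuotientGroup.mk'_apply, QuotientGroup.eq_one_iff,
      mem_subgroupOf, mem_zpowers_two h.aa, hbq, QuotientGroup.eq, mem_subgroupOf,
      mem_zpowers_two h.aa, Subgroup.coe_mul, InvMemClass.coe_inv, inv_mul_eq_one,
      inv_mul_eq_iff_eq_mul]
    constructor
    · rintro (e | e | e | e)
      · exact Or.inl (Or.inl e)
      · exact Or.inl (Or.inr e)
      · exact Or.inr (Or.inl e)
      · refine Or.inr (Or.inr ?_)
        show b = (u : G) * a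
        rw [e, mul_assoc, h.comm_ab.symm.eq, ← mul_assoc, h.aa, one_mul]
    · rintro ((e | e) | (e | e))
      · exact Or.inl e
      · exact Or.inr (Or.inl e)
      · exact Or.inr (Or.inr (Or.inl e))
      · refine Or.inr (Or.inr (Or.inr ?_))
        show (u : G) = a * b
        have e' : b = (u : G) * a := e
        rw [h.comm_ab.eq, e', mul_assoc, h.aa, mul_one]
  have hWL : wsub a b ≤ L := fun x hx =>
    ⟨⟨x, hwc hx⟩, mem_comap.2 ((zpowers_le.2 hb) ((hWN ⟨x, hwc hx⟩).1 hx)), rfl⟩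
  refine ⟨hle, L, hWL, map_subtype_le _, ?_, ?_⟩
  · have : L.subgroupOf (centralizer ({a} : Set G)) = P :=
      comap_map_eq_self_of_injective (subtype_injective _) _
    rw [this, index_comap_of_surjective _ (QuotientGroup.mk'_surjective _), hidx]
  · obtain ⟨hn', ⟨i⟩⟩ := hiso
    haveI := hn'
    let eL : ↥P ≃* ↥L := P.equivMapOfInjective _ (subtype_injective _)
    let φ : ↥P →* ↥G₀ := MonoidHom.mk' (fun u => ⟨QuotientGroup.mk' (Na a) u.1, u.2⟩)
      fun u v => Subtype.ext (map_mul (QuotientGroup.mk' (Na a)) u.1 v.1)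
    let ψ : ↥L →* ↥G₀ ⧸ (zpowers bq).subgroupOf G₀ :=
      ((QuotientGroup.mk' _).comp φ).comp eL.symm.toMonoidHom
    have hψ : Function.Surjective ψ := by
      refine (QuotientGroup.mk'_surjective _).comp ?_ |>.comp eL.symm.surjective
      rintro ⟨q, hq⟩
      obtain ⟨u, rfl⟩ := QuotientGroup.mk'_surjective _ q
      exact ⟨⟨u, hq⟩, rfl⟩
    have hker : ψ.ker = (wsub a b).subgroupOf L := by
      ext l
      rw [MonoidHom.mem_ker, mem_subgroupOf]
      show ((φ (eL.symm l) : ↥G₀) : ↥G₀ ⧸ (zpowers bq).subgroupOf G₀) = 1 ↔ _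
      rw [QuotientGroup.eq_one_iff, mem_subgroupOf]
      show QuotientGroup.mk' (Na a) (eL.symm l).1 ∈ zpowers bq ↔ _
      rw [← hWN]
      conv_rhs => rw [show (l : G) = ((eL (eL.symm l) : ↥L) : G) by rw [MulEquiv.apply_symm_apply]]
      rfl
    haveI : ((wsub a b).subgroupOf L).Normal := hker ▸ ψ.normal_ker
    exact ⟨inferInstance, ⟨(QuotientGroup.quotientMulEquivOfEq hker.symm).trans
      ((QuotientGroup.quotientKerEquivOfSurjective ψ hψ).trans i)⟩⟩

end Hyp3

end Cfsg.Agent.Fi23Two
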