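import Cfsg.Agent.Fi23Two.Common
import Cfsg.Agent.Fi23Two.Setup.Kernel
import Cfsg.Agent.Fi22Two.Inner

/-!
# The hypotheses in the common language
-/

set_option autoImplicit false
set_option linter.unusedSectionVars false

open Cfsg Subgroup
open scoped commutatorElement

namespace Cfsg.Agent.Fi23Two

open Cfsg.Agent.LargeExtra
open Cfsg.Agent.Fi22Two (cza)
open Setup (W3 Frame Amb)

/-- An automorphism commuting with the inner ones is trivial when inner ones are faithful. -/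
theorem eq_one_of_central {P : Type*} [Group P]
    (hi : Function.Injective (MulAut.conj : P →* MulAut P)) {f : MulAut P}
    (hf : ∀ p : P, MulAut.conj p * f = f * MulAut.conj p) : f = 1 := by
  refine MulEquiv.ext fun p => hi ?_
  have h1 : MulAut.conj (f p) * f = f * MulAut.conj p := by
    ext q; simp
  rw [← hf p] at h1
  simpa using mul_right_cancel h1

variable {G : Type*} [Group G] [Finite G]

/-- The translation. -/
theorem exists_hyp3 (z : G) (hz : orderOf z = 2)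
    (V E : Subgroup ↥(centralizer ({z} : Set G)))
    (hVE : Cfsg.IsInternalDirectProduct V E (pCore 2 ↥(centralizer ({z} : Set G))))
    (hV : Nat.card ↥V = 4) (hV2 : ∀ v ∈ V, v ^ 2 = 1)
    (hE : Cfsg.IsExtraspecial 2 ↥E) (hEc : Nat.card ↥E = 2 ^ 9)
    (hCJ : centralizer ((pCore 2 ↥(centralizer ({z} : Set G))) : Set ↥(centralizer ({z} : Set G))) ≤
      pCore 2 ↥(centralizer ({z} : Set G)))
    (zc c : ↥(centralizer ({z} : Set G))) (hzc : (zc : G) = z) (hc : orderOf c = 3)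
    [hJc : (pCore 2 ↥(centralizer ({z} : Set G)) ⊔ zpowers c).Normal]
    (e : (↥(centralizer ({z} : Set G)) ⧸ (pCore 2 ↥(centralizer ({z} : Set G)) ⊔ zpowers c)) ≃*
      MulAut (Cfsg.PSp 2 (ZMod 3)))
    [hcz : ((zpowers c ⊔ zpowers zc).subgroupOf
      (centralizer ({c} : Set ↥(centralizer ({z} : Set G))))).Normal]
    (e' : (↥(centralizer ({c} : Set ↥(centralizer ({z} : Set G)))) ⧸
        (zpowers c ⊔ zpowers zc).subgroupOf (centralizer ({c} : Set ↥(centralizer ({z} : Set G))))) ≃*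
      Cfsg.PSp 2 (ZMod 3)) :
    ∃ a b, Hyp3 z a b := by
  classical
  obtain ⟨hM1, hM2, -, hMs, hMi⟩ := Fi22Two.mulAut_psp
  haveI : Fact (Nat.Prime 2) := ⟨Nat.prime_two⟩
  haveI : Fact (Nat.Prime 3) := ⟨Nat.prime_three⟩
  have hzz : z * z = 1 := by rw [← _root_.sq, ← hz]; exact pow_orderOf_eq_one z
  have hzc2 : zc * zc = 1 := Subtype.ext (by simpa [hzc] using hzz)
  have hzc1 : zc ≠ 1 := fun e => by rw [e] at hzc; rw [← hzc] at hz; simp at hz
  have hzcen : ∀ x, Commute x zc := fun x => Subtype.ext (by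
    simpa [hzc] using mem_centralizer_singleton_iff.1 x.2)
  have hoc : ∀ x : ↥(centralizer ({z} : Set G)), (x : G) ∈ oc z ↔ x ∈ (pCore 2 ↥(centralizer ({z} : Set G))) := fun x =>
    ⟨fun ⟨y, hy, e⟩ => (Subtype.ext e : y = x) ▸ hy, fun hx => ⟨x, hx, rfl⟩⟩
  have hzJ : zc ∈ (pCore 2 ↥(centralizer ({z} : Set G))) := (hoc zc).1 (by rw [hzc]; exact mem_oc_self hz)
  have hc3 : c * c * c = 1 := by
    have h := pow_orderOf_eq_one c
    rwa [hc, pow_succ, pow_two] at h
  have hcJ : c ∉ (pCore 2 ↥(centralizer ({z} : Set G))) := fun h => by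
    obtain ⟨k, hk⟩ := IsPGroup.iff_orderOf.1 Core.pCore_isPGroup (⟨c, h⟩ : ↥(pCore 2 ↥(centralizer ({z} : Set G))))
    rw [orderOf_mk, hc] at hk
    rcases k with _ | k
    · simp at hk
    · rw [pow_succ] at hk; omega
  have hcp : ∀ x ∈ zpowers c, x = 1 ∨ x = c ∨ x = c * c := by
    intro x hx
    obtain ⟨k, rfl⟩ := (isOfFinOrder_of_finite c).mem_powers_iff_mem_zpowers.2 hx
    show c ^ k = 1 ∨ c ^ k = c ∨ c ^ k = c * c
    rw [← pow_mod_orderOf, hc]
    rcases (show k % 3 = 0 ∨ k % 3 = 1 ∨ k % 3 = 2 by omega) with e | e | e <;> rw [e]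
    exacts [Or.inl (pow_zero c), Or.inr (Or.inl (pow_one c)), Or.inr (Or.inr (pow_two c))]
  have hT : ∀ t ∈ (pCore 2 ↥(centralizer ({z} : Set G))) ⊔ zpowers c, ∃ j ∈ (pCore 2 ↥(centralizer ({z} : Set G))), t = j ∨ t = j * c ∨ t = j * (c * c) := by
    intro t ht
    obtain ⟨j, hj, x, hx, rfl⟩ := mem_sup_of_normal_left.1 ht
    refine ⟨j, hj, ?_⟩
    rcases hcp x hx with rfl | rfl | rfl
    exacts [Or.inl (mul_one j), Or.inr (Or.inl rfl), Or.inr (Or.inr rfl)]
  have A : Amb (pCore 2 ↥(centralizer ({z} : Set G))) c := ⟨fun N hn hp => by haveI := hn; exact Core.le_pCore hp, Core.pCore_isPGroup,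
    hCJ, hc3, hcJ, hT⟩
  have hcfix : ∀ j ∈ (pCore 2 ↥(centralizer ({z} : Set G))), Commute j c → j = 1 ∨ j = zc := by
    intro j hj hjc
    set C := centralizer ({c} : Set ↥(centralizer ({z} : Set G))) with hCdef
    set N := (zpowers c ⊔ zpowers zc).subgroupOf C with hNdef
    let φ : ↥C →* Cfsg.PSp 2 (ZMod 3) := e'.toMonoidHom.comp (QuotientGroup.mk' N)
    have hφ : Function.Surjective φ := e'.surjective.comp (QuotientGroup.mk'_surjective N)
    have hM : (((pCore 2 ↥(centralizer ({z} : Set G))).subgroupOf C).map φ).Normal :=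
      (inferInstance : ((pCore 2 ↥(centralizer ({z} : Set G))).subgroupOf C).Normal).map φ hφ
    have hp : IsPGroup 2 ↥(((pCore 2 ↥(centralizer ({z} : Set G))).subgroupOf C).map φ) := A.two.comap_subtype.map φ
    haveI := hMs
    rcases hM.eq_bot_or_eq_top with hb | hb
    · have h1 : φ ⟨j, mem_centralizer_singleton_iff.2 hjc.eq⟩ = 1 := by
        rw [← mem_bot, ← hb]; exact mem_map_of_mem φ (mem_subgroupOf.2 hj)
      have h2 : (⟨j, mem_centralizer_singleton_iff.2 hjc.eq⟩ : ↥C) ∈ N := by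
        rw [← QuotientGroup.eq_one_iff]
        exact e'.injective (h1.trans (map_one e').symm)
      haveI : (zpowers zc).Normal := ⟨fun n hn g => by
        obtain ⟨k, rfl⟩ := mem_zpowers_iff.1 hn
        rw [((hzcen g).zpow_right k).eq, mul_inv_cancel_right]
        exact ⟨k, rfl⟩⟩
      obtain ⟨x, hx, y, hy, hxy⟩ := mem_sup_of_normal_right.1 (mem_subgroupOf.1 h2)
      have hxy' : x * y = j := hxy
      have hxJ : x ∈ (pCore 2 ↥(centralizer ({z} : Set G))) := by
        rw [show x = j * y⁻¹ by rw [← hxy', mul_inv_cancel_right]]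
        exact mul_mem hj (inv_mem (zpowers_le.2 hzJ hy))
      rcases hcp x hx with rfl | rfl | rfl
      · rw [← hxy', one_mul]
        obtain ⟨k, rfl⟩ := (isOfFinOrder_of_finite zc).mem_powers_iff_mem_zpowers.2 hy
        show zc ^ k = 1 ∨ zc ^ k = zc
        rcases Nat.even_or_odd k with ⟨l, rfl⟩ | ⟨l, rfl⟩
        · left; rw [← two_mul, pow_mul, pow_two, hzc2, one_pow]
        · right; rw [pow_succ, pow_mul, pow_two, hzc2, one_pow, one_mul]
      · exact absurd hxJ hcJ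
      · exact absurd hxJ A.ccJ
    · exfalso
      obtain ⟨k, hk⟩ := IsPGroup.iff_card.1 hp
      rw [hb, Subgroup.card_top, U62Rec.card_psp_three] at hk
      have h3 : 3 ∣ 2 ^ k := ⟨8640, by omega⟩
      exact absurd (Nat.prime_three.dvd_of_dvd_pow h3) (by norm_num)
  obtain ⟨a, b, F, hcard, hEcen⟩ :=
    Setup.exists_frame (pCore 2 ↥(centralizer ({z} : Set G))) V E hVE hV hV2 hE hEc zc c hzcen hzc2 hzc1 hzJ hc3 hcfix
  have hcen : ∀ f : MulAut (Cfsg.PSp 2 (ZMod 3)),
      (∀ p, MulAut.conj p * f = f * MulAut.conj p) → f = 1 := fun f => eq_one_of_central hMi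
  obtain ⟨hd1, hd2, hd3⟩ := F.distinct
  have hW3 : ∀ w : ↥(centralizer ({z} : Set G)), W3 a b w → InW (a : G) (b : G) (w : G) := by
    rintro w (rfl | rfl | rfl)
    exacts [Or.inr (Or.inl rfl), Or.inr (Or.inr (Or.inl rfl)), Or.inr (Or.inr (Or.inr rfl))]
  have hW : ∀ w : G, InW (a : G) (b : G) w → ∃ w' : ↥(centralizer ({z} : Set G)), (w' = 1 ∨ W3 a b w') ∧ (w' : G) = w := by
    rintro w (rfl | rfl | rfl | rfl)
    exacts [⟨1, Or.inl rfl, rfl⟩, ⟨a, Or.inr (Or.inl rfl), rfl⟩,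
      ⟨b, Or.inr (Or.inr (Or.inl rfl)), rfl⟩, ⟨a * b, Or.inr (Or.inr (Or.inr rfl)), rfl⟩]
  have hWmem : ∀ w : ↥(centralizer ({z} : Set G)), (w = 1 ∨ W3 a b w) → w ∈ (pCore 2 ↥(centralizer ({z} : Set G))) ∧ ∀ j ∈ (pCore 2 ↥(centralizer ({z} : Set G))), Commute w j := by
    rintro w (rfl | hw)
    exacts [⟨one_mem _, fun j _ => Commute.one_left j⟩, ⟨(F.mem w hw).1, (F.mem w hw).2.1⟩]
  have h8 : ∀ x : ↥(centralizer ({z} : Set G)), x ∈ (pCore 2 ↥(centralizer ({z} : Set G))) ⊓ centralizer ((pCore 2 ↥(centralizer ({z} : Set G))) : Set ↥(centralizer ({z} : Set G))) ↔ InZ z (a : G) (b : G) (x : G) := by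
    intro x
    constructor
    · intro hx
      obtain ⟨w, hw, e1⟩ := F.centre x hx.1 fun j hj => (mem_centralizer_iff.1 hx.2 j hj).symm
      have hwG : InW (a : G) (b : G) (w : G) := by
        rcases hw with rfl | hw
        exacts [Or.inl rfl, hW3 w hw]
      rcases e1 with rfl | rfl
      · exact Or.inl hwG
      · refine Or.inr ?_
        rwa [coe_mul, hzc, mul_assoc, hzz, mul_one]
    · rintro (hx | hx)
      · obtain ⟨w, hw, e1⟩ := hW _ hx
        rw [← (Subtype.ext e1 : w = x)]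
        exact Subgroup.mem_inf.2 ⟨(hWmem w hw).1,
          mem_centralizer_iff.2 fun j hj => ((hWmem w hw).2 j hj).symm.eq⟩
      · obtain ⟨w, hw, e1⟩ := hW _ hx
        have hx' : x = w * zc := Subtype.ext (by
          rw [coe_mul, e1, hzc, mul_assoc, hzz, mul_one])
        rw [hx']
        exact Subgroup.mem_inf.2 ⟨mul_mem (hWmem w hw).1 hzJ, mem_centralizer_iff.2 fun j hj =>
          (((hWmem w hw).2 j hj).mul_left (hzcen j).symm).symm.eq⟩
  have hwz : ∀ w : ↥(centralizer ({z} : Set G)), W3 a b w → (w : G) ≠ z := fun w hw e1 =>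
    (F.mem w hw).2.2.2.2 (Subtype.ext (e1.trans hzc.symm))
  obtain ⟨E₀, hE₀⟩ : ∃ E₀ : Subgroup G, E₀ = E.map (centralizer ({z} : Set G)).subtype := ⟨_, rfl⟩
  refine ⟨(a : G), (b : G), ⟨hz, (hoc a).2 (F.mem a (Or.inl rfl)).1,
    (hoc b).2 (F.mem b (Or.inr (Or.inl rfl))).1, congrArg Subtype.val F.sqW.1,
    congrArg Subtype.val F.sqW.2, fun e1 => (F.mem a (Or.inl rfl)).2.2.2.1 (Subtype.ext e1),
    fun e1 => (F.mem b (Or.inr (Or.inl rfl))).2.2.2.1 (Subtype.ext e1),
    fun e1 => hd1 (Subtype.ext e1), ?_, ?_, ?_, ?_, ?_, ?_, ?_, ?_, ?_, ?_, ?_, ?_⟩⟩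
  · rintro (h1 | h1 | h1 | h1)
    · exact hzc1 (Subtype.ext (hzc.trans h1))
    · exact hwz a (Or.inl rfl) h1.symm
    · exact hwz b (Or.inr (Or.inl rfl)) h1.symm
    · exact hwz (a * b) (Or.inr (Or.inr rfl)) (by rw [coe_mul]; exact h1.symm)
  · intro y hy
    have hyz : y ∈ (centralizer ({z} : Set G)) :=
      mem_centralizer_singleton_iff.2 (mem_centralizer_iff.1 hy z (mem_oc_self hz)).symm
    exact ⟨⟨y, hyz⟩, hCJ (mem_centralizer_iff.2 fun j hj => Subtype.ext
      (mem_centralizer_iff.1 hy _ ⟨j, hj, rfl⟩)), rfl⟩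
  · show Nat.card ↥((pCore 2 ↥(centralizer ({z} : Set G))).map (centralizer ({z} : Set G)).subtype) = 2048
    rw [← Nat.card_congr (equivMapOfInjective _ _ (subtype_injective _)).toEquiv, hcard]
  · rintro _ ⟨j, hj, rfl⟩ _ ⟨j', hj', rfl⟩
    exact (F.comm j hj j' hj').imp (fun e1 => congrArg Subtype.val e1)
      (fun e1 => (congrArg Subtype.val e1).trans hzc)
  · rintro _ ⟨j, hj, rfl⟩
    exact (F.sq j hj).imp (fun e1 => congrArg Subtype.val e1)
      (fun e1 => (congrArg Subtype.val e1).trans hzc)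
  · rintro _ ⟨j, hj, rfl⟩
    refine Iff.trans ?_ (h8 j)
    constructor
    · intro hall
      exact Subgroup.mem_inf.2 ⟨hj, mem_centralizer_iff.2 fun j' hj' =>
        Subtype.ext (hall _ ⟨j', hj', rfl⟩).symm.eq⟩
    · rintro hjZ _ ⟨j', hj', rfl⟩
      exact congrArg Subtype.val ((mem_centralizer_iff.1 (Subgroup.mem_inf.1 hjZ).2) j' hj').symm
  · intro g hg
    have key : ∀ k : ↥(centralizer ({z} : Set G)), ∀ x, InW (a : G) (b : G) x →
        InW (a : G) (b : G) ((k : G) * x * (k : G)⁻¹) := by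
      intro k x hx
      obtain ⟨w, hw, rfl⟩ := hW x hx
      rcases hw with rfl | hw
      · left; simp
      · exact hW3 _ (F.perm A k hw)
    rw [mem_nrm]
    intro x
    refine ⟨key ⟨g, hg⟩ x, fun hx => ?_⟩
    have h1 := key ⟨g⁻¹, inv_mem hg⟩ _ hx
    simpa [mul_assoc] using h1
  · rintro x (rfl | rfl)
    · exact ⟨(c : G), c.2, congrArg Subtype.val F.ca⟩
    · refine ⟨((c * c : ↥(centralizer ({z} : Set G))) : G), (c * c).2, ?_⟩
      rw [← coe_mul (x := a), show a * b = c * c * a * (c * c)⁻¹ by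
        rw [show c * c * a * (c * c)⁻¹ = c * (c * a * c⁻¹) * c⁻¹ by group, F.ca, F.cb]]
      rfl
  · obtain ⟨t, ht1, ht2⟩ := F.exists_swap A e e' (by
      rw [hM1, U62Rec.card_psp_three]; norm_num)
    refine ⟨(t : G), t.2, ?_, congrArg Subtype.val ht2⟩
    exact congrArg Subtype.val (mul_inv_eq_iff_eq_mul.1 ht1)
  · let ι : ↥(cza z (a : G)) →* ↥(centralizer ({z} : Set G)) := Subgroup.inclusion inf_le_left
    refine ⟨(e.toMonoidHom.comp (QuotientGroup.mk' _)).comp ι, ?_, ?_⟩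
    · intro y
      obtain ⟨h, hh⟩ := QuotientGroup.mk'_surjective ((pCore 2 ↥(centralizer ({z} : Set G))) ⊔ zpowers c) (e.symm y)
      obtain ⟨y', hy', hya⟩ := F.to_stab A h
      refine ⟨⟨((y' * h : ↥(centralizer ({z} : Set G))) : G), (y' * h).2, mem_centralizer_singleton_iff.2
        (congrArg Subtype.val (mul_inv_eq_iff_eq_mul.1 hya))⟩, ?_⟩
      show e (QuotientGroup.mk' _ (y' * h)) = y
      rw [map_mul, show QuotientGroup.mk' ((pCore 2 ↥(centralizer ({z} : Set G))) ⊔ zpowers c) y' = 1 from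
        (QuotientGroup.eq_one_iff _).2 (mem_sup_right hy'), one_mul, hh, MulEquiv.apply_symm_apply]
    · ext g
      rw [MonoidHom.mem_ker, mem_subgroupOf]
      show e (QuotientGroup.mk' _ (ι g)) = 1 ↔ _
      rw [map_eq_one_iff e e.injective, QuotientGroup.mk'_apply, QuotientGroup.eq_one_iff]
      constructor
      · intro hg
        have hga' : ι g * a * (ι g)⁻¹ = a := mul_inv_eq_iff_eq_mul.2
          (Subtype.ext (mem_centralizer_singleton_iff.1 g.2.2))
        obtain ⟨j, hj, e1 | e1 | e1⟩ := hT _ hg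
        · exact (hoc (ι g)).2 (e1 ▸ hj)
        · refine absurd ?_ hd1
          rw [← F.ca, ← (F.act_c hj (Or.inl rfl)).1, ← e1, hga']
        · refine absurd ?_ hd2
          rw [← F.cb, ← F.ca, ← (F.act_c hj (Or.inl rfl)).2, ← e1, hga']
      · intro hg
        exact mem_sup_left ((hoc (ι g)).1 hg)
  · refine ⟨E₀, hE₀ ▸ map_mono hVE.2.1, hE₀ ▸ extraspecial_congr
      (equivMapOfInjective _ _ (subtype_injective _)) hE, ?_, ?_⟩
    · rw [hE₀, ← Nat.card_congr (equivMapOfInjective _ _ (subtype_injective _)).toEquiv, hEc]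
      norm_num
    · intro x hx hxz
      rw [hE₀] at hx
      obtain ⟨q, hq, rfl⟩ := hx
      have hqc := (h8 q).2 hxz
      exact (hEcen q hq fun j hj => (mem_centralizer_iff.1 (Subgroup.mem_inf.1 hqc).2 j hj).symm).imp
        (fun e1 => congrArg Subtype.val e1) (fun e1 => (congrArg Subtype.val e1).trans hzc)
  · intro g hg hgj
    refine (hoc ⟨g, hg⟩).2 (F.kernel_eq A e hcen (fun p => hM2.ge ⟨p, rfl⟩)
      (Setup.mem_actKer.2 fun j hj => (h8 _).2 ?_))
    simpa using hgj (j : G) ((hoc j).2 hj)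

end Cfsg.Agent.Fi23Two
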