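import Cfsg.Agent.Fi23Two.Basic
import Cfsg.Agent.Fi23Two.Setup
import Cfsg.Agent.Fi22Two.Quot

/-!
# The quotient of the centraliser of `u ∈ {a, a * z}` by `⟨u⟩`
-/

set_option autoImplicit false
set_option linter.unusedSectionVars false

open Cfsg Subgroup

namespace Cfsg.Agent.Fi23Two

open Cfsg.Agent.LargeExtra
open Cfsg.Agent.Fi22Two (IsoIn cza Na Qa mem_zpowers_two Fixed)

variable {G : Type*} [Group G] [Finite G] {z a b u : G}

section

variable (h : Hyp3 z a b) (hu : u = a ∨ u = a * z)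
include h hu

theorem Hyp3.u_inZ : InZ z a b u ∧ u ≠ 1 ∧ u ≠ z := by
  have haz : a ≠ z := fun e => h.z_notW (e ▸ Or.inr (Or.inl rfl))
  rcases hu with rfl | rfl
  · exact ⟨Or.inl (Or.inr (Or.inl rfl)), h.a_ne, haz⟩
  · refine ⟨Or.inr (by rw [mul_assoc, h.zz, mul_one]; exact Or.inr (Or.inl rfl)),
      fun e1 => haz ?_, fun e1 => h.a_ne (mul_eq_right.1 e1)⟩
    rw [← h.z_inv]; exact eq_inv_of_mul_eq_one_left e1

theorem Hyp3.uu : u * u = 1 := (Hyp3.InZ.mem h (h.u_inZ hu).1).2.2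

theorem Hyp3.oc_le_cu : oc z ≤ centralizer ({u} : Set G) := fun x hx =>
  mem_centralizer_singleton_iff.2 ((Hyp3.InZ.mem h (h.u_inZ hu).1).2.1 x hx).symm.eq

/-- The image of `z`. -/
abbrev zu : Qa u := QuotientGroup.mk ⟨z, h.oc_le_cu hu h.z_mem⟩

/-- The image of `b`. -/
abbrev bu : Qa u := QuotientGroup.mk ⟨b, h.oc_le_cu hu h.b_mem⟩

theorem mk_eq_iff3 (x y : ↥(centralizer ({u} : Set G))) :
    (QuotientGroup.mk x : Qa u) = QuotientGroup.mk y ↔ (y : G) = x ∨ (y : G) = x * u := by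
  rw [QuotientGroup.eq, mem_subgroupOf, mem_zpowers_two (h.uu hu)]
  simp only [coe_mul, coe_inv, inv_mul_eq_iff_eq_mul, mul_one]

theorem ord_zu : orderOf (zu h hu) = 2 := by
  refine orderOf_eq_prime ?_ ?_
  · rw [← QuotientGroup.mk_pow, QuotientGroup.eq_one_iff, mem_subgroupOf]
    simp [_root_.sq, h.zz]
  · intro e
    rw [QuotientGroup.eq_one_iff, mem_subgroupOf, mem_zpowers_two (h.uu hu)] at e
    rcases e with e | e
    · exact h.z_ne_one e
    · exact (h.u_inZ hu).2.2 e.symm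

theorem conj_ne_zu (g : G) : g * z * g⁻¹ ≠ z * u := by
  intro e
  have hW : InW a b a := Or.inr (Or.inl rfl)
  have hza : z * a = a * z := (h.comm_z h.a_mem).symm.eq
  rcases hu with rfl | rfl
  · exact (h.not_conj hW h.a_ne).2 (isConj_iff.2 ⟨g, e.trans hza⟩)
  · refine (h.not_conj hW h.a_ne).1 (isConj_iff.2 ⟨g, e.trans ?_⟩)
    rw [← mul_assoc, hza, mul_assoc, h.zz, mul_one]

theorem mk_mem_cent3 (g : ↥(centralizer ({u} : Set G))) :
    (QuotientGroup.mk g : Qa u) ∈ centralizer ({zu h hu} : Set (Qa u)) ↔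
      (g : G) ∈ centralizer ({z} : Set G) := by
  rw [mem_centralizer_singleton_iff, mem_centralizer_singleton_iff, ← QuotientGroup.mk_mul,
    ← QuotientGroup.mk_mul, mk_eq_iff3 h hu]
  simp only [coe_mul]
  refine ⟨fun e => e.elim Eq.symm fun e => absurd ?_ (conj_ne_zu h hu (g : G)⁻¹),
    fun e => Or.inl e.symm⟩
  calc (g : G)⁻¹ * z * (g : G)⁻¹⁻¹ = (g : G)⁻¹ * (z * g) := by group
    _ = (g : G)⁻¹ * (g * z * u) := by rw [e]
    _ = z * u := by group

theorem mem_cza_of {g : G} (hgu : g ∈ centralizer ({u} : Set G))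
    (hgz : g ∈ centralizer ({z} : Set G)) : g ∈ cza z a := by
  rw [← h.inf_az hu]; exact Subgroup.mem_inf.2 ⟨hgz, hgu⟩

theorem cza_le_cu : cza z a ≤ centralizer ({u} : Set G) := fun g hg => by
  rw [← h.inf_az hu] at hg; exact (Subgroup.mem_inf.1 hg).2

/-- The map onto the centraliser in the quotient. -/
def toCu : ↥(cza z a) →* ↥(centralizer ({zu h hu} : Set (Qa u))) where
  toFun g := ⟨QuotientGroup.mk ⟨(g : G), cza_le_cu h hu g.2⟩, (mk_mem_cent3 h hu _).2 g.2.1⟩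
  map_one' := Subtype.ext rfl
  map_mul' _ _ := Subtype.ext rfl

theorem toCu_surj : Function.Surjective (toCu h hu) := by
  rintro ⟨q, hq⟩
  obtain ⟨g, rfl⟩ := QuotientGroup.mk_surjective q
  exact ⟨⟨g, mem_cza_of h hu g.2 ((mk_mem_cent3 h hu g).1 hq)⟩, rfl⟩

theorem pCore_mulAut_psp : pCore 2 (MulAut (Cfsg.PSp 2 (ZMod 3))) = ⊥ := by
  haveI : Fact (Nat.Prime 2) := ⟨Nat.prime_two⟩
  obtain ⟨-, -, -, hS, hi⟩ := Fi22Two.mulAut_psp
  haveI := hS
  set P := pCore 2 (MulAut (Cfsg.PSp 2 (ZMod 3))) with hP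
  have hn : (P.comap (MulAut.conj : Cfsg.PSp 2 (ZMod 3) →* _)).Normal :=
    Subgroup.normal_comap _
  have hbot : P.comap (MulAut.conj : Cfsg.PSp 2 (ZMod 3) →* _) = ⊥ := by
    rcases hn.eq_bot_or_eq_top with e | e
    · exact e
    exfalso
    obtain ⟨k, hk⟩ := IsPGroup.iff_card.1
      ((Core.pCore_isPGroup (p := 2) (G := MulAut (Cfsg.PSp 2 (ZMod 3)))).comap_of_injective _ hi)
    rw [← hP, e, Subgroup.card_top, U62Rec.card_psp_three] at hk
    exact absurd (Nat.prime_three.dvd_of_dvd_pow (⟨8640, by omega⟩ : 3 ∣ 2 ^ k)) (by norm_num)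
  refine eq_bot_iff.2 fun f hf => mem_bot.2 (eq_one_of_central hi fun p => ?_)
  have h1 : MulAut.conj (p * (f p)⁻¹) ∈ P := by
    rw [map_mul, map_inv, show MulAut.conj (f p) = f * MulAut.conj p * f⁻¹ by ext q; simp,
      show MulAut.conj p * (f * MulAut.conj p * f⁻¹)⁻¹ =
        MulAut.conj p * f * (MulAut.conj p)⁻¹ * f⁻¹ by group]
    exact mul_mem ((inferInstance : P.Normal).conj_mem f hf _) (inv_mem hf)
  have h2 : p * (f p)⁻¹ = 1 := by rw [← mem_bot, ← hbot]; exact h1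
  have h3 : f p = p := (mul_inv_eq_one.1 h2).symm
  ext q
  show p * f q * p⁻¹ = f (p * q * p⁻¹)
  rw [map_mul, map_mul, map_inv, h3]

omit hu in
theorem pCore_cza : pCore 2 ↥(cza z a) = (oc z).subgroupOf (cza z a) := by
  obtain ⟨f, hf, hk⟩ := h.quot
  refine le_antisymm (fun x hx => ?_) ?_
  · have h1 : f x ∈ pCore 2 (MulAut (Cfsg.PSp 2 (ZMod 3))) :=
      Core.map_pCore_le_of_surjective hf ⟨x, hx, rfl⟩
    rw [pCore_mulAut_psp h (Or.inl rfl), mem_bot, ← MonoidHom.mem_ker, hk] at h1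
    exact h1
  · haveI : ((oc z).subgroupOf (cza z a)).Normal := ⟨fun n hn g => mem_subgroupOf.2 (by
      simpa using oc_conj_mem g.2.1 (mem_subgroupOf.1 hn))⟩
    exact Core.le_pCore ((oc_isPGroup z).comap_subtype)

theorem ker_toCu : (toCu h hu).ker ≤ pCore 2 ↥(cza z a) := by
  intro g hg
  have e : (QuotientGroup.mk (⟨(g : G), cza_le_cu h hu g.2⟩ : ↥(centralizer ({u} : Set G))) : Qa u) = 1 :=
    congrArg Subtype.val (MonoidHom.mem_ker.1 hg)
  rw [QuotientGroup.eq_one_iff, mem_subgroupOf] at e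
  rw [pCore_cza h, mem_subgroupOf]
  exact (zpowers_le.2 (Hyp3.InZ.mem h (h.u_inZ hu).1).1) e

theorem map_pCore_toCu : (pCore 2 ↥(cza z a)).map (toCu h hu) =
    pCore 2 ↥(centralizer ({zu h hu} : Set (Qa u))) := by
  refine le_antisymm (Core.map_pCore_le_of_surjective (toCu_surj h hu)) ?_
  rw [← map_comap_eq_self_of_surjective (toCu_surj h hu) (pCore 2 _)]
  refine map_mono (Core.le_pCore ?_)
  exact Core.pCore_isPGroup.comap_of_ker_isPGroup _
    (Core.pCore_isPGroup.to_le (ker_toCu h hu))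

/-- `oc` of the image of `z`. -/
theorem mem_oc_zu (g : ↥(centralizer ({u} : Set G))) :
    (QuotientGroup.mk g : Qa u) ∈ oc (zu h hu) ↔ (g : G) ∈ oc z := by
  constructor
  · rintro ⟨q, hq, e⟩
    rw [← map_pCore_toCu h hu] at hq
    obtain ⟨y, hy, rfl⟩ := hq
    rw [SetLike.mem_coe, pCore_cza h, mem_subgroupOf] at hy
    rcases (mk_eq_iff3 h hu ⟨(y : G), cza_le_cu h hu y.2⟩ g).1 e with e | e <;> rw [e]
    · exact hy
    · exact mul_mem hy (Hyp3.InZ.mem h (h.u_inZ hu).1).1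
  · intro hg
    refine ⟨toCu h hu ⟨g, h.oc_le_cza hg⟩, (map_pCore_toCu h hu).le
      ⟨_, (pCore_cza h).ge (mem_subgroupOf.2 hg), rfl⟩, rfl⟩

theorem quot_zu : Nonempty ((↥(centralizer ({zu h hu} : Set (Qa u))) ⧸
    pCore 2 ↥(centralizer ({zu h hu} : Set (Qa u)))) ≃* MulAut (Cfsg.PSp 2 (ZMod 3))) := by
  obtain ⟨f, hf, hk⟩ := h.quot
  let χ := (QuotientGroup.mk' (pCore 2 ↥(centralizer ({zu h hu} : Set (Qa u))))).comp (toCu h hu)
  have hχ : Function.Surjective χ := (QuotientGroup.mk'_surjective _).comp (toCu_surj h hu)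
  have hkχ : χ.ker = f.ker := by
    rw [hk, ← pCore_cza h, ← MonoidHom.comap_ker, QuotientGroup.ker_mk', ← map_pCore_toCu h hu,
      comap_map_eq, sup_eq_left.2 (ker_toCu h hu)]
  exact ⟨((QuotientGroup.quotientKerEquivOfSurjective χ hχ).symm.trans
    (QuotientGroup.quotientMulEquivOfEq hkχ)).trans
    (QuotientGroup.quotientKerEquivOfSurjective f hf)⟩

theorem card_oc_zu : Nat.card ↥(oc (zu h hu)) = 1024 := by
  set X := (oc z).subgroupOf (centralizer ({u} : Set G))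
  have hs : oc (zu h hu) = X.map (QuotientGroup.mk' (Na u)) := by
    ext q
    obtain ⟨g, rfl⟩ := QuotientGroup.mk_surjective q
    rw [mem_oc_zu h hu]
    constructor
    · exact fun hg => ⟨g, hg, rfl⟩
    · rintro ⟨y, hy, e⟩
      rcases (mk_eq_iff3 h hu y g).1 e with e | e <;> rw [e]
      · exact hy
      · exact mul_mem hy (Hyp3.InZ.mem h (h.u_inZ hu).1).1
  have hNX : Na u ≤ X := fun n hn =>
    (zpowers_le.2 (Hyp3.InZ.mem h (h.u_inZ hu).1).1) (mem_subgroupOf.1 hn)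
  have h1 : Nat.card ↥(X.map (QuotientGroup.mk' (Na u))) * Nat.card ↥(Na u) = Nat.card ↥X := by
    have h2 := (X.map (QuotientGroup.mk' (Na u))).card_mul_index
    rw [index_map_eq X (QuotientGroup.mk'_surjective _) (by simpa using hNX)] at h2
    have h3 := X.card_mul_index
    have h4 := (Na u).card_eq_card_quotient_mul_card_subgroup
    have hX0 : 0 < X.index := Nat.pos_of_ne_zero X.index_ne_zero_of_finite
    apply Nat.eq_of_mul_eq_mul_right hX0
    rw [h3, h4, ← h2]; ring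
  have hXc : Nat.card ↥X = 2048 := by
    rw [Nat.card_congr (subgroupOfEquivOfLe (h.oc_le_cu hu)).toEquiv, h.card]
  have hord : orderOf u = 2 := orderOf_eq_prime (by rw [_root_.sq, h.uu hu]) (h.u_inZ hu).2.1
  have hNc : Nat.card ↥(Na u) = 2 := by
    rw [Nat.card_congr (subgroupOfEquivOfLe (zpowers_le.2
      (mem_centralizer_singleton_iff.2 rfl : u ∈ centralizer ({u} : Set G)))).toEquiv,
      Nat.card_zpowers, hord]
  rw [hXc, hNc, ← hs] at h1
  exact Nat.eq_of_mul_eq_mul_right two_pos (h1.trans (by norm_num))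

theorem bu_ne : bu h hu ≠ 1 ∧ bu h hu ≠ zu h hu := by
  have hab := h.comm_ab
  have hza : Commute a z := h.comm_z h.a_mem
  have hzW : ∀ w, InW a b w → w ≠ z := fun w hw e => h.z_notW (e ▸ hw)
  constructor
  · intro e
    rw [QuotientGroup.eq_one_iff, mem_subgroupOf, mem_zpowers_two (h.uu hu)] at e
    rcases e with e | e
    · exact h.b_ne e
    · rcases hu with rfl | rfl
      · exact h.ab_ne e.symm
      · refine hzW (a * b) (Or.inr (Or.inr (Or.inr rfl))) ?_
        rw [show b = a * z from e, ← mul_assoc, h.aa, one_mul]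
  · intro e
    rcases (mk_eq_iff3 h hu _ _).1 e with e | e
    · exact hzW b (Or.inr (Or.inr (Or.inl rfl))) e.symm
    · rcases hu with rfl | rfl
      · exact hzW _ (Or.inr (Or.inr (Or.inr rfl))) (by rw [hab.eq]; exact e.symm)
      · have e' : z = b * a * z := by rw [mul_assoc]; exact e
        exact h.ab_ne (by
          have h5 : b * a = 1 := right_eq_mul.1 e'
          calc a = b * a * a := by rw [h5, one_mul]
            _ = b := by rw [mul_assoc, h.aa, mul_one])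

theorem bu_mk_eq {x : G} (hx : x ∈ centralizer ({u} : Set G)) (hxz : InZ z a b x) :
    (QuotientGroup.mk ⟨x, hx⟩ : Qa u) = 1 ∨ (QuotientGroup.mk ⟨x, hx⟩ : Qa u) = zu h hu ∨
      (QuotientGroup.mk ⟨x, hx⟩ : Qa u) = bu h hu ∨
      (QuotientGroup.mk ⟨x, hx⟩ : Qa u) = bu h hu * zu h hu := by
  obtain ⟨w, hw, e⟩ := Hyp3.InZ.cases h hxz
  have hwu : w ∈ centralizer ({u} : Set G) := h.oc_le_cu hu (Hyp3.InW.mem h hw).1
  have ha' : a ∈ centralizer ({u} : Set G) := h.oc_le_cu hu h.a_mem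
  have hza : Commute a z := h.comm_z h.a_mem
  have hA : (QuotientGroup.mk ⟨a, ha'⟩ : Qa u) = 1 ∨ (QuotientGroup.mk ⟨a, ha'⟩ : Qa u) = zu h hu := by
    rcases hu with rfl | rfl
    · exact Or.inl ((QuotientGroup.eq_one_iff _).2 (mem_subgroupOf.2 (mem_zpowers _)))
    · right
      exact (mk_eq_iff3 h (Or.inr rfl) _ _).2 (Or.inr (by
        rw [← mul_assoc, h.aa, one_mul]))
  have hb2 : bu h hu * bu h hu = 1 := by
    rw [← QuotientGroup.mk_mul, QuotientGroup.eq_one_iff, mem_subgroupOf]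
    simp [h.bb]
  have hz2 : zu h hu * zu h hu = 1 := by
    rw [← _root_.sq, ← ord_zu h hu]; exact pow_orderOf_eq_one _
  have hbz : Commute (bu h hu) (zu h hu) := congrArg QuotientGroup.mk
    (Subtype.ext (h.comm_z h.b_mem).eq :
      (⟨b, h.oc_le_cu hu h.b_mem⟩ * ⟨z, h.oc_le_cu hu h.z_mem⟩ : ↥(centralizer ({u} : Set G))) = _)
  have hW : (QuotientGroup.mk ⟨w, hwu⟩ : Qa u) = 1 ∨ (QuotientGroup.mk ⟨w, hwu⟩ : Qa u) = zu h hu ∨
      (QuotientGroup.mk ⟨w, hwu⟩ : Qa u) = bu h hu ∨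
      (QuotientGroup.mk ⟨w, hwu⟩ : Qa u) = bu h hu * zu h hu := by
    rcases hw with rfl | rfl | rfl | rfl
    · exact Or.inl ((QuotientGroup.eq_one_iff _).2 (one_mem _))
    · exact hA.imp id Or.inl
    · exact Or.inr (Or.inr (Or.inl rfl))
    · have e1 : (QuotientGroup.mk ⟨a * b, hwu⟩ : Qa u) =
          bu h hu * QuotientGroup.mk ⟨a, ha'⟩ := congrArg QuotientGroup.mk
        (Subtype.ext h.comm_ab.eq :
          (⟨a * b, hwu⟩ : ↥(centralizer ({u} : Set G))) =
            ⟨b, h.oc_le_cu hu h.b_mem⟩ * ⟨a, ha'⟩)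
      rcases hA with hA | hA <;> rw [e1, hA]
      · exact Or.inr (Or.inr (Or.inl (mul_one _)))
      · exact Or.inr (Or.inr (Or.inr rfl))
  rcases e with rfl | rfl
  · exact hW
  · rw [show (QuotientGroup.mk ⟨w * z, hx⟩ : Qa u) = QuotientGroup.mk ⟨w, hwu⟩ * zu h hu from rfl]
    rcases hW with e | e | e | e <;> rw [e]
    · exact Or.inr (Or.inl (one_mul _))
    · exact Or.inl hz2
    · exact Or.inr (Or.inr (Or.inr rfl))
    · exact Or.inr (Or.inr (Or.inl (by rw [mul_assoc, hz2, mul_one])))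

/-- The quotient satisfies the hypotheses of the smaller case. -/
theorem hyp_quot : Fi22Two.Hyp (zu h hu) (bu h hu) := by
  have hc1 : ∀ g₁ g₂ : ↥(centralizer ({u} : Set G)), (g₁ : G) ∈ oc z → (g₂ : G) ∈ oc z →
      ((QuotientGroup.mk g₁ : Qa u) * QuotientGroup.mk g₂ = QuotientGroup.mk g₂ * QuotientGroup.mk g₁ ↔
        Commute (g₁ : G) g₂) := by
    intro g₁ g₂ h1 h2
    rw [← QuotientGroup.mk_mul, ← QuotientGroup.mk_mul, mk_eq_iff3 h hu]
    simp only [coe_mul]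
    refine ⟨fun e => e.elim Eq.symm fun e => ?_, fun e => Or.inl e.symm⟩
    rcases h.comm _ h1 _ h2 with e' | e'
    · exact mul_inv_eq_iff_eq_mul.1 (mul_inv_eq_one.1 e')
    exfalso
    have hcen := (Hyp3.InZ.mem h (h.u_inZ hu).1).2.1
    have e2 : (g₂ : G) * g₁ * (g₂ : G)⁻¹ * (g₁ : G)⁻¹ = u := by
      rw [e, show (g₁ : G) * g₂ * u * (g₂ : G)⁻¹ * (g₁ : G)⁻¹ =
        g₁ * (g₂ * u * (g₂ : G)⁻¹) * (g₁ : G)⁻¹ by group, ← (hcen _ h2).eq, mul_inv_cancel_right,
        ← (hcen _ h1).eq, mul_inv_cancel_right]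
    rcases h.comm _ h2 _ h1 with e3 | e3
    · exact (h.u_inZ hu).2.1 (e2.symm.trans e3)
    · exact (h.u_inZ hu).2.2 (e2.symm.trans e3)
  refine ⟨ord_zu h hu, ?_, ?_, (bu_ne h hu).2, ?_, card_oc_zu h hu, ?_, ?_, ?_, quot_zu h hu⟩
  · refine orderOf_eq_prime ?_ (bu_ne h hu).1
    rw [_root_.sq, ← QuotientGroup.mk_mul, QuotientGroup.eq_one_iff, mem_subgroupOf]
    simp [h.bb]
  · exact (mem_oc_zu h hu _).2 h.b_mem
  · intro q hq
    obtain ⟨g, rfl⟩ := QuotientGroup.mk_surjective q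
    have hgz : (g : G) ∈ centralizer ({z} : Set G) := by
      rw [← mk_mem_cent3 h hu, mem_centralizer_singleton_iff]
      exact (mem_centralizer_iff.1 hq (zu h hu) ((mem_oc_zu h hu _).2 h.z_mem)).symm
    refine (mem_oc_zu h hu g).2 (h.act g hgz fun j hj => ?_)
    have e := mem_centralizer_iff.1 hq _ ((mem_oc_zu h hu ⟨j, h.oc_le_cu hu hj⟩).2 hj)
    rw [← QuotientGroup.mk_mul, ← QuotientGroup.mk_mul, mk_eq_iff3 h hu] at e
    simp only [coe_mul] at e
    rcases e with e | e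
    · rw [e, show j * (g : G) * (g : G)⁻¹ * j⁻¹ = 1 by group]
      exact Or.inl (Or.inl rfl)
    · have hju := (Hyp3.InZ.mem h (h.u_inZ hu).1).2.1 j hj
      have hgu : Commute (g : G) u := mem_centralizer_singleton_iff.1 g.2
      rw [e, show j * (g : G) * u * (g : G)⁻¹ * j⁻¹ = j * ((g : G) * u * (g : G)⁻¹) * j⁻¹ by group,
        hgu.eq, mul_inv_cancel_right, ← hju.eq, mul_inv_cancel_right]
      exact (h.u_inZ hu).1
  · intro p hp q hq
    obtain ⟨x, rfl⟩ := QuotientGroup.mk_surjective p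
    obtain ⟨y, rfl⟩ := QuotientGroup.mk_surjective q
    rw [← QuotientGroup.mk_mul, ← QuotientGroup.mk_inv, ← QuotientGroup.mk_mul, ← QuotientGroup.mk_inv,
      ← QuotientGroup.mk_mul]
    rcases h.comm _ ((mem_oc_zu h hu x).1 hp) _ ((mem_oc_zu h hu y).1 hq) with e | e
    · exact Or.inl ((QuotientGroup.eq_one_iff _).2 (mem_subgroupOf.2 (by simp [e])))
    · exact Or.inr (congrArg QuotientGroup.mk (Subtype.ext (by simpa using e)))
  · intro p hp
    obtain ⟨x, rfl⟩ := QuotientGroup.mk_surjective p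
    rw [← QuotientGroup.mk_mul]
    rcases h.sq _ ((mem_oc_zu h hu x).1 hp) with e | e
    · exact Or.inl ((QuotientGroup.eq_one_iff _).2 (mem_subgroupOf.2 (by simp [e])))
    · exact Or.inr (congrArg QuotientGroup.mk (Subtype.ext (by simpa using e)))
  · intro p hp
    obtain ⟨x, rfl⟩ := QuotientGroup.mk_surjective p
    have hx := (mem_oc_zu h hu x).1 hp
    constructor
    · intro hall
      have hxz := (h.centre _ hx).1 fun y hy => (hc1 x ⟨y, h.oc_le_cu hu hy⟩ hx hy).1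
        (hall _ ((mem_oc_zu h hu ⟨y, h.oc_le_cu hu hy⟩).2 hy)).eq
      exact bu_mk_eq h hu x.2 hxz
    · intro hcase q hq
      obtain ⟨y, rfl⟩ := QuotientGroup.mk_surjective q
      have hy := (mem_oc_zu h hu y).1 hq
      have hcen : ∀ (s : G) (hs : s ∈ centralizer ({u} : Set G)), InZ z a b s →
          Commute (QuotientGroup.mk ⟨s, hs⟩ : Qa u) (QuotientGroup.mk y) := fun s hs hsz =>
        (hc1 ⟨s, hs⟩ y (Hyp3.InZ.mem h hsz).1 hy).2 ((Hyp3.InZ.mem h hsz).2.1 _ hy)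
      have hB := hcen b (h.oc_le_cu hu h.b_mem) (Or.inl (Or.inr (Or.inr (Or.inl rfl))))
      have hZ := hcen z (h.oc_le_cu hu h.z_mem) h.inZ_z
      rcases hcase with e | e | e | e <;> rw [e]
      exacts [Commute.one_left _, hZ, hB, hB.mul_left hZ]

/-- The extraspecial subgroup of the quotient. -/
theorem ext_quot : ∃ E : Subgroup (Qa u), E ≤ oc (zu h hu) ∧ IsExtraspecial 2 ↥E ∧
    Nat.card ↥E = 512 ∧ bu h hu ∉ E ∧ bu h hu * zu h hu ∉ E := by
  obtain ⟨E, hE, hEs, hEc, hEz⟩ := h.ext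
  have huI := h.u_inZ hu
  let f : ↥E →* Qa u := (QuotientGroup.mk' (Na u)).comp
    (Subgroup.inclusion (hE.trans (h.oc_le_cu hu)))
  have hf : ∀ e : ↥E, f e = QuotientGroup.mk ⟨(e : G), h.oc_le_cu hu (hE e.2)⟩ := fun _ => rfl
  have hnE : ∀ x ∈ E, InZ z a b x → x ≠ 1 → x = z := fun x hx hxz hx1 =>
    (hEz x hx hxz).resolve_left hx1
  have hinj : Function.Injective f := by
    refine (MonoidHom.ker_eq_bot_iff f).1 (eq_bot_iff.2 fun e he => ?_)
    have he' := MonoidHom.mem_ker.1 he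
    rw [hf, QuotientGroup.eq_one_iff, mem_subgroupOf, mem_zpowers_two (h.uu hu)] at he'
    rcases he' with e1 | e1
    · exact mem_bot.2 (Subtype.ext e1)
    · have e1' : (e : G) = u := e1
      exact absurd (hnE u (e1' ▸ e.2) huI.1 huI.2.1) huI.2.2
  have hin : ∀ (x : G) (hx : x ∈ centralizer ({u} : Set G)), InZ z a b x →
      (QuotientGroup.mk ⟨x, hx⟩ : Qa u) ∈ f.range →
        (QuotientGroup.mk ⟨x, hx⟩ : Qa u) = 1 ∨ (QuotientGroup.mk ⟨x, hx⟩ : Qa u) = zu h hu := by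
    rintro x hx hxz ⟨e, he⟩
    rw [hf] at he
    have hez : InZ z a b (e : G) := by
      rcases (mk_eq_iff3 h hu _ _).1 he with e1 | e1 <;> change x = _ at e1
      · exact e1 ▸ hxz
      · refine h.central_cases fun y hy => ?_
        have h2 : (e : G) = x * u := by rw [e1, mul_assoc, h.uu hu, mul_one]
        rw [h2]
        exact ((Hyp3.InZ.mem h hxz).2.1 y hy).mul_left ((Hyp3.InZ.mem h huI.1).2.1 y hy)
    rw [← he]
    rcases hEz _ e.2 hez with e1 | e1
    · exact Or.inl ((QuotientGroup.eq_one_iff _).2 (mem_subgroupOf.2 (by simp [e1])))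
    · exact Or.inr (congrArg QuotientGroup.mk (Subtype.ext e1))
  refine ⟨f.range, ?_, extraspecial_congr (MonoidHom.ofInjective hinj) hEs, ?_, ?_, ?_⟩
  · rintro _ ⟨e, rfl⟩
    exact (mem_oc_zu h hu _).2 (hE e.2)
  · rw [← Nat.card_congr (MonoidHom.ofInjective hinj).toEquiv, hEc]
  · intro hb
    rcases hin b _ (Or.inl (Or.inr (Or.inr (Or.inl rfl)))) hb with e | e
    exacts [(bu_ne h hu).1 e, (bu_ne h hu).2 e]
  · intro hb
    have hbz : InZ z a b (b * z) := Or.inr (by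
      rw [mul_assoc, h.zz, mul_one]; exact Or.inr (Or.inr (Or.inl rfl)))
    have hz2 : zu h hu * zu h hu = 1 := by
      rw [← _root_.sq, ← ord_zu h hu]; exact pow_orderOf_eq_one _
    rcases hin (b * z) (h.oc_le_cu hu (Hyp3.InZ.mem h hbz).1) hbz hb with e | e
    · refine (bu_ne h hu).2 ?_
      rw [← mul_one (bu h hu), ← hz2, ← mul_assoc,
        show bu h hu * zu h hu = 1 from e, one_mul]
    · exact (bu_ne h hu).1 (mul_eq_right.1 (show bu h hu * zu h hu = zu h hu from e))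

/-- A decomposition in the quotient gives isolation in the centraliser. -/
theorem iso_of_decomp3 (hd : centralizer ({zu h hu} : Set (Qa u)) ⊔ Cfsg.oddCore (Qa u) = ⊤) :
    IsoIn z u := by
  intro g hgu hgz
  let g' : ↥(centralizer ({u} : Set G)) := ⟨g, mem_centralizer_singleton_iff.2 hgu.eq⟩
  set z' : ↥(centralizer ({u} : Set G)) := ⟨z, h.oc_le_cu hu h.z_mem⟩ with hz'
  have hmem : (QuotientGroup.mk g' : Qa u) ∈
      centralizer ({zu h hu} : Set (Qa u)) ⊔ Cfsg.oddCore (Qa u) := hd ▸ mem_top _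
  obtain ⟨o, ho, c, hc, e⟩ : ∃ o ∈ Cfsg.oddCore (Qa u),
      ∃ c ∈ centralizer ({zu h hu} : Set (Qa u)), o * c = QuotientGroup.mk g' := by
    rw [sup_comm, ← SetLike.mem_coe, coe_mul_of_right_le_normalizer_left] at hmem
    · exact hmem
    · intro q _
      exact (Subgroup.normalizer_eq_top (H := Cfsg.oddCore (Qa u))).symm ▸ mem_top q
  have hq2 : zu h hu * zu h hu = 1 := by
    rw [← _root_.sq, ← ord_zu h hu]; exact pow_orderOf_eq_one _
  have hcz : c * zu h hu * c⁻¹ = zu h hu := by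
    rw [mem_centralizer_singleton_iff.1 hc, mul_inv_cancel_right]
  set p := (QuotientGroup.mk g' : Qa u) * zu h hu * (QuotientGroup.mk g' : Qa u)⁻¹ with hp
  have hp' : p = o * zu h hu * o⁻¹ := by
    rw [hp, ← e]; calc o * c * zu h hu * (o * c)⁻¹ = o * (c * zu h hu * c⁻¹) * o⁻¹ := by group
      _ = _ := by rw [hcz]
  have hcomm : Commute p (zu h hu) := congrArg (QuotientGroup.mk (s := Na u))
    (show (g' * z' * g'⁻¹ * z' : ↥(centralizer ({u} : Set G))) = z' * (g' * z' * g'⁻¹) from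
      Subtype.ext hgz.eq)
  have hodd : Odd (Nat.card ↥(Cfsg.oddCore (Qa u))) :=
    Nat.coprime_two_right.1 (Cfsg.Agent.Core.coprime_card_pPrimeCore (p := 2) (G := Qa u))
  have hun : p * zu h hu ∈ Cfsg.oddCore (Qa u) := by
    rw [hp', show o * zu h hu * o⁻¹ * zu h hu =
      o * (zu h hu * o⁻¹ * (zu h hu)⁻¹) * (zu h hu * zu h hu) by group, hq2, mul_one]
    exact mul_mem ho ((inferInstance : (Cfsg.oddCore (Qa u)).Normal).conj_mem _ (inv_mem ho) _)
  have hp2 : p * p = 1 := by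
    rw [hp', show o * zu h hu * o⁻¹ * (o * zu h hu * o⁻¹) = o * (zu h hu * zu h hu) * o⁻¹ by group,
      hq2]
    group
  have h1 : p * zu h hu = 1 := by
    have h2 : (p * zu h hu) ^ 2 = 1 := by
      rw [hcomm.mul_pow, _root_.sq, _root_.sq, hp2, hq2, one_mul]
    have h3 := Subgroup.orderOf_dvd_natCard _ hun
    rcases (Nat.dvd_prime Nat.prime_two).1 (orderOf_dvd_of_pow_eq_one h2) with e | e
    · exact orderOf_eq_one_iff.1 e
    · rw [e] at h3; exact absurd (even_iff_two_dvd.2 h3) (Nat.not_even_iff_odd.2 hodd)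
  have h4 : p = zu h hu := by
    rw [eq_inv_of_mul_eq_one_left h1, inv_eq_of_mul_eq_one_right hq2]
  rw [hp, ← QuotientGroup.mk_inv, ← QuotientGroup.mk_mul, ← QuotientGroup.mk_mul,
    mk_eq_iff3 h hu] at h4
  simp only [coe_mul, coe_inv] at h4
  rcases h4 with h4 | h4
  · exact h4.symm
  · refine absurd ?_ (conj_ne_zu h hu g)
    calc g * z * g⁻¹ = g * z * g⁻¹ * (u * u) := by rw [h.uu hu, mul_one]
      _ = z * u := by rw [← mul_assoc]; exact congrArg (· * u) h4.symm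

end

/-- In the quotient by `a` the image of `b` is fixed. -/
theorem fixed_quot (h : Hyp3 z a b) :
    Fixed (zu h (Or.inl rfl : a = a ∨ a = a * z)) (bu h (Or.inl rfl : a = a ∨ a = a * z)) := by
  intro q hq
  obtain ⟨g, rfl⟩ := QuotientGroup.mk_surjective q
  have hgz := (mk_mem_cent3 h (Or.inl rfl) g).1 hq
  have hga : Commute (g : G) a := mem_centralizer_singleton_iff.1 g.2
  have hW := h.permW hgz (Or.inr (Or.inr (Or.inl rfl)) : InW a b b)
  rcases InW.ne_one_cases hW (fun e => h.b_ne (conj_eq_one_iff.1 e)) with e | e | e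
  · refine absurd ?_ h.ab_ne
    have := mul_inv_eq_iff_eq_mul.1 e
    rw [← hga.eq] at this
    exact (mul_left_cancel this).symm
  all_goals refine (QuotientGroup.mk_mul _ _ _).symm.trans (((mk_eq_iff3 h (Or.inl rfl) _ _).2 ?_).trans
    (QuotientGroup.mk_mul _ _ _))
  all_goals simp only [coe_mul]
  · exact Or.inl (mul_inv_eq_iff_eq_mul.1 e).symm
  · right
    have hbJ := h.b_mem
    have e1 : (g : G) * b = a * b * g := mul_inv_eq_iff_eq_mul.1 e
    rw [e1, mul_assoc (a * b), hga.eq, ← mul_assoc, mul_assoc a b a, ← h.comm_ab.eq, ← mul_assoc,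
      h.aa, one_mul]

/-- In the quotient by `a * z` the image of `b` is moved. -/
theorem not_fixed_quot (h : Hyp3 z a b) :
    ¬ Fixed (zu h (Or.inr rfl : a * z = a ∨ a * z = a * z))
      (bu h (Or.inr rfl : a * z = a ∨ a * z = a * z)) := by
  intro hF
  obtain ⟨s, hsz, hsa, hsb⟩ := h.swap
  have hsu : s ∈ centralizer ({a * z} : Set G) := mem_centralizer_singleton_iff.2
    (hsa.mul_right (mem_centralizer_singleton_iff.1 hsz)).eq
  have h1 : (QuotientGroup.mk (⟨s, hsu⟩ * ⟨b, h.oc_le_cu (Or.inr rfl) h.b_mem⟩) : Qa (a * z)) =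
      QuotientGroup.mk (⟨b, h.oc_le_cu (Or.inr rfl) h.b_mem⟩ * ⟨s, hsu⟩) :=
    hF _ ((mk_mem_cent3 h (Or.inr rfl) ⟨s, hsu⟩).2 hsz)
  rw [mk_eq_iff3 h (Or.inr rfl)] at h1
  simp only [coe_mul] at h1
  have e2 : s * b = a * b * s := mul_inv_eq_iff_eq_mul.1 hsb
  rcases h1 with e | e
  · rw [e2] at e
    exact h.a_ne (right_eq_mul.1 (by rw [← mul_assoc]; exact e) : a = 1)
  · have hsaz : Commute s (a * z) := mem_centralizer_singleton_iff.1 hsu
    rw [e2, mul_assoc (a * b), hsaz.eq, ← mul_assoc, mul_left_inj] at e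
    have e3 : b = b * z := by
      rw [show a * b * (a * z) = a * (b * a) * z by group, ← h.comm_ab.eq, ← mul_assoc, h.aa,
        one_mul] at e
      exact e
    exact h.z_ne_one (left_eq_mul.1 e3)

end Cfsg.Agent.Fi23Two
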