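import Cfsg.Agent.Fi23Two.Basic
import Cfsg.Agent.Fi23Two.Fi22Leg
import Cfsg.Agent.Fi23Two.QuotBase
import Cfsg.Agent.Fi22Two.Main

/-!
# The centraliser of `a * z` modulo `a * z`
-/

set_option autoImplicit false
set_option linter.unusedSectionVars false

open Cfsg Subgroup

namespace Cfsg.Agent.Fi23Two

open Cfsg.Agent.LargeExtra
open Cfsg.Agent.Fi22Two (IsoIn cza Qa Na mem_zpowers_two)

variable {G : Type*} [Group G] [Finite G] {z a b : G}

theorem mk_eq_iff' {u₀ : G} (huu : u₀ * u₀ = 1) (x y : ↥(centralizer ({u₀} : Set G))) :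
    (QuotientGroup.mk x : Qa u₀) = QuotientGroup.mk y ↔ (y : G) = x ∨ (y : G) = x * u₀ := by
  rw [QuotientGroup.eq, mem_subgroupOf, mem_zpowers_two huu]
  simp only [Subgroup.coe_mul, Subgroup.coe_inv, inv_mul_eq_iff_eq_mul, mul_one]

/-- A split quotient isolates `z`. -/
theorem isoIn_of_quot {u₀ : G} (huu : u₀ * u₀ = 1) (hzz : z * z = 1)
    (hzu : z ∈ centralizer ({u₀} : Set G))
    (hd : centralizer ({(QuotientGroup.mk ⟨z, hzu⟩ : Qa u₀)} : Set (Qa u₀)) ⊔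
      Cfsg.oddCore (Qa u₀) = ⊤)
    (hn : ∀ g : G, g * z * g⁻¹ ≠ u₀ * z) : IsoIn z u₀ := by
  obtain ⟨zb, hzb⟩ : ∃ q : Qa u₀, q = QuotientGroup.mk ⟨z, hzu⟩ := ⟨_, rfl⟩
  rw [← hzb] at hd
  intro g hga hgz
  let g' : ↥(centralizer ({u₀} : Set G)) := ⟨g, mem_centralizer_singleton_iff.2 hga.eq⟩
  have hmem : (QuotientGroup.mk g' : Qa u₀) ∈
      centralizer ({zb} : Set (Qa u₀)) ⊔ Cfsg.oddCore (Qa u₀) := hd ▸ mem_top _
  obtain ⟨o, ho, c, hc, e⟩ : ∃ o ∈ Cfsg.oddCore (Qa u₀), ∃ c ∈ centralizer ({zb} : Set (Qa u₀)),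
      o * c = QuotientGroup.mk g' := by
    rw [sup_comm, ← SetLike.mem_coe, coe_mul_of_right_le_normalizer_left] at hmem
    · exact hmem
    · intro q _
      exact (Subgroup.normalizer_eq_top (H := Cfsg.oddCore (Qa u₀))).symm ▸ mem_top q
  have hq2 : zb * zb = 1 := by
    rw [hzb, ← QuotientGroup.mk_mul, show (⟨z, hzu⟩ : ↥(centralizer ({u₀} : Set G))) * ⟨z, hzu⟩ = 1
      from Subtype.ext hzz]
    rfl
  have hcz : c * zb * c⁻¹ = zb := by
    rw [mem_centralizer_singleton_iff.1 hc, mul_inv_cancel_right]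
  set u := (QuotientGroup.mk g' : Qa u₀) * zb * (QuotientGroup.mk g' : Qa u₀)⁻¹ with hu
  have hu' : u = o * zb * o⁻¹ := by
    rw [hu, ← e]; calc o * c * zb * (o * c)⁻¹ = o * (c * zb * c⁻¹) * o⁻¹ := by group
      _ = _ := by rw [hcz]
  have hcomm : Commute u (zb) := by
    have := congrArg (QuotientGroup.mk (s := Na u₀))
      (show (g' * ⟨z, hzu⟩ * g'⁻¹ * ⟨z, hzu⟩ : ↥(centralizer ({u₀} : Set G))) =
        ⟨z, hzu⟩ * (g' * ⟨z, hzu⟩ * g'⁻¹) from Subtype.ext hgz.eq)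
    rw [hu, hzb]; exact this
  have hodd : Odd (Nat.card ↥(Cfsg.oddCore (Qa u₀))) := Nat.coprime_two_right.1 (Cfsg.Agent.Core.coprime_card_pPrimeCore (p := 2) (G := Qa u₀))
  have hun : u * zb ∈ Cfsg.oddCore (Qa u₀) := by
    rw [hu', show o * zb * o⁻¹ * zb = o * (zb * o⁻¹ * (zb)⁻¹) * (zb * zb) by group,
      hq2, mul_one]
    exact mul_mem ho ((inferInstance : (Cfsg.oddCore (Qa u₀)).Normal).conj_mem _ (inv_mem ho) _)
  have hu2 : u * u = 1 := by rw [hu', show o * zb * o⁻¹ * (o * zb * o⁻¹) = o * (zb * zb) * o⁻¹ by group, hq2]; group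
  have h1 : u * zb = 1 := by
    have h2 : (u * zb) ^ 2 = 1 := by rw [hcomm.mul_pow, _root_.sq, _root_.sq, hu2, hq2, one_mul]
    have h3 := Subgroup.orderOf_dvd_natCard _ hun
    rcases (Nat.dvd_prime Nat.prime_two).1 (orderOf_dvd_of_pow_eq_one h2) with e | e
    · exact orderOf_eq_one_iff.1 e
    · rw [e] at h3; exact absurd (even_iff_two_dvd.2 h3) (Nat.not_even_iff_odd.2 hodd)
  have h4 : u = zb := by rw [eq_inv_of_mul_eq_one_left h1, inv_eq_of_mul_eq_one_right hq2]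
  rw [hu, hzb, ← QuotientGroup.mk_inv, ← QuotientGroup.mk_mul, ← QuotientGroup.mk_mul, mk_eq_iff' huu] at h4
  simp only [coe_mul, coe_inv] at h4
  rcases h4 with h4 | h4
  · exact h4.symm
  · refine absurd ?_ (hn g)
    calc g * z * g⁻¹ = g * z * g⁻¹ * (u₀ * u₀) := by rw [huu, mul_one]
      _ = z * u₀ := by rw [← mul_assoc]; exact congrArg (· * u₀) h4.symm
      _ = u₀ * z := (mem_centralizer_singleton_iff.1 hzu)

theorem Hyp3.az_sq (h : Hyp3 z a b) : a * z * (a * z) = 1 := by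
  rw [(h.comm_z h.a_mem).symm.mul_mul_mul_comm, h.aa, h.zz, one_mul]

/-- `a * z` lies in the derived subgroup of its centraliser. -/
theorem Hyp3.az_mem_commutator (h : Hyp3 z a b) (hm : a * z ∈ centralizer ({a * z} : Set G)) :
    (⟨a * z, hm⟩ : ↥(centralizer ({a * z} : Set G))) ∈
      commutator ↥(centralizer ({a * z} : Set G)) := by
  have hJ : ∀ x ∈ oc z, x ∈ centralizer ({a * z} : Set G) := fun x hx =>
    mem_centralizer_singleton_iff.2
      (((h.centre a h.a_mem).2 (Or.inl (Or.inr (Or.inl rfl))) x hx).symm.mul_right (h.comm_z hx)).eq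
  obtain ⟨x, hx, y, hy, e⟩ := h.exists_comm_eq_z
  obtain ⟨s, hs, hsa, hsb⟩ := h.swap
  have hsC : s ∈ centralizer ({a * z} : Set G) :=
    mem_centralizer_singleton_iff.2 (hsa.mul_right (mem_centralizer_singleton_iff.1 hs)).eq
  open scoped commutatorElement in
  have key : (⟨a * z, hm⟩ : ↥(centralizer ({a * z} : Set G))) =
      ⁅(⟨s, hsC⟩ : ↥(centralizer ({a * z} : Set G))), ⟨b, hJ b h.b_mem⟩⁆ *
        ⁅(⟨x, hJ x hx⟩ : ↥(centralizer ({a * z} : Set G))), ⟨y, hJ y hy⟩⁆ := by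
    refine Subtype.ext ?_
    simp only [Subgroup.coe_mul, commutatorElement_def, Subgroup.coe_inv]
    rw [e, hsb, mul_assoc a b, mul_inv_cancel, mul_one]
  rw [key]
  exact mul_mem (commutator_mem_commutator (mem_top _) (mem_top _))
    (commutator_mem_commutator (mem_top _) (mem_top _))

/-- A quotient `Fi₂₂` gives `Fi₂₃`. -/
theorem fi23_of_quot (h : Hyp3 z a b) (e : Cfsg.Spor.IsoFi22 (Qa (a * z))) :
    Cfsg.Spor.IsoFi23 G := by
  have hord : orderOf (a * z) = 2 := orderOf_eq_prime (by rw [_root_.sq, h.az_sq]) fun e' => by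
    refine h.z_notW (Or.inr (Or.inl ?_))
    calc z = a * a * z := by rw [h.aa, one_mul]
      _ = a := by rw [mul_assoc, e', mul_one]
  refine fi23_of_fi22 (a * z) hord e h.az_mem_commutator ?_
  obtain ⟨k, hk, hka⟩ := h.trans b (Or.inl rfl)
  have hkz : k * (a * z) * k⁻¹ = b * z := by
    rw [show k * (a * z) * k⁻¹ = k * a * k⁻¹ * (k * z * k⁻¹) by group, hka, h.conj_z hk]
  refine ⟨k, mem_centralizer_singleton_iff.2 ?_, fun e' => h.ab_ne ?_⟩
  · rw [hkz]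
    exact (((h.comm_ab.symm.mul_right (h.comm_z h.b_mem)).mul_left
      (((h.comm_z h.a_mem).symm).mul_right (Commute.refl z)))).eq
  · rw [hkz] at e'
    exact (mul_right_cancel e').symm

theorem Hyp3.z_mem_caz (h : Hyp3 z a b) : z ∈ centralizer ({a * z} : Set G) :=
  mem_centralizer_singleton_iff.2 ((h.comm_z h.a_mem).symm.mul_right (Commute.refl z)).eq

/-- The dichotomy at `a * z` from the setting of its quotient. -/
theorem iso_or_fi23_of (h : Hyp3 z a b) {bb : Qa (a * z)}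
    (hH : Fi22Two.Hyp (QuotientGroup.mk ⟨z, h.z_mem_caz⟩ : Qa (a * z)) bb)
    (hE : ∃ E : Subgroup (Qa (a * z)), E ≤ oc (QuotientGroup.mk ⟨z, h.z_mem_caz⟩ : Qa (a * z)) ∧
      IsExtraspecial 2 ↥E ∧ Nat.card ↥E = 512 ∧ bb ∉ E ∧
        bb * (QuotientGroup.mk ⟨z, h.z_mem_caz⟩ : Qa (a * z)) ∉ E)
    (hf : ¬ Fi22Two.Fixed (QuotientGroup.mk ⟨z, h.z_mem_caz⟩ : Qa (a * z)) bb) :
    IsoIn z (a * z) ∨ Cfsg.Spor.IsoFi23 G := by
  rcases Fi22Two.main_swap hH hE hf with hd | hq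
  · refine Or.inl (isoIn_of_quot h.az_sq h.zz h.z_mem_caz hd fun g hg =>
      (h.not_conj (Or.inr (Or.inl rfl)) h.a_ne).1 (isConj_iff.2 ⟨g, ?_⟩))
    rw [hg, mul_assoc, h.zz, mul_one]
  · exact Or.inr (fi23_of_quot h hq)

/-- Either `z` is isolated in the centraliser of `a * z` or the group is `Fi₂₃`. -/
theorem iso_or_fi23 (h : Hyp3 z a b) : IsoIn z (a * z) ∨ Cfsg.Spor.IsoFi23 G := by
  have hu : a * z = a ∨ a * z = a * z := Or.inr rfl
  exact iso_or_fi23_of h (hyp_quot h hu) (ext_quot h hu) (not_fixed_quot h)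

end Cfsg.Agent.Fi23Two
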