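import Cfsg.Agent.Fi23Two.Basic
import Cfsg.Agent.Fi22Two.Types
import Cfsg.Agent.Fi22Two.Conj

/-!
# Coordinates from the quotient of `C a` by `a`
-/

set_option autoImplicit false
set_option linter.unusedSectionVars false

open Cfsg Subgroup

namespace Cfsg.Agent.Fi23Two

open Cfsg.Agent.LargeExtra Cfsg.Agent.U62Rec
open Cfsg.Agent.Fi22Two (Qa Na mem_zpowers_two cza Mod2 InnerCode innerCode_iff mod2_fixed inner)

variable {G : Type*} [Group G] [Finite G] {z a b : G}

/-- The coordinates. -/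
theorem mod3_of (h : Hyp3 z a b) {zb bb : Qa a} (hzm : z ∈ centralizer ({a} : Set G))
    (hbm : b ∈ centralizer ({a} : Set G))
    (hzb : zb = QuotientGroup.mk ⟨z, hzm⟩) (hbb : bb = QuotientGroup.mk ⟨b, hbm⟩)
    (hH : Fi22Two.Hyp zb bb) (hf : Fi22Two.Fixed zb bb) (hx : Fi22Two.Extra zb bb)
    (hoc : ∀ g : ↥(centralizer ({a} : Set G)), (QuotientGroup.mk g : Qa a) ∈ oc zb ↔ (g : G) ∈ oc z) :
    ∃ c ∈ outerCfgs, ∃ M : Mod3 ⟨c.1, c.2⟩ z a b,
      ∀ y ∈ cza z a, InnerCode ⟨c.1, c.2⟩ (M.rho y) ↔ Commute y b := by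
  classical
  obtain ⟨c, hc, ⟨M⟩⟩ := mod2_fixed hH hx hf
  have hJC : oc z ≤ centralizer ({a} : Set G) := fun j hj => mem_centralizer_singleton_iff.2
    (((h.centre a h.a_mem).2 (Or.inl (Or.inr (Or.inl rfl)))) j hj).symm.eq
  have hmk : ∀ x y : ↥(centralizer ({a} : Set G)),
      (QuotientGroup.mk x : Qa a) = QuotientGroup.mk y ↔ (y : G) = x ∨ (y : G) = x * a := by
    intro x y
    rw [QuotientGroup.eq, mem_subgroupOf, mem_zpowers_two h.aa]
    simp only [coe_mul, coe_inv, inv_mul_eq_iff_eq_mul, mul_one]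
  have hza : Commute z a := (h.comm_z h.a_mem).symm
  have hcent : ∀ g : ↥(centralizer ({a} : Set G)),
      (QuotientGroup.mk g : Qa a) ∈ centralizer ({zb} : Set (Qa a)) ↔ (g : G) ∈ centralizer ({z} : Set G) := by
    intro g
    rw [hzb, mem_centralizer_singleton_iff, mem_centralizer_singleton_iff, ← QuotientGroup.mk_mul,
      ← QuotientGroup.mk_mul, hmk]
    simp only [coe_mul]
    refine ⟨fun e => e.elim Eq.symm fun e => ?_, fun e => Or.inl e.symm⟩
    refine absurd (isConj_iff.2 ⟨(g : G)⁻¹, ?_⟩) (h.not_conj (Or.inr (Or.inl rfl)) h.a_ne).2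
    calc (g : G)⁻¹ * z * (g : G)⁻¹⁻¹ = (g : G)⁻¹ * (z * g) := by group
      _ = (g : G)⁻¹ * (g * z * a) := by rw [e]
      _ = a * z := by rw [mul_assoc (g : G), inv_mul_cancel_left, hza.eq]
  have hdom : ∀ (g : G) (hg : g ∈ cza z a),
      (QuotientGroup.mk (⟨g, hg.2⟩ : ↥(centralizer ({a} : Set G))) : Qa a) ∈
        centralizer ({zb} : Set (Qa a)) ⊓ centralizer ({bb} : Set (Qa a)) := fun g hg => by
    have h1 := (hcent ⟨g, hg.2⟩).2 hg.1
    exact ⟨h1, mem_centralizer_singleton_iff.2 (hf _ h1).eq⟩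
  let mk : ∀ g : G, g ∈ centralizer ({a} : Set G) → Qa a := fun g hg => QuotientGroup.mk ⟨g, hg⟩
  let bar : G → ℕ := fun g => if hg : g ∈ centralizer ({a} : Set G) then M.bar (mk g hg) else 0
  let rho : G → ℕ := fun g => if hg : g ∈ centralizer ({a} : Set G) then M.rho (mk g hg) else idm
  have hbar : ∀ {g : G} (hg : g ∈ centralizer ({a} : Set G)), bar g = M.bar (mk g hg) := fun hg => dif_pos hg
  have hrho : ∀ {g : G} (hg : g ∈ centralizer ({a} : Set G)), rho g = M.rho (mk g hg) := fun hg => dif_pos hg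
  have hJ : ∀ {g : G} (hg : g ∈ oc z), mk g (hJC hg) ∈ oc zb := fun hg => (hoc _).2 hg
  have hone : ∀ {g : G} (hg : g ∈ centralizer ({a} : Set G)), g = 1 ∨ g = z → ∀ t : Bool,
      mk g hg = (if t then zb else 1) → g = if t then z else 1 := by
    intro g hg hg2 t e
    cases t
    · simp only [Bool.false_eq_true, if_false] at e ⊢
      rw [QuotientGroup.eq_one_iff, mem_subgroupOf, mem_zpowers_two h.aa] at e
      rcases e with e | e
      · exact e
      · exact hg2.resolve_right fun e' => h.z_notW (Or.inr (Or.inl (e'.symm.trans e)))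
    · simp only [if_true] at e ⊢
      refine hg2.resolve_left fun e' => hH.ordz.symm ▸ (by decide : (2 : ℕ) ≠ 1) <| ?_
      rw [← e, orderOf_eq_one_iff]
      exact (QuotientGroup.eq_one_iff _).2 (mem_subgroupOf.2 (e' ▸ one_mem _))
  have hbz : bb * zb = QuotientGroup.mk (⟨b, hbm⟩ * ⟨z, hzm⟩ : ↥(centralizer ({a} : Set G))) := by
    rw [hbb, hzb]; rfl
  have hab := h.comm_ab.eq
  have h0 : ∀ g : ↥(centralizer ({a} : Set G)), ((QuotientGroup.mk g : Qa a) = 1 ∨
      (QuotientGroup.mk g : Qa a) = zb ∨ (QuotientGroup.mk g : Qa a) = bb ∨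
      (QuotientGroup.mk g : Qa a) = bb * zb) ↔ InZ z a b (g : G) := by
    intro g
    have h1 : (QuotientGroup.mk g : Qa a) = 1 ↔ (g : G) = 1 ∨ (g : G) = a := by
      rw [QuotientGroup.eq_one_iff, mem_subgroupOf, mem_zpowers_two h.aa]
    rw [h1, hbz, hzb, hbb, eq_comm (a := (QuotientGroup.mk g : Qa a)), hmk,
      eq_comm (a := (QuotientGroup.mk g : Qa a)), hmk, eq_comm (a := (QuotientGroup.mk g : Qa a)), hmk]
    simp only [coe_mul, InZ, InW]
    have hz : ∀ x : G, (g : G) * z = x ↔ (g : G) = x * z := fun x =>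
      ⟨fun e => by rw [← e, mul_assoc, h.zz, mul_one], fun e => by rw [e, mul_assoc, h.zz, mul_one]⟩
    rw [hz, hz, hz, hz, one_mul, hza.eq, ← hab,
      show b * z * a = a * b * z by rw [mul_assoc, hza.eq, ← mul_assoc, ← hab]]
    tauto
  refine ⟨c, hc, ⟨bar, rho, ?_, ?_, ?_, ?_, ?_, ?_, ?_, ?_, ?_, ?_, ?_, ?_⟩, ?_⟩
  · intro g
    simp only [bar]; split
    · exact M.bar_lt _
    · norm_num
  · intro g hg k hk
    rw [hbar (hJC hg), hbar (hJC hk), hbar (hJC (mul_mem hg hk))]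
    exact M.bar_mul _ (hJ hg) _ (hJ hk)
  · intro g hg
    rw [hbar (hJC hg), M.bar_eq _ (hJ hg)]
    exact h0 ⟨g, hJC hg⟩
  · intro v hv
    obtain ⟨q, hq, hqv⟩ := M.bar_surj v hv
    obtain ⟨⟨g, hg⟩, rfl⟩ := QuotientGroup.mk_surjective q
    exact ⟨g, (hoc _).1 hq, (hbar hg).trans hqv⟩
  · intro g hg
    rw [hbar (hJC hg)]
    exact hone (hJC (mul_mem hg hg)) (h.sq g hg) _ (M.sq _ (hJ hg))
  · intro g hg k hk
    rw [hbar (hJC hg), hbar (hJC hk)]
    exact hone (hJC (mul_mem (mul_mem (mul_mem hg hk) (inv_mem hg)) (inv_mem hk)))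
      (h.comm g hg k hk) _ (M.comm _ (hJ hg) _ (hJ hk))
  · intro g
    simp only [rho]; split
    · exact M.rho_code _
    · exact isCode_idm
  · intro g hg k hk
    rw [hrho hg.2, hrho hk.2, hrho (mul_mem hg hk).2]
    exact M.rho_mul _ (hdom g hg) _ (hdom k hk)
  · intro g hg k hk
    rw [hrho hg.2, hbar (hJC hk), hbar (hJC (oc_conj_mem hg.1 hk))]
    exact M.rho_act _ (hdom g hg) _ (hJ hk)
  · intro g hg
    rw [hrho hg.2, M.rho_ker _ (hdom g hg)]
    exact hoc _
  · intro g hg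
    rw [hrho hg.2]
    exact M.rho_gen _ (hdom g hg)
  · intro m hm
    obtain ⟨q, hq, hqm⟩ := M.rho_surj m hm
    obtain ⟨⟨g, hg⟩, rfl⟩ := QuotientGroup.mk_surjective q
    exact ⟨g, ⟨(hcent _).1 hq.1, hg⟩, (hrho hg).trans hqm⟩
  · -- the inner part is the centraliser of `b`
    intro y hy
    show InnerCode ⟨c.1, c.2⟩ (rho y) ↔ Commute y b
    rw [hrho hy.2, innerCode_iff hc hH hf M (hdom y hy).1]
    set Cz := centralizer ({zb} : Set (Qa a))
    have hfix : ∀ g : G, g ∈ cza z a → g * b * g⁻¹ = b ∨ g * b * g⁻¹ = a * b := by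
      intro g hg
      have hga : g * a * g⁻¹ = a := mul_inv_eq_iff_eq_mul.2 (mem_centralizer_singleton_iff.1 hg.2)
      rcases (h.stab hg.1 b).1 (Or.inr (Or.inr (Or.inl rfl))) with e | e | e | e
      · exact absurd (conj_eq_one_iff.1 e) h.b_ne
      · exact absurd (mul_left_cancel (mul_right_cancel (hga.trans e.symm))) h.ab_ne
      · exact Or.inl e
      · exact Or.inr e
    let N : Subgroup ↥(cza z a) := (centralizer ({b} : Set G)).subgroupOf (cza z a)
    have hN : N.index ≤ 2 := by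
      obtain ⟨s, hs, hsa, hsb⟩ := h.swap
      have hsm : s ∈ cza z a := ⟨hs, mem_centralizer_singleton_iff.2 hsa.eq⟩
      refine le_of_eq (index_eq_two_iff.2 ⟨⟨s, hsm⟩, fun g => ?_⟩)
      have hiff : ∀ u : ↥(cza z a), u ∈ N ↔ (u : G) * b * (u : G)⁻¹ = b := fun u => by
        rw [mem_subgroupOf, mem_centralizer_singleton_iff, mul_inv_eq_iff_eq_mul]
      have hne : a * b ≠ b := fun e => h.a_ne (mul_eq_right.1 e)
      rw [hiff, hiff, coe_mul, show (g : G) * s * b * ((g : G) * s)⁻¹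
        = (g : G) * (s * b * s⁻¹) * (g : G)⁻¹ by group, hsb,
        show (g : G) * (a * b) * (g : G)⁻¹ = (g : G) * a * (g : G)⁻¹ * ((g : G) * b * (g : G)⁻¹) by group,
        mul_inv_eq_iff_eq_mul.2 (mem_centralizer_singleton_iff.1 g.2.2 : (g : G) * a = a * (g : G))]
      rcases hfix _ g.2 with e | e <;> rw [e]
      · exact Or.inr ⟨rfl, hne⟩
      · exact Or.inl ⟨by rw [← mul_assoc, h.aa, one_mul], hne⟩
    have hNn : N.Normal := by
      rcases Nat.lt_or_ge N.index 2 with h2 | h2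
      · have h0' : N.index ≠ 0 := index_ne_zero_of_finite
        rw [index_eq_one.1 (show N.index = 1 by omega)]
        infer_instance
      · exact normal_of_index_eq_two (le_antisymm hN h2)
    let φ : ↥(cza z a) →* ↥Cz :=
      MonoidHom.mk' (fun g => ⟨QuotientGroup.mk ⟨(g : G), g.2.2⟩, (hcent _).2 g.2.1⟩) fun g k => rfl
    have hφ : Function.Surjective φ := by
      rintro ⟨q, hq⟩
      obtain ⟨g, rfl⟩ := QuotientGroup.mk_surjective q
      exact ⟨⟨g, (hcent g).1 hq, g.2⟩, rfl⟩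
    have hker : φ.ker ≤ N := by
      intro g hg
      have h1 : (QuotientGroup.mk (⟨(g : G), g.2.2⟩ : ↥(centralizer ({a} : Set G))) : Qa a) = 1 :=
        congrArg Subtype.val (MonoidHom.mem_ker.1 hg)
      rw [QuotientGroup.eq_one_iff, mem_subgroupOf, mem_zpowers_two h.aa] at h1
      refine mem_subgroupOf.2 (mem_centralizer_singleton_iff.2 ?_)
      rcases h1 with e | e <;> rw [show (g : G) = _ from e]
      exacts [(Commute.one_left b).eq, hab]
    have hle : (inner zb).subgroupOf Cz ≤ N.map φ := by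
      rw [Fi22Two.inner_subgroupOf, sup_le_iff]
      refine ⟨?_, fun q hq => ?_⟩
      · rw [_root_.commutator_def, ← map_top_of_surjective φ hφ, ← map_commutator]
        refine map_mono (commutator_le.2 fun p _ q _ => ?_)
        rcases Nat.lt_or_ge N.index 2 with h2 | h2
        · have h0' : N.index ≠ 0 := index_ne_zero_of_finite
          rw [index_eq_one.1 (show N.index = 1 by omega)]; exact mem_top _
        · have hi2 : N.index = 2 := le_antisymm hN h2
          rw [commutatorElement_def]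
          simp only [Subgroup.mul_mem_iff_of_index_two hi2, inv_mem_iff]
          tauto
      · obtain ⟨g, rfl⟩ := hφ q
        have h1 : (φ g : Qa a) ∈ oc zb := ⟨φ g, hq, rfl⟩
        have hg : (g : G) ∈ oc z := (hoc _).1 h1
        refine mem_map_of_mem φ (mem_subgroupOf.2 (mem_centralizer_singleton_iff.2 ?_))
        exact (((h.centre b h.b_mem).2 (Or.inl (Or.inr (Or.inr (Or.inl rfl))))) _ hg).symm.eq
    have hin : ∀ g (hg : g ∈ cza z a), mk g hg.2 ∈ inner zb → Commute g b := by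
      intro g hg hi
      obtain ⟨k, hk, e⟩ := hle (show φ ⟨g, hg⟩ ∈ (inner zb).subgroupOf Cz from mem_subgroupOf.2 hi)
      have h1 : k⁻¹ * ⟨g, hg⟩ ∈ φ.ker := by rw [MonoidHom.mem_ker, map_mul, map_inv, e, inv_mul_cancel]
      have h2 : (⟨g, hg⟩ : ↥(cza z a)) ∈ N := by
        have := mul_mem hk (hker h1); rwa [mul_inv_cancel_left] at this
      exact mem_centralizer_singleton_iff.1 (mem_subgroupOf.1 h2)
    refine ⟨hin y hy, fun hyb => ?_⟩
    by_contra hni
    obtain ⟨s, hs, hsa, hsb⟩ := h.swap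
    have hsm : s ∈ cza z a := ⟨hs, mem_centralizer_singleton_iff.2 hsa.eq⟩
    have hsni : mk s hsm.2 ∉ inner zb := fun e => by
      have := mul_inv_eq_iff_eq_mul.2 (hin s hsm e).eq
      exact h.a_ne (mul_eq_right.1 (hsb.symm.trans this))
    have hys : mk (y * s) (mul_mem hy hsm).2 ∈ inner zb :=
      (hH.mul_mem_inner_iff (hdom y hy).1 (hdom s hsm).1).2 (iff_of_false hni hsni)
    have h1 := hin _ (mul_mem hy hsm) hys
    have h2 : Commute s b := by
      have := hyb.inv_left.mul_left h1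
      rwa [inv_mul_cancel_left] at this
    exact h.a_ne (mul_eq_right.1 (hsb.symm.trans (mul_inv_eq_iff_eq_mul.2 h2.eq)))

end Cfsg.Agent.Fi23Two
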