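import Cfsg.Agent.Fi23Two.Basic
import Mathlib.GroupTheory.Sylow

/-!
# Replacing a pair by one where an element of the four-group commutes with the conjugate
-/

set_option autoImplicit false
set_option linter.unusedSectionVars false

open Cfsg Subgroup

namespace Cfsg.Agent.Fi23Two

open Cfsg.Agent.LargeExtra
open Cfsg.Agent.Fi22Two (cza)

variable {G : Type*} [Group G] [Finite G] {z a b g : G}

/-- A conjugate of `z` or of `a * z` commutes with `b`. -/
def Usable (z a b g : G) : Prop :=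
  Commute (g * z * g⁻¹) b ∨ Commute (g * (a * z) * g⁻¹) b

theorem commute_conj {g x y : G} (e : Commute x y) : Commute (g * x * g⁻¹) (g * y * g⁻¹) :=
  (SemiconjBy.map e (MulAut.conj g).toMonoidHom : _)

theorem commute_conj_iff {g x y : G} : Commute (g * x * g⁻¹) y ↔ Commute x (g⁻¹ * y * g) := by
  constructor
  · intro e
    have := commute_conj (g := g⁻¹) e
    simpa [mul_assoc] using this
  · intro e
    have := commute_conj (g := g) e
    simpa [mul_assoc] using this

theorem Good3.inv' (P : Good3 z a b g) : Good3 z a b g⁻¹ := by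
  refine ⟨?_, fun hg => P.out ((inv_mem_iff).1 hg), ?_, ?_⟩
  · rw [commute_conj_iff, inv_inv]; exact P.cz.symm
  · rw [commute_conj_iff, inv_inv]; exact P.za
  · have := (commute_conj_iff.1 P.ca).symm
    rw [inv_inv]; exact this.symm

theorem usable_inv : Usable z a b g⁻¹ ↔
    Commute z (g * b * g⁻¹) ∨ Commute (a * z) (g * b * g⁻¹) := by
  rw [Usable, commute_conj_iff, commute_conj_iff, inv_inv]

theorem Hyp3.moved_b (h : Hyp3 z a b) {w : G} (hw : Commute w z) (ha : w * a * w⁻¹ = a)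
    (hb : ¬ Commute w b) : w * b * w⁻¹ = a * b := by
  rcases (mem_nrm.1 (h.stab (mem_centralizer_singleton_iff.2 hw)) b).1
    (Or.inr (Or.inr (Or.inl rfl))) with e | e | e | e
  · exact absurd (conj_eq_one_iff.1 e) h.b_ne
  · exfalso
    apply h.ab_ne
    calc a = w⁻¹ * (w * a * w⁻¹) * w := by group
      _ = w⁻¹ * (w * b * w⁻¹) * w := by rw [ha, e]
      _ = b := by group
  · exact absurd (mul_inv_eq_iff_eq_mul.1 e) hb
  · exact e

/-- In a pair that is not usable the conjugate of `a` centralises the four-group. -/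
theorem Good3.comm_of_not_usable (h : Hyp3 z a b) (P : Good3 z a b g)
    (hu : ¬ Usable z a b g) : Commute (g * a * g⁻¹) a ∧ Commute (g * a * g⁻¹) b := by
  rw [Usable, not_or] at hu
  set w := g * z * g⁻¹ with hwdef
  set a' := g * a * g⁻¹ with hadef
  have hwa : w * a * w⁻¹ = a := mul_inv_eq_iff_eq_mul.2 P.ca.eq
  have hwb : w * b * w⁻¹ = a * b := h.moved_b P.cz hwa hu.1
  have hwa' : Commute w a' := commute_conj (h.comm_z h.a_mem).symm
  have hN := mem_nrm.1 (h.stab (mem_centralizer_singleton_iff.2 P.za.symm))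
  have hca : Commute a' a := by
    have hx : w * (a' * a * a'⁻¹) * w⁻¹ = a' * a * a'⁻¹ :=
      calc w * (a' * a * a'⁻¹) * w⁻¹ = w * a' * a * (w * a')⁻¹ := by group
        _ = a' * w * a * (a' * w)⁻¹ := by rw [hwa'.eq]
        _ = a' * (w * a * w⁻¹) * a'⁻¹ := by group
        _ = a' * a * a'⁻¹ := by rw [hwa]
    rcases (hN a).1 (Or.inr (Or.inl rfl)) with e | e | e | e
    · exact absurd (conj_eq_one_iff.1 e) h.a_ne
    · exact mul_inv_eq_iff_eq_mul.1 e
    · exfalso; rw [e, hwb] at hx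
      exact h.a_ne (mul_eq_right.1 hx)
    · exfalso; rw [e] at hx
      have : w * (a * b) * w⁻¹ = b := by
        rw [show w * (a * b) * w⁻¹ = w * a * w⁻¹ * (w * b * w⁻¹) by group, hwa, hwb, ← mul_assoc,
          h.aa, one_mul]
      rw [this] at hx
      exact h.a_ne (mul_eq_right.1 hx.symm)
  refine ⟨hca, ?_⟩
  by_contra hnb
  have hb' := h.moved_b P.za.symm (mul_inv_eq_iff_eq_mul.2 hca.eq) hnb
  refine hu.2 ?_
  have hd : g * (a * z) * g⁻¹ = a' * w := by rw [hwdef, hadef]; group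
  have : a' * w * b * (a' * w)⁻¹ = b :=
    calc a' * w * b * (a' * w)⁻¹ = a' * (w * b * w⁻¹) * a'⁻¹ := by group
      _ = a' * (a * b) * a'⁻¹ := by rw [hwb]
      _ = a' * a * a'⁻¹ * (a' * b * a'⁻¹) := by group
      _ = b := by rw [mul_inv_eq_iff_eq_mul.2 hca.eq, hb', ← mul_assoc, h.aa, one_mul]
  rw [hd]
  exact mul_inv_eq_iff_eq_mul.1 this

/-- An element of `C a` that brings a pair into a usable one. -/
theorem Good3.step (h : Hyp3 z a b) (hS : ∃ S : Sylow 2 G, (S : Subgroup G) ≤ cza z a)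
    (hC : centralizer ({a} : Set G) ≤ nrm a b) (P : Good3 z a b g) (hu : ¬ Usable z a b g) :
    ∃ g', Good3 z a b g' ∧ Usable z a b g' ∧ (Usable z a b g⁻¹ → Usable z a b g'⁻¹) := by
  obtain ⟨hca, hcb⟩ := P.comm_of_not_usable h hu
  set a' := g * a * g⁻¹ with hadef
  obtain ⟨S, hS⟩ := hS
  set C := centralizer ({a'} : Set G) with hCdef
  set T := g • S with hTdef
  have hTw : ∀ x ∈ (T : Subgroup G), Commute x (g * z * g⁻¹) ∧ Commute x a' := fun x hx => by
    rw [hTdef, Sylow.coe_subgroup_smul] at hx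
    obtain ⟨s, hs, rfl⟩ := hx
    have hsc := hS hs
    exact ⟨commute_conj (mem_centralizer_singleton_iff.1 hsc.1),
      commute_conj (mem_centralizer_singleton_iff.1 hsc.2)⟩
  have hTC : (T : Subgroup G) ≤ C := fun x hx => mem_centralizer_singleton_iff.2 (hTw x hx).2
  have hJ : IsPGroup 2 ↥(oc z) := IsPGroup.of_card (n := 11) (by rw [h.card]; norm_num)
  set P2 : Subgroup ↥C := (oc z).subgroupOf C with hP2
  have hP2p : IsPGroup 2 ↥P2 := hJ.comap_of_injective _ C.subtype_injective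
  obtain ⟨Q, hQ⟩ := hP2p.exists_le_sylow
  obtain ⟨y, hy⟩ := MulAction.exists_smul_eq (↥C) Q (T.subtype hTC)
  have hmove : ∀ x ∈ oc z, Commute x a' → Commute ((y : G)⁻¹ * (g * z * g⁻¹) * y) x := by
    intro x hx hxa
    have hm : (⟨x, mem_centralizer_singleton_iff.2 hxa⟩ : ↥C) ∈ (Q : Subgroup ↥C) :=
      hQ (mem_subgroupOf.2 hx)
    have hm' : y * ⟨x, mem_centralizer_singleton_iff.2 hxa⟩ * y⁻¹ ∈
        ((T.subtype hTC : Sylow 2 ↥C) : Subgroup ↥C) := by
      rw [← hy, Sylow.coe_subgroup_smul]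
      exact ⟨_, hm, rfl⟩
    rw [Sylow.coe_subtype, mem_subgroupOf] at hm'
    have := (hTw _ hm').1
    simp only [Subgroup.coe_mul, Subgroup.coe_inv] at this
    rw [commute_conj_iff] at this
    exact this.symm
  have hyc : Commute (y : G) a' := mem_centralizer_singleton_iff.1 y.2
  have hga : (y : G)⁻¹ * g * a * ((y : G)⁻¹ * g)⁻¹ = a' :=
    calc (y : G)⁻¹ * g * a * ((y : G)⁻¹ * g)⁻¹ = (y : G)⁻¹ * a' * y := by rw [hadef]; group
      _ = a' := by rw [mul_assoc, ← hyc.eq, inv_mul_cancel_left]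
  have hgz : (y : G)⁻¹ * g * z * ((y : G)⁻¹ * g)⁻¹ = (y : G)⁻¹ * (g * z * g⁻¹) * y := by group
  refine ⟨(y : G)⁻¹ * g, ⟨?_, ?_, ?_, ?_⟩, Or.inl ?_, fun hinv => ?_⟩
  · rw [hgz]; exact hmove z h.z_mem P.za
  · intro hn
    have hW : InW a b a' := hga ▸ (mem_nrm.1 hn a).1 (Or.inr (Or.inl rfl))
    obtain ⟨c, hc, hca'⟩ : ∃ c ∈ centralizer ({z} : Set G), c * a * c⁻¹ = a' := by
      rcases hW with e | e | e | e
      · exact absurd (conj_eq_one_iff.1 e) h.a_ne
      · exact ⟨1, one_mem _, by rw [e]; group⟩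
      · rw [e]; exact h.trans b (Or.inl rfl)
      · rw [e]; exact h.trans (a * b) (Or.inr rfl)
    refine P.out ?_
    rw [show g = c * (c⁻¹ * g) by group]
    refine mul_mem (h.stab hc) (hC (mem_centralizer_singleton_iff.2 ?_))
    refine mul_inv_eq_iff_eq_mul.1 ?_
    calc c⁻¹ * g * a * (c⁻¹ * g)⁻¹ = c⁻¹ * a' * c := by rw [hadef]; group
      _ = a := by rw [← hca']; group
  · rw [hgz]; exact hmove a h.a_mem hca.symm
  · rw [hga]; exact P.za
  · rw [hgz]; exact hmove b h.b_mem hcb.symm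
  · set n := g⁻¹ * ((y : G)⁻¹ * g) with hndef
    have hna : n * a * n⁻¹ = a :=
      calc n * a * n⁻¹ = g⁻¹ * ((y : G)⁻¹ * g * a * ((y : G)⁻¹ * g)⁻¹) * g := by rw [hndef]; group
        _ = a := by rw [hga, hadef]; group
    have hnN : n ∈ nrm a b := hC (mem_centralizer_singleton_iff.2 (mul_inv_eq_iff_eq_mul.1 hna))
    have hgb : (y : G)⁻¹ * g * b * ((y : G)⁻¹ * g)⁻¹ = g * (n * b * n⁻¹) * g⁻¹ := by
      rw [hndef]; group
    rw [usable_inv] at hinv ⊢
    have hmv : ∀ u, Commute u a' → Commute u (g * b * g⁻¹) →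
        Commute u (g * (n * b * n⁻¹) * g⁻¹) := fun u h1 h2 => by
      rcases (mem_nrm.1 hnN b).1 (Or.inr (Or.inr (Or.inl rfl))) with e | e | e | e <;> rw [e]
      · simp
      · exact h1
      · exact h2
      · rw [show g * (a * b) * g⁻¹ = a' * (g * b * g⁻¹) by rw [hadef]; group]
        exact h1.mul_right h2
    rw [hgb]
    exact hinv.imp (hmv z P.za) (hmv (a * z) (hca.symm.mul_left P.za))

/-- Both directions can be made usable at the same time. -/
theorem exists_usable_of_sylow (h : Hyp3 z a b) (hS : ∃ S : Sylow 2 G, (S : Subgroup G) ≤ cza z a)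
    (hC : centralizer ({a} : Set G) ≤ nrm a b) (P : Good3 z a b g) :
    ∃ g', Good3 z a b g' ∧ Usable z a b g' ∧ Usable z a b g'⁻¹ := by
  obtain ⟨g₁, P₁, h₁⟩ : ∃ g₁, Good3 z a b g₁ ∧ Usable z a b g₁ := by
    by_cases hu : Usable z a b g
    · exact ⟨g, P, hu⟩
    · obtain ⟨g', h1, h2, -⟩ := P.step h hS hC hu
      exact ⟨g', h1, h2⟩
  by_cases hu : Usable z a b g₁⁻¹
  · exact ⟨g₁, P₁, h₁, hu⟩
  · obtain ⟨g', h1, h2, h3⟩ := P₁.inv'.step h hS hC hu
    exact ⟨g', h1, h2, h3 (by rwa [inv_inv])⟩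

/-- Both directions can be made usable at the same time. -/
theorem exists_usable (h : Hyp3 z a b) (hC : centralizer ({a} : Set G) ≤ nrm a b)
    (P : Good3 z a b g) : ∃ g', Good3 z a b g' ∧ Usable z a b g' ∧ Usable z a b g'⁻¹ :=
  exists_usable_of_sylow h h.exists_sylow hC P

end Cfsg.Agent.Fi23Two
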