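import Cfsg.Agent.Fi23Two.PairFacts
import Cfsg.Agent.Fi22Two.IsolatedTwisted

/-!
# A twisted pair is impossible

An element over the map of order three can be chosen to centralise the conjugate of `a * z`; it then
moves the conjugate of `z` to one whose product with it has odd order, against the order of the map.
-/

set_option autoImplicit false

open Cfsg Subgroup

namespace Cfsg.Agent.Fi23Two

open Cfsg.Agent.LargeExtra Cfsg.Agent.U62Rec Cfsg.Agent.Fi22Two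
open Cfsg.Agent.Fi22Two.Iso (com com_mem)

variable {G : Type*} [Group G] [Finite G] {z a b g : G}

/-- The twisted case of the pair check does not occur. -/
theorem Good3.not_twisted (h : Standing3 z a b) (P : Good3 z a b g) {C : Cfg} (M : Mod3 C z a b) :
    ¬ Twisted C (M.rho (g * (a * z) * g⁻¹)) (M.rho (g * z * g⁻¹)) (ulist M g) := by
  set u := g * (a * z) * g⁻¹ with hudef
  set w := g * z * g⁻¹ with hwdef
  rintro ⟨hfixU, c, hcg, hc3, hcq, hy1, hy4⟩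
  have hutr : Tr3 z a g u := Or.inr (Or.inl rfl)
  have hwtr : Tr3 z a g w := Or.inl rfl
  have hum := P.tr_mem h hutr
  have hwm := P.tr_mem h hwtr
  have huu := P.tr_sq h hutr
  have hui : u⁻¹ = u := inv_eq_of_mul_eq_one_right huu
  obtain ⟨d₀, hd₀, rfl⟩ := M.lift hcg
  -- the error of the lift
  set t := d₀ * u * d₀⁻¹ * u⁻¹ with ht
  have htJ : t ∈ oc z := by
    rw [ht, ← M.rho_ker _ (mul_mem (mul_mem (mul_mem hd₀ hum) (inv_mem hd₀)) (inv_mem hum)),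
      M.rho_mul _ (mul_mem (mul_mem hd₀ hum) (inv_mem hd₀)) _ (inv_mem hum),
      M.rho_mul _ (mul_mem hd₀ hum) _ (inv_mem hd₀), M.rho_mul _ hd₀ _ hum, hcq,
      cmp_assoc (M.rho u) (M.rho d₀), M.rcancel hd₀, cmp_idm (M.rho_code u), M.rcancel hum]
  have htfix : app (M.rho u) (M.bar t) = M.bar t := by
    rw [← M.rho_act u hum t htJ, ← M.binv h.hyp htJ]
    congr 1
    rw [ht]; simp [mul_assoc, hui, huu]
  obtain ⟨x0, hx0, hx0t⟩ := (hfixU _ (M.bar_lt t) htfix).2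
  obtain ⟨j, hj, rfl⟩ := M.bar_surj x0 hx0
  have hcj : com u j ∈ oc z := com_mem hum.1 hj
  set f := com u j * t with hf
  have hfZ : InZ z a b f := by
    rw [← M.bar_eq _ (mul_mem hcj htJ), M.bar_mul _ hcj _ htJ, bar_com3 h.hyp M hum hj, hx0t,
      Nat.xor_self]
  have hfu : InZ z a b (u * f * u⁻¹) := by
    have hδ : InZ z a b (u * f * u⁻¹ * f⁻¹) := by
      rcases h.hyp.com_inZ hum hfZ with e | e <;> rw [e]
      · exact Or.inl (Or.inl rfl)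
      · exact Or.inl (Or.inr (Or.inl rfl))
    simpa using h.hyp.inZ_mul hδ hfZ
  set d₁ := j⁻¹ * d₀ with hd₁
  have hjm : j⁻¹ ∈ cza z a := ⟨oc_le z (inv_mem hj), mem_centralizer_singleton_iff.2
    (h.hyp.inZ_comm (Or.inl (Or.inr (Or.inl rfl))) (inv_mem hj)).symm.eq⟩
  have hd₁m : d₁ ∈ cza z a := mul_mem hjm hd₀
  have hr₁ : M.rho d₁ = M.rho d₀ := by
    rw [hd₁, M.rho_mul _ hjm _ hd₀, (M.rho_ker _ hjm).2 (inv_mem hj), idm_cmp (M.rho_code d₀)]
  have hd₁u : d₁ * u * d₁⁻¹ = u * (u * f * u⁻¹) := by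
    have e1 : u * f * u⁻¹ * j = j * (u * f * u⁻¹) := (h.hyp.inZ_comm hfu hj).eq
    calc d₁ * u * d₁⁻¹ = j⁻¹ * (t * u) * j := by rw [hd₁, ht]; group
      _ = u * j⁻¹ * (u⁻¹ * f * u * j) := by rw [hf]; simp only [com]; group
      _ = u * (u * f * u⁻¹) := by
        rw [show u⁻¹ * f * u = u * f * u⁻¹ by rw [hui], e1]; group
  set f' := u * f * u⁻¹
  set δ := d₁ * f' * d₁⁻¹ * f'⁻¹ with hδdef
  have hδ : δ = 1 ∨ δ = a := h.hyp.com_inZ hd₁m hfu
  have h2 : d₁ ^ 2 * u * (d₁ ^ 2)⁻¹ = u * δ := by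
    have hδZ : InZ z a b δ := by
      rcases hδ with e | e <;> rw [e]
      exacts [Or.inl (Or.inl rfl), Or.inl (Or.inr (Or.inl rfl))]
    have hfm : f' ∈ oc z := h.hyp.inZ_mem hfu
    calc d₁ ^ 2 * u * (d₁ ^ 2)⁻¹ = d₁ * (d₁ * u * d₁⁻¹) * d₁⁻¹ := by rw [pow_two]; group
      _ = (d₁ * u * d₁⁻¹) * (d₁ * f' * d₁⁻¹) := by rw [conjm, ← hd₁u]
      _ = u * f' * (δ * f') := by rw [hd₁u, hδdef, inv_mul_cancel_right]
      _ = u * (f' * f') * δ := by rw [(h.hyp.inZ_comm hδZ hfm).eq]; simp only [mul_assoc]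
      _ = u * δ := by rw [h.hyp.inZ_sq hfu, mul_one]
  set d := d₁ ^ 4 with hddef
  have hdm : d ∈ cza z a := pow_mem hd₁m 4
  have hdu : Commute d u := by
    have hδa : d₁ ^ 2 * δ * (d₁ ^ 2)⁻¹ = δ := by
      have hc : Commute (d₁ ^ 2) a :=
        (show Commute d₁ a from mem_centralizer_singleton_iff.1 hd₁m.2).pow_left 2
      rcases hδ with e | e <;> rw [e]
      · group
      · rw [hc.eq, mul_inv_cancel_right]
    have hδ2 : δ * δ = 1 := by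
      rcases hδ with e | e <;> rw [e]
      exacts [one_mul 1, h.hyp.aa]
    refine mul_inv_eq_iff_eq_mul.1 ?_
    calc d * u * d⁻¹ = d₁ ^ 2 * (d₁ ^ 2 * u * (d₁ ^ 2)⁻¹) * (d₁ ^ 2)⁻¹ := by
          rw [hddef, show (4 : ℕ) = 2 + 2 from rfl, pow_add]; group
      _ = d₁ ^ 2 * u * (d₁ ^ 2)⁻¹ * (d₁ ^ 2 * δ * (d₁ ^ 2)⁻¹) := by rw [conjm, ← h2]
      _ = u := by rw [h2, hδa, mul_assoc, hδ2, mul_one]
  have h3 : d₁ * (d₁ * d₁) ∈ oc z := by
    refine (M.rho_ker _ (mul_mem hd₁m (mul_mem hd₁m hd₁m))).1 ?_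
    rw [M.rho_mul _ hd₁m _ (mul_mem hd₁m hd₁m), M.rho_mul _ hd₁m _ hd₁m, hr₁, hc3]
  have hrd : M.rho d = M.rho d₀ := by
    have : d = d₁ * (d₁ * d₁) * d₁ := by simp [hddef, pow_succ, mul_assoc]
    rw [this, M.rho_mul _ (mul_mem hd₁m (mul_mem hd₁m hd₁m)) _ hd₁m,
      (M.rho_ker _ (mul_mem hd₁m (mul_mem hd₁m hd₁m))).2 h3, idm_cmp (M.rho_code d₁), hr₁]
  -- the conjugate of `w` under `d`
  set s := d * w * d⁻¹ * w with hs
  have hsm : s ∈ cza z a := mul_mem (mul_mem (mul_mem hdm hwm) (inv_mem hdm)) hwm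
  have hinv : M.rho d⁻¹ = U62Rec.cmp (M.rho d) (M.rho d) := by
    calc M.rho d⁻¹ = U62Rec.cmp (M.rho d⁻¹)
          (U62Rec.cmp (M.rho d) (U62Rec.cmp (M.rho d) (M.rho d))) := by
          rw [hrd, hc3, cmp_idm (M.rho_code _)]
      _ = _ := by
          rw [← cmp_assoc, ← M.rho_mul _ (inv_mem hdm) d hdm, inv_mul_cancel, M.rone,
            idm_cmp (isCode_cmp _ _)]
  have hsrho : M.rho s = U62Rec.cmp (U62Rec.cmp (U62Rec.cmp (M.rho d₀) (M.rho w))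
      (U62Rec.cmp (M.rho d₀) (M.rho d₀))) (M.rho w) := by
    rw [hs, M.rho_mul _ (mul_mem (mul_mem hdm hwm) (inv_mem hdm)) w hwm,
      M.rho_mul _ (mul_mem hdm hwm) _ (inv_mem hdm), M.rho_mul d hdm w hwm, hinv, hrd]
  rw [← hsrho] at hy1 hy4
  have hs4 : s * s * (s * s) ∈ oc z :=
    (M.rho_ker _ (mul_mem (mul_mem hsm hsm) (mul_mem hsm hsm))).1
      (by rw [M.rho_mul _ (mul_mem hsm hsm) _ (mul_mem hsm hsm), M.rho_mul s hsm s hsm]; exact hy4)
  have hodd := odd_orderOf_mul_iso (P.tr_sq h hwtr) (P.tr_pair h hwtr hutr)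
    ((h.iso_d a (Or.inr (Or.inl rfl)) h.hyp.a_ne).conj3 g) hdu
  rw [← hs] at hodd
  apply hy1
  rw [M.rho_ker s hsm]
  obtain ⟨i, hi⟩ := exists_pow_eq_self_of_coprime (x := s) (n := 4)
    ((Nat.coprime_two_left.2 hodd).pow_left 2)
  rw [← hi]
  refine pow_mem ?_ i
  rw [show s ^ 4 = s * s * (s * s) by simp [pow_succ, mul_assoc]]
  exact hs4

end Cfsg.Agent.Fi23Two
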