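import Cfsg.Agent.Fi23Two.Global
import Cfsg.Agent.Fi23Two.Replace
import Cfsg.Agent.Fi23Two.Basic
import Cfsg.Agent.Fi23Two.QuotBase
import Cfsg.Agent.Fi23Two.QuotA
import Cfsg.Agent.Fi23Two.QuotD
import Cfsg.Agent.Fi23Two.QuotModCore
import Cfsg.Agent.Fi22Two.Main
import Cfsg.Agent.Fi23Two.PairFacts
import Cfsg.Agent.Fi23Two.Twist
import Cfsg.Agent.Fi23Two.Count2
import Cfsg.Agent.Fi23Two.PairCheck
import Cfsg.Agent.Fi22Two.TripleFunctional
import Cfsg.Agent.Fi22Two.Conj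

/-!
# The three conclusions for the centraliser `(2² × 2^{1+8}).(3 × PSp₄(3)).2`
-/

set_option autoImplicit false
open Cfsg Subgroup

namespace Cfsg.Agent.Fi23Two

open Cfsg.Agent.LargeExtra Cfsg.Agent.U62Rec Cfsg.Agent.Fi22Two

variable {G : Type*} [Group G] [Finite G] {z a b : G}

/-- Coordinates on `oc z` and on the centraliser of `z` and `a`. -/
theorem mod3 (h : Hyp3 z a b) : ∃ c ∈ outerCfgs, ∃ M : Mod3 ⟨c.1, c.2⟩ z a b,
    ∀ y ∈ cza z a, InnerCode ⟨c.1, c.2⟩ (M.rho y) ↔ Commute y b := by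
  have hu : a = a ∨ a = a * z := Or.inl rfl
  obtain ⟨E, h1, h2, h3, h4, -⟩ := ext_quot h hu
  exact mod3_of h (h.oc_le_cu hu h.z_mem) (h.oc_le_cu hu h.b_mem) rfl rfl (hyp_quot h hu)
    (fixed_quot h) (extra_of (hyp_quot h hu) ⟨E, h1, h2, h3, h4⟩) (mem_oc_zu h hu)

/-- The two possibilities for the centraliser of `a`. -/
theorem types_a (h : Hyp3 z a b) (hd : ∀ x, InW a b x → x ≠ 1 → IsoIn z (x * z))
    {K : Type*} [Field K] [Fintype K] (hK : Fintype.card K = 4) :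
    IsoIn z a ∨ (centralizer ({a} : Set G) ≤ nrm a b ∧ ∃ L : Subgroup G, wsub a b ≤ L ∧
      L ≤ centralizer ({a} : Set G) ∧ (L.subgroupOf (centralizer ({a} : Set G))).index = 2 ∧
      ∃ hn : ((wsub a b).subgroupOf L).Normal,
        Nonempty ((↥L ⧸ (wsub a b).subgroupOf L) ≃* Cfsg.PSU 6 K 2)) := by
  have hu : a = a ∨ a = a * z := Or.inl rfl
  rcases main_fixed (hyp_quot h hu) (ext_quot h hu) (fixed_quot h) hK with
    hdec | ⟨v, hv, hn, G₀, hvG, hidx, hq⟩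
  · exact Or.inl (iso_of_decomp3 h hu hdec)
  rcases hv with rfl | rfl
  · exact Or.inr (h.big_of_b_normal G₀ hn hvG hidx hq)
  · exact Or.inl (h.iso_of_bz_normal hd hn)

/-- One side of a pair gives too few maps. -/
theorem Good3.small (S : Standing3 z a b) {g : G} (P : Good3 z a b g) {c : List ℕ × ℕ}
    (hc : c ∈ outerCfgs) (M : Mod3 ⟨c.1, c.2⟩ z a b)
    (hbr : ∀ y ∈ cza z a, InnerCode ⟨c.1, c.2⟩ (M.rho y) ↔ Commute y b)
    (hu : IsoIn z a ∨ Usable z a b g) :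
    ∃ x y, Tr3 z a g x ∧ Tr3 z a g y ∧ x ≠ y ∧
      Small ⟨c.1, c.2⟩ (M.rho x) (M.rho y) (ulist M g) := by
  have h := S.hyp
  set w := g * z * g⁻¹ with hw
  set d := g * (a * z) * g⁻¹ with hd
  have hwT : Tr3 z a g w := Or.inl rfl
  have hdT : Tr3 z a g d := Or.inr (Or.inl rfl)
  have hdw : d ≠ w := fun e => h.a_ne (mul_eq_right.1 (mul_left_cancel (mul_right_cancel e)))
  have hwm := P.tr_mem S hwT
  have hdm := P.tr_mem S hdT
  have hFun := fun p m hm => functional_zero (c := c) (Or.inl hc) (p := p) (m := m) hm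
  have verdict : ∀ x y, Tr3 z a g x → Tr3 z a g y → x ≠ y → Commute x b →
      Small ⟨c.1, c.2⟩ (M.rho x) (M.rho y) (ulist M g) ∨
        (Commute y b ∧ Twisted ⟨c.1, c.2⟩ (M.rho x) (M.rho y) (ulist M g)) := by
    intro x y hx hy hne hxb
    rcases pair_verdict hc (P.two S M hFun hbr hx hy hne) ((hbr x (P.tr_mem S hx)).2 hxb) with e | ⟨e, e'⟩
    · exact Or.inl e
    · exact Or.inr ⟨(hbr y (P.tr_mem S hy)).1 e, e'⟩
  by_cases hdb : Commute d b
  · rcases verdict d w hdT hwT hdw hdb with e | ⟨-, e⟩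
    · exact ⟨d, w, hdT, hwT, hdw, e⟩
    · exact absurd e (P.not_twisted S M)
  by_cases hwb : Commute w b
  · rcases verdict w d hwT hdT hdw.symm hwb with e | ⟨e, -⟩
    · exact ⟨w, d, hwT, hdT, hdw.symm, e⟩
    · exact absurd e hdb
  rcases hu with hia | hu
  · -- both move `b`, so the third one fixes it
    have ha'T : Tr3 z a g (g * a * g⁻¹) := Or.inr (Or.inr ⟨rfl, hia⟩)
    have hne : g * a * g⁻¹ ≠ w := fun e => h.z_notW
      (Or.inr (Or.inl (mul_left_cancel (mul_right_cancel e)).symm))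
    have hab : Commute (g * a * g⁻¹) b := by
      have e1 := h.moved_b (mem_cz.1 hwm.1)
        (mul_inv_eq_iff_eq_mul.2 (mem_centralizer_singleton_iff.1 hwm.2)) hwb
      have e2 := h.moved_b (mem_cz.1 hdm.1)
        (mul_inv_eq_iff_eq_mul.2 (mem_centralizer_singleton_iff.1 hdm.2)) hdb
      have e : g * a * g⁻¹ = d * w := by
        rw [hd, hw, show g * (a * z) * g⁻¹ * (g * z * g⁻¹) = g * (a * (z * z)) * g⁻¹ by group,
          h.zz, mul_one]
      refine mul_inv_eq_iff_eq_mul.1 ?_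
      rw [e, show d * w * b * (d * w)⁻¹ = d * (w * b * w⁻¹) * d⁻¹ by group, e1,
        show d * (a * b) * d⁻¹ = d * a * d⁻¹ * (d * b * d⁻¹) by group, e2,
        mul_inv_eq_iff_eq_mul.2 (mem_centralizer_singleton_iff.1 hdm.2), ← mul_assoc, h.aa, one_mul]
    rcases verdict _ w ha'T hwT hne hab with e | ⟨e, -⟩
    · exact ⟨_, w, ha'T, hwT, hne, e⟩
    · exact absurd e hwb
  · exact absurd hu (not_or.2 ⟨hwb, hdb⟩)

/-- No pair. -/
theorem no_pair (S : Standing3 z a b) {c : List ℕ × ℕ} (hc : c ∈ outerCfgs)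
    (M : Mod3 ⟨c.1, c.2⟩ z a b)
    (hbr : ∀ y ∈ cza z a, InnerCode ⟨c.1, c.2⟩ (M.rho y) ↔ Commute y b) {g : G}
    (P : Good3 z a b g) : False := by
  obtain ⟨g', P', h1, h2⟩ : ∃ g', Good3 z a b g' ∧ (IsoIn z a ∨ Usable z a b g') ∧
      (IsoIn z a ∨ Usable z a b g'⁻¹) := by
    rcases S.alt with hia | hC
    · exact ⟨g, P, Or.inl hia, Or.inl hia⟩
    · obtain ⟨g', P', u1, u2⟩ := exists_usable S.hyp hC P
      exact ⟨g', P', Or.inr u1, Or.inr u2⟩
  obtain ⟨x, y, hx, hy, -, hs⟩ := P'.small S hc M hbr h1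
  obtain ⟨x', y', hx', hy', -, hs'⟩ := P'.inv.small S hc M hbr h2
  exact P'.count_absurd S M hx hy hs hx' hy' hs'

/-- The fusion of `z` in its centraliser is controlled by the normaliser of the four-group. -/
theorem key (S : Standing3 z a b) {g : G} (hg : Commute (g * z * g⁻¹) z) : g ∈ nrm a b := by
  by_contra hout
  obtain ⟨g', h1, h2, h3, h4⟩ := S.hyp.exists_pair hg hout
  obtain ⟨c, hc, M, hbr⟩ := mod3 S.hyp
  exact no_pair S hc M hbr ⟨h1, h2, h3, h4⟩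

/-- The three conclusions. -/
theorem main (h : Hyp3 z a b) {K : Type*} [Field K] [Fintype K] (hK : Fintype.card K = 4) :
    centralizer ({z} : Set G) ⊔ Cfsg.oddCore G = ⊤ ∨ Cfsg.Spor.IsoFi23 G ∨
      (∃ (W : Subgroup G) (_hW : W.Normal), Nat.card ↥W = 4 ∧ (∀ w ∈ W, w ^ 2 = 1) ∧
        Nonempty ((G ⧸ W) ≃* MulAut (Cfsg.PSU 6 K 2))) := by
  rcases iso_or_fi23 h with hd₀ | hFi
  swap
  · exact Or.inr (Or.inl hFi)
  have hd : ∀ x, InW a b x → x ≠ 1 → IsoIn z (x * z) := by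
    intro x hx hx1
    obtain ⟨k, hk, rfl⟩ := h.exists_move hx hx1
    have e := hd₀.conj k
    have hkz : k * z * k⁻¹ = z := mul_inv_eq_iff_eq_mul.2 (mem_cz.1 hk).eq
    rwa [hkz, show k * (a * z) * k⁻¹ = k * a * k⁻¹ * (k * z * k⁻¹) by group, hkz] at e
  have ht := types_a h hd hK
  have S : Standing3 z a b := ⟨h, hd, fun g hga hgz => by
      rcases ht with hia | ⟨hC, -⟩
      · exact h.stab (mem_cz_of_conj_eq (hia g hga hgz))
      · exact hC (mem_centralizer_singleton_iff.2 hga.eq),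
    ht.imp id And.left⟩
  rcases global_main S (fun g hg => key S hg)
      (by obtain ⟨T, hT⟩ := h.exists_sylow; exact ⟨T, hT.trans inf_le_left⟩) hK ht with e | e
  · exact Or.inl e
  · exact Or.inr (Or.inr e)

end Cfsg.Agent.Fi23Two
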