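import Cfsg.Agent.Fi23Two.PairTools
import Cfsg.Agent.Fi23Two.Basic

/-!
# A commuting pair of conjugates seen from the other side
-/

set_option autoImplicit false
set_option linter.unusedSectionVars false

open Cfsg Subgroup

namespace Cfsg.Agent.Fi23Two

open Cfsg.Agent.LargeExtra Cfsg.Agent.U62Rec Cfsg.Agent.Fi22Two

variable {G : Type*} [Group G] [Finite G] {z a b g : G}

theorem _root_.Cfsg.Agent.Fi22Two.IsoIn.conj3 {u : G} (hiso : IsoIn z u) (g : G) :
    IsoIn (g * z * g⁻¹) (g * u * g⁻¹) := by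
  intro s hs hcz
  have e : s * (g * z * g⁻¹) * s⁻¹ = g * (g⁻¹ * s * g * z * (g⁻¹ * s * g)⁻¹) * g⁻¹ := by group
  rw [e] at hcz ⊢
  rw [hiso _ (commute_back.1 hs) (commute_conj_iff.1 hcz)]

theorem conj_commute {x y : G} : Commute x (g * y * g⁻¹) ↔ Commute (g⁻¹ * x * g) y :=
  commute_back

/-- If an involution is isolated in `C u`, a centraliser of `u` in another `oc` centralises it. -/
theorem fix_le_gen {u w0 : G} (hzz : z * z = 1) (hzu : Commute z u) (hiso : IsoIn z u)
    (hzw : z ∈ centralizer ({w0} : Set G)) :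
    ∀ y ∈ oc w0, Commute y u → Commute y z := by
  intro y hy hyu
  have hzi : z⁻¹ = z := inv_eq_of_mul_eq_one_right hzz
  have hd : z * y * z⁻¹ * y⁻¹ ∈ oc w0 := mul_mem (oc_conj_mem hzw hy) (inv_mem hy)
  obtain ⟨n, hn⟩ := (oc_isPGroup w0) ⟨_, hd⟩
  have hdu : Commute (z * y * z⁻¹ * y⁻¹) u :=
    ((hzu.mul_left hyu).mul_left hzu.inv_left).mul_left hyu.inv_left
  set d := z * y * z⁻¹ * y⁻¹ with hd'
  have hn' : d ^ 2 ^ n = 1 := congrArg Subtype.val hn
  -- an element inverted by `z` and commuting with `u`, of order at most four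
  have hzd : ∀ m : ℕ, z * d ^ m * z⁻¹ = (d ^ m)⁻¹ := by
    intro m
    rw [← inv_pow, ← conj_pow]
    congr 1
    rw [hd']
    simp only [hzi, mul_inv_rev, inv_inv]
    rw [show z * (z * y * z * y⁻¹) * z = z * z * (y * z * y⁻¹ * z) by group, hzz, one_mul]
    group
  have hkill : ∀ k, d ^ 2 ^ k = 1 → d = 1 := by
    intro k
    induction k with
    | zero => intro hk; simpa using hk
    | succ k ih =>
      intro hk
      refine ih ?_
      rcases Nat.eq_zero_or_pos k with rfl | hk0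
      · -- `d` has order at most two: then `y z y⁻¹` commutes with `z`
        have hdd : d * d = 1 := by simpa [pow_succ, sq] using hk
        have e1 : y * z * y⁻¹ = z * d := by
          rw [hd', show z * (z * y * z⁻¹ * y⁻¹) = z * z * (y * z⁻¹ * y⁻¹) by group, hzz, one_mul,
            hzi]
        have e2 : Commute d z := by
          have := hzd 1
          rw [pow_one, inv_eq_of_mul_eq_one_right hdd, mul_inv_eq_iff_eq_mul] at this
          exact this.symm
        have e3 := hiso y hyu (by rw [e1]; exact (Commute.refl z).mul_left e2)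
        rw [e1, mul_eq_left] at e3
        simpa using e3
      · -- an element of order at most four
        set k' := d ^ 2 ^ (k - 1) with hk'
        have hk2 : k' * k' = d ^ 2 ^ k := by
          rw [hk', ← pow_add, ← two_mul, ← pow_succ']
          congr 2
          omega
        have e1 : k' * z * k'⁻¹ = z * (d ^ 2 ^ k)⁻¹ := by
          have e0 : z * k' = k'⁻¹ * z := mul_inv_eq_iff_eq_mul.1 (hzd _)
          have e0' : k' * z = z * k'⁻¹ := by
            calc k' * z = z * (z * k') * z := by rw [← mul_assoc, hzz, one_mul]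
              _ = z * (k'⁻¹ * z) * z := by rw [e0]
              _ = z * k'⁻¹ := by rw [mul_assoc, mul_assoc, hzz, mul_one]
          rw [e0', mul_assoc, ← mul_inv_rev, hk2]
        have e2 : Commute (d ^ 2 ^ k) z := by
          have := hzd (2 ^ k)
          rw [inv_eq_of_mul_eq_one_right (show d ^ 2 ^ k * d ^ 2 ^ k = 1 by
            rw [← pow_add, ← two_mul, ← pow_succ', hk]), mul_inv_eq_iff_eq_mul] at this
          exact this.symm
        have e3 := hiso k' (hdu.pow_left _)
          (by rw [e1]; exact (Commute.refl z).mul_left e2.inv_left)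
        rw [e1, mul_eq_left, inv_eq_one] at e3
        exact e3
  have h1 : d = 1 := hkill n hn'
  rw [hd'] at h1
  exact (mul_inv_eq_iff_eq_mul.1 (mul_inv_eq_one.1 h1)).symm


namespace Good3

variable (h : Standing3 z a b) (P : Good3 z a b g)

include P in
theorem inv : Good3 z a b g⁻¹ := by
  have e : ∀ x : G, g⁻¹ * x * g⁻¹⁻¹ = g⁻¹ * x * g := fun x => by rw [inv_inv]
  refine ⟨?_, fun e' => P.out ?_, ?_, ?_⟩
  · rw [e]; exact conj_commute.1 P.cz.symm
  · simpa using inv_mem e'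
  · rw [e]; exact conj_commute.1 P.za
  · rw [e]; exact (conj_commute.1 P.ca.symm).symm

include h P

theorem conj_a_notMem : g * a * g⁻¹ ∉ oc z ∧ ∀ x, InW a b x → x ≠ 1 → g * x * g⁻¹ ∉ oc z := by
  have key : ∀ g' : G, g' * z * g'⁻¹ = g * z * g⁻¹ → g' ∉ nrm a b → g' * a * g'⁻¹ ∉ oc z :=
    fun g' hw hout hm => hout (h.inJ_conj (Or.inl (Or.inr (Or.inl rfl))) h.hyp.a_ne
      (fun e => h.hyp.z_notW (Or.inr (Or.inl e.symm))) hm (hw ▸ P.cz))
  refine ⟨key g rfl P.out, fun x hx hx1 => ?_⟩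
  rcases hx with rfl | rfl | hx
  · exact absurd rfl hx1
  · exact key g rfl P.out
  · obtain ⟨k, hk, hke⟩ := h.hyp.trans x hx
    have := key (g * k) (by
      rw [show g * k * z * (g * k)⁻¹ = g * (k * z * k⁻¹) * g⁻¹ by group,
        mem_centralizer_singleton_iff.1 hk, mul_inv_cancel_right])
      fun e => P.out ((mul_mem_cancel_right (h.hyp.stab hk)).1 e)
    rwa [show g * k * a * (g * k)⁻¹ = g * (k * a * k⁻¹) * g⁻¹ by group, hke] at this

theorem w_notMem : g * z * g⁻¹ ∉ oc z := fun e => P.out (h.inJ e)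

theorem d_notMem : g * (a * z) * g⁻¹ ∉ oc z := fun hm =>
  P.out (h.inJ_conj (Or.inr (by rw [mul_assoc, h.hyp.zsq, mul_one]; exact Or.inr (Or.inl rfl)))
    (fun e => h.hyp.z_notW (Or.inr (Or.inl (by
      rw [eq_inv_of_mul_eq_one_left e, inv_eq_of_mul_eq_one_right h.hyp.zsq]))))
    (fun e => h.hyp.a_ne (mul_eq_right.1 e)) hm P.cz)

/-- An element of `oc z` centralising `g z g⁻¹` centralises `g a g⁻¹`. -/
theorem commute_conj_a {j : G} (hj : j ∈ oc z) (hjw : Commute j (g * z * g⁻¹)) :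
    Commute j (g * a * g⁻¹) := by
  have hs : g⁻¹ * j * g ∈ centralizer ({z} : Set G) :=
    mem_centralizer_singleton_iff.2 (conj_commute.1 hjw).eq
  have hx : InW a b (g⁻¹ * j * g * a * (g⁻¹ * j * g)⁻¹) :=
    ((h.hyp.stab hs) a).1 (Or.inr (Or.inl rfl))
  set x := g⁻¹ * j * g * a * (g⁻¹ * j * g)⁻¹ * a⁻¹ with hxdef
  have hxW : InW a b x := by
    have hab : a * b * a = b := by rw [mul_assoc, ← h.hyp.ab_comm.eq, ← mul_assoc, h.hyp.aa, one_mul]
    rw [hxdef, inv_eq_of_mul_eq_one_right h.hyp.aa]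
    rcases hx with e | e | e | e <;> rw [e]
    · exact Or.inr (Or.inl (one_mul a))
    · exact Or.inl h.hyp.aa
    · exact Or.inr (Or.inr (Or.inr h.hyp.ab_comm.symm.eq))
    · exact Or.inr (Or.inr (Or.inl hab))
  have hm : g * x * g⁻¹ ∈ oc z := by
    rw [hxdef, show g * (g⁻¹ * j * g * a * (g⁻¹ * j * g)⁻¹ * a⁻¹) * g⁻¹ =
      j * ((g * a * g⁻¹) * j⁻¹ * (g * a * g⁻¹)⁻¹) by group]
    exact mul_mem hj (oc_conj_mem (mem_centralizer_singleton_iff.2 P.za.symm.eq) (inv_mem hj))
  by_cases hx1 : x = 1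
  · rw [hxdef, mul_inv_eq_one] at hx1
    exact conj_commute.2 (mul_inv_eq_iff_eq_mul.1 hx1)
  · exact absurd hm ((P.conj_a_notMem h).2 x hxW hx1)

theorem a_commute : Commute (g * a * g⁻¹) a := (P.commute_conj_a h h.hyp.a_mem P.ca.symm).symm

theorem w_mem : g * z * g⁻¹ ∈ cza z a :=
  ⟨mem_centralizer_singleton_iff.2 P.cz.eq, mem_centralizer_singleton_iff.2 P.ca.eq⟩

theorem a_mem : g * a * g⁻¹ ∈ cza z a :=
  ⟨mem_centralizer_singleton_iff.2 P.za.symm.eq, mem_centralizer_singleton_iff.2 (P.a_commute h).eq⟩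

end Good3

/-- The involutions of the other side entering the check. -/
def Tr3 (z a g x : G) : Prop :=
  x = g * z * g⁻¹ ∨ x = g * (a * z) * g⁻¹ ∨ (x = g * a * g⁻¹ ∧ IsoIn z a)

namespace Good3

variable (h : Standing3 z a b) (P : Good3 z a b g)
include h P

theorem tr_mem {x : G} (hx : Tr3 z a g x) : x ∈ cza z a := by
  rcases hx with rfl | rfl | ⟨rfl, -⟩
  · exact P.w_mem h
  · rw [show g * (a * z) * g⁻¹ = g * a * g⁻¹ * (g * z * g⁻¹) by group]
    exact mul_mem (P.a_mem h) (P.w_mem h)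
  · exact P.a_mem h

theorem tr_notMem {x : G} (hx : Tr3 z a g x) : x ∉ oc z := by
  rcases hx with rfl | rfl | ⟨rfl, -⟩
  exacts [P.w_notMem h, P.d_notMem h, (P.conj_a_notMem h).1]

theorem tr_sq {x : G} (hx : Tr3 z a g x) : x * x = 1 := by
  rcases hx with rfl | rfl | ⟨rfl, -⟩ <;> rw [conjm]
  · rw [h.hyp.zsq]; group
  · rw [h.hyp.za_comm.mul_mul_mul_comm, h.hyp.aa, h.hyp.zsq]; group
  · rw [h.hyp.aa]; group

/-- The three centralisers in `oc z` agree. -/
theorem tr_commute {x j : G} (hx : Tr3 z a g x) (hj : j ∈ oc z) :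
    Commute j x ↔ Commute j (g * z * g⁻¹) := by
  have hzw : ∀ u, IsoIn z u → Commute z u → Commute j (g * u * g⁻¹) → Commute j (g * z * g⁻¹) :=
    fun u hu hzu hju => fix_le_gen (z := g * z * g⁻¹) (u := g * u * g⁻¹) (w0 := z)
      (by rw [conjm, h.hyp.zsq]; group) (commute_conj_iff.2 hzu)
      (hu.conj3 g) (mem_centralizer_singleton_iff.2 P.cz.eq) j hj hju
  rcases hx with rfl | rfl | ⟨rfl, hi⟩
  · exact Iff.rfl
  · refine ⟨hzw _ (h.iso_d a (Or.inr (Or.inl rfl)) h.hyp.a_ne)
      (h.hyp.za_comm.mul_right (Commute.refl z)), fun hjw => ?_⟩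
    rw [show g * (a * z) * g⁻¹ = g * a * g⁻¹ * (g * z * g⁻¹) by group]
    exact (P.commute_conj_a h hj hjw).mul_right hjw
  · exact ⟨hzw _ hi h.hyp.za_comm, P.commute_conj_a h hj⟩

theorem tr_pair {x y : G} (hx : Tr3 z a g x) (hy : Tr3 z a g y) : Commute x y := by
  have hza := h.hyp.za_comm
  have haz : Commute (a * z) z := hza.symm.mul_left (Commute.refl z)
  have haza : Commute (a * z) a := (Commute.refl a).mul_left hza
  rcases hx with rfl | rfl | ⟨rfl, -⟩ <;> rcases hy with rfl | rfl | ⟨rfl, -⟩ <;> rw [commute_conj_iff]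
  exacts [haz.symm, hza, haz, haza, hza.symm, haza.symm]

theorem tr_mul_notMem {x y : G} (hx : Tr3 z a g x) (hy : Tr3 z a g y) (hne : x ≠ y) :
    x * y ∉ oc z := by
  have hza := h.hyp.za_comm.eq
  have e1 : a * z * z = a := by rw [mul_assoc, h.hyp.zsq, mul_one]
  have e2 : z * (a * z) = a := by rw [← mul_assoc, hza, e1]
  have e3 : a * (a * z) = z := by rw [← mul_assoc, h.hyp.aa, one_mul]
  have e4 : a * z * a = z := by rw [mul_assoc, hza, e3]
  rcases hx with rfl | rfl | ⟨rfl, -⟩ <;> rcases hy with rfl | rfl | ⟨rfl, -⟩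
  all_goals first
    | exact absurd rfl hne
    | (rw [conjm]; first
        | (rw [e2]; exact (P.conj_a_notMem h).1)
        | (rw [e1]; exact (P.conj_a_notMem h).1)
        | (rw [e3]; exact P.w_notMem h)
        | (rw [e4]; exact P.w_notMem h)
        | exact P.d_notMem h
        | (rw [hza]; exact P.d_notMem h))

end Good3

end Cfsg.Agent.Fi23Two
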