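import Cfsg.Agent.Fi23Two.PairBase
import Cfsg.Agent.Fi22Two.TripleData
import Cfsg.Agent.U62Rec.Check.NatI
import Cfsg.Agent.U62Rec.Check.NatO

/-!
# The check of commuting pairs: the configurations NatO
-/

set_option autoImplicit false
set_option maxRecDepth 65536
set_option maxHeartbeats 4000000
set_option Elab.async false

namespace Cfsg.Agent.Fi23Two

open Cfsg.Agent.U62Rec Cfsg.Agent.Fi22Two

theorem natO_qOK : QOK ⟨NatO.gens, NatO.lin⟩ := by
  show (NatO.gens.all fun g => (List.range 256).all fun v =>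
    qv NatO.lin (app g v) == qv NatO.lin v) = true
  decide +kernel

theorem natO_none : noCand2 NatO.lin (triNatC0 NatO.ct0) = true := by decide +kernel

theorem natO_check : check2 NatO.lin (triNatC1 NatO.ct2) NatI.ct1 NatI.ct0.ts
    (triNatC0 NatO.ct0).c = true := by
  decide +kernel

/-- The verdict in the configuration NatO. -/
theorem natO_pair {p x : ℕ} {U : List ℕ} (T : Two ⟨NatO.gens, NatO.lin⟩ p x U)
    (hp : InnerCode ⟨NatO.gens, NatO.lin⟩ p) :
    Small ⟨NatO.gens, NatO.lin⟩ p x U ∨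
      (InnerCode ⟨NatO.gens, NatO.lin⟩ x ∧ Twisted ⟨NatO.gens, NatO.lin⟩ p x U) := by
  refine pair_of_classes natO_qOK (gI := NatI.gens) (ginvI := NatI.ginv) (by decide +kernel)
    (by decide +kernel) (outOK_tab NatI.out0) (outOK_tab NatI.out1)
    (dataOK_of_outOK (D := (triNatC0 NatO.ct0)) NatO.out0 rfl (by decide +kernel))
    (dataOK_of_outOK (D := (triNatC1 NatO.ct2)) NatO.out2 rfl (by decide +kernel))
    natO_none (by decide +kernel) natO_check (fun m a b d => ?_) T hp
  obtain ⟨o, ho, h, hh, e⟩ := NatI.facts.cls m a b d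
  simp only [List.mem_cons, List.not_mem_nil, or_false] at ho
  rcases ho with rfl | rfl
  · exact ⟨_, Or.inl rfl, h, hh, e⟩
  · exact ⟨_, Or.inr rfl, h, hh, e⟩

end Cfsg.Agent.Fi23Two
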