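import Cfsg.Agent.Fi23Two.QuotBase
import Cfsg.Agent.Fi22Two.Types
import Cfsg.Agent.Fi22Two.Conj

/-!
# Coordinates for `oc z` from the quotient by `a`
-/

set_option autoImplicit false
set_option linter.unusedSectionVars false

open Cfsg Subgroup
open scoped commutatorElement

namespace Cfsg.Agent.Fi23Two

open Cfsg.Agent.LargeExtra Cfsg.Agent.U62Rec
open Cfsg.Agent.Fi22Two (IsoIn cza Na Qa mem_zpowers_two InnerCode Mod2 inner)

variable {G : Type*} [Group G] [Finite G] {z a b : G}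

section

variable (h : Hyp3 z a b)
include h

theorem eu : a = a ∨ a = a * z := Or.inl rfl

/-- The sufficient facts for the quotient. -/
theorem extra_quot_a : Fi22Two.Extra (zu h (eu h)) (bu h (eu h)) := by
  obtain ⟨E, h1, h2, h3, h4, -⟩ := ext_quot h (eu h)
  exact ⟨⟨E, h1, h2, h3, h4⟩, fun _ hg hj => Fi22Two.mem_oc_of_act (hyp_quot h (eu h)) hg hj,
    fun g e => Fi22Two.not_conj (hyp_quot h (eu h)).other (isConj_iff.2 ⟨g, e⟩)⟩

theorem meet_quot {q : Qa a} (hq : q ∈ centralizer ({zu h (eu h)} : Set (Qa a))) :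
    q ∈ centralizer ({zu h (eu h)} : Set (Qa a)) ⊓ centralizer ({bu h (eu h)} : Set (Qa a)) :=
  Subgroup.mem_inf.2 ⟨hq, mem_centralizer_singleton_iff.2 (fixed_quot h q hq).eq⟩

theorem comm_b_iff {g : G} (hgz : g ∈ centralizer ({z} : Set G)) (hga : Commute g a) :
    g * b * g⁻¹ = b ∨ g * b * g⁻¹ = a * b := by
  have hW := h.permW hgz (Or.inr (Or.inr (Or.inl rfl)) : InW a b b)
  rcases InW.ne_one_cases hW (fun e => h.b_ne (conj_eq_one_iff.1 e)) with e | e | e
  · exfalso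
    have e1 := mul_inv_eq_iff_eq_mul.1 e
    rw [← hga.eq] at e1
    exact h.ab_ne (mul_left_cancel e1).symm
  exacts [Or.inl e, Or.inr e]

/-- The inner part upstairs. -/
theorem inner_quot_iff {g : G} (hg : g ∈ cza z a) :
    (QuotientGroup.mk ⟨g, cza_le_cu h (eu h) hg⟩ : Qa a) ∈ inner (zu h (eu h)) ↔ Commute g b := by
  classical
  set P : Subgroup ↥(cza z a) := (centralizer ({b} : Set G)).subgroupOf (cza z a) with hPdef
  have hP : ∀ y : ↥(cza z a), y ∈ P ↔ Commute (y : G) b := fun y => by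
    rw [hPdef, mem_subgroupOf, mem_centralizer_singleton_iff]; exact Iff.rfl
  have hcas : ∀ y : ↥(cza z a),
      (y : G) * b * (y : G)⁻¹ = b ∨ (y : G) * b * (y : G)⁻¹ = a * b := fun y =>
    comm_b_iff h y.2.1 (mem_centralizer_singleton_iff.1 y.2.2)
  have hcom : commutator ↥(cza z a) ≤ P := by
    rw [_root_.commutator_def, commutator_le]
    intro x _ y _
    rw [hP, commutatorElement_def]
    refine mul_inv_eq_iff_eq_mul.1 ?_
    have hinv : ∀ k u w : G, k * u * k⁻¹ = w → k⁻¹ * w * k⁻¹⁻¹ = u :=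
      fun k u w e1 => by rw [← e1]; group
    have hab2 : ∀ y : ↥(cza z a), (y : G) * b * (y : G)⁻¹ = a * b →
        (y : G) * (a * b) * (y : G)⁻¹ = b := fun y e1 => by
      rw [show (y : G) * (a * b) * (y : G)⁻¹ = (y : G) * a * (y : G)⁻¹ * ((y : G) * b * (y : G)⁻¹) by
        group, e1, (mem_centralizer_singleton_iff.1 y.2.2 : (y : G) * a = a * (y : G)),
        mul_inv_cancel_right, ← mul_assoc, h.aa, one_mul]
    have hab1 : ∀ y : ↥(cza z a), (y : G) * b * (y : G)⁻¹ = b →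
        (y : G) * (a * b) * (y : G)⁻¹ = a * b := fun y e1 => by
      rw [show (y : G) * (a * b) * (y : G)⁻¹ = (y : G) * a * (y : G)⁻¹ * ((y : G) * b * (y : G)⁻¹) by
        group, e1, (mem_centralizer_singleton_iff.1 y.2.2 : (y : G) * a = a * (y : G)),
        mul_inv_cancel_right]
    simp only [coe_mul, coe_inv]
    rw [show (x : G) * y * (x : G)⁻¹ * (y : G)⁻¹ * b * ((x : G) * y * (x : G)⁻¹ * (y : G)⁻¹)⁻¹ =
      (x : G) * ((y : G) * ((x : G)⁻¹ * ((y : G)⁻¹ * b * (y : G)⁻¹⁻¹) * (x : G)⁻¹⁻¹) * (y : G)⁻¹) *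
        (x : G)⁻¹ by group]
    rcases hcas y with y1 | y1 <;> rcases hcas x with x1 | x1
    · rw [hinv _ _ _ y1, hinv _ _ _ x1, y1, x1]
    · rw [hinv _ _ _ y1, hinv _ _ _ (hab2 x x1), hab1 y y1, hab2 x x1]
    · rw [hinv _ _ _ (hab2 y y1), hinv _ _ _ (hab1 x x1), hab2 y y1, x1]
    · rw [hinv _ _ _ (hab2 y y1), hinv _ _ _ x1, y1, hab2 x x1]
  have hJP : pCore 2 ↥(cza z a) ≤ P := by
    intro y hy
    rw [pCore_cza h, mem_subgroupOf] at hy
    rw [hP]
    exact (((h.centre b h.b_mem).2 (Or.inl (Or.inr (Or.inr (Or.inl rfl))))) _ hy).symm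
  have hforward : ∀ {g : G} (hg : g ∈ cza z a),
      (QuotientGroup.mk ⟨g, cza_le_cu h (eu h) hg⟩ : Qa a) ∈ inner (zu h (eu h)) → Commute g b := by
    intro g hg hi
    have h1 : toCu h (eu h) ⟨g, hg⟩ ∈ commutator ↥(centralizer ({zu h (eu h)} : Set (Qa a))) ⊔
        pCore 2 ↥(centralizer ({zu h (eu h)} : Set (Qa a))) := by
      rw [← Fi22Two.inner_subgroupOf, mem_subgroupOf]
      exact hi
    have h2 : commutator ↥(centralizer ({zu h (eu h)} : Set (Qa a))) ⊔
        pCore 2 ↥(centralizer ({zu h (eu h)} : Set (Qa a))) ≤ P.map (toCu h (eu h)) := by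
      refine sup_le ?_ ?_
      · rw [_root_.commutator_def, ← map_top_of_surjective _ (toCu_surj h (eu h)), ← map_commutator]
        exact map_mono hcom
      · rw [← map_pCore_toCu h (eu h)]
        exact map_mono hJP
    obtain ⟨p, hp, e⟩ := h2 h1
    have e' : (QuotientGroup.mk ⟨(p : G), cza_le_cu h (eu h) p.2⟩ : Qa a) =
        QuotientGroup.mk ⟨g, cza_le_cu h (eu h) hg⟩ := congrArg Subtype.val e
    have hpb := (hP p).1 hp
    rcases (mk_eq_iff3 h (eu h) _ _).1 e' with e1 | e1 <;> change g = _ at e1 <;> rw [e1]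
    · exact hpb
    · exact hpb.mul_left h.comm_ab
  refine ⟨hforward hg, fun hgb => ?_⟩
  by_contra hn
  obtain ⟨s, hsz, hsa, hsb⟩ := h.swap
  have hs : s ∈ cza z a := Subgroup.mem_inf.2 ⟨hsz, mem_centralizer_singleton_iff.2 hsa.eq⟩
  have hsb' : ¬ Commute s b := fun hc => h.a_ne (mul_eq_right.1
    (hsb.symm.trans (by rw [hc.eq, mul_inv_cancel_right])))
  have hns : (QuotientGroup.mk ⟨s, cza_le_cu h (eu h) hs⟩ : Qa a) ∉ inner (zu h (eu h)) :=
    fun hi => hsb' (hforward hs hi)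
  have h3 := ((hyp_quot h (eu h)).mul_mem_inner_iff ((mk_mem_cent3 h (eu h) _).2 hs.1)
    ((mk_mem_cent3 h (eu h) ⟨g, cza_le_cu h (eu h) hg⟩).2 hg.1)).2 (iff_of_false hns hn)
  have h4 := hforward (mul_mem hs hg) h3
  refine hsb' ?_
  have := h4.mul_left hgb.inv_left
  rwa [mul_inv_cancel_right] at this

/-- Coordinates. -/
theorem mod3 : ∃ c ∈ outerCfgs, ∃ M : Mod3 ⟨c.1, c.2⟩ z a b,
    ∀ y ∈ cza z a, InnerCode ⟨c.1, c.2⟩ (M.rho y) ↔ Commute y b := by
  classical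
  obtain ⟨c, hc, ⟨M⟩⟩ := Fi22Two.mod2_fixed (hyp_quot h (eu h)) (extra_quot_a h) (fixed_quot h)
  refine ⟨c, hc, ?_⟩
  have hQ := hyp_quot h (eu h)
  let mk : ∀ g : G, g ∈ centralizer ({a} : Set G) → Qa a := fun g hg => QuotientGroup.mk ⟨g, hg⟩
  let bar : G → ℕ := fun g => if hg : g ∈ centralizer ({a} : Set G) then M.bar (mk g hg) else 0
  let rho : G → ℕ := fun g => if hg : g ∈ centralizer ({a} : Set G) then M.rho (mk g hg) else idm
  have hbar : ∀ {g : G} (hg : g ∈ centralizer ({a} : Set G)), bar g = M.bar (mk g hg) :=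
    fun hg => dif_pos hg
  have hrho : ∀ {g : G} (hg : g ∈ centralizer ({a} : Set G)), rho g = M.rho (mk g hg) :=
    fun hg => dif_pos hg
  have hJ : ∀ {g : G} (hg : g ∈ oc z), mk g (h.oc_le_cu (eu h) hg) ∈ oc (zu h (eu h)) :=
    fun hg => (mem_oc_zu h (eu h) _).2 hg
  have hC : ∀ {g : G} (hg : g ∈ cza z a), mk g (cza_le_cu h (eu h) hg) ∈
      centralizer ({zu h (eu h)} : Set (Qa a)) ⊓ centralizer ({bu h (eu h)} : Set (Qa a)) :=
    fun hg => meet_quot h ((mk_mem_cent3 h (eu h) _).2 hg.1)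
  have hpick : ∀ (g : G) (hg : g ∈ centralizer ({a} : Set G)), (g = 1 ∨ g = z) →
      ∀ t : Bool, mk g hg = (if t then zu h (eu h) else 1) → g = if t then z else 1 := by
    intro g hg hg2 t e
    cases t
    · simp only [Bool.false_eq_true, if_false] at e ⊢
      rw [QuotientGroup.eq_one_iff, mem_subgroupOf, mem_zpowers_two h.aa] at e
      rcases e with e | e
      · exact e
      · exact hg2.resolve_right fun e' => h.z_notW (Or.inr (Or.inl (e'.symm.trans e)))
    · simp only [if_true] at e ⊢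
      refine hg2.resolve_left fun e' => ?_
      exact hQ.z_ne_one (e.symm.trans ((QuotientGroup.eq_one_iff _).2
        (mem_subgroupOf.2 (e' ▸ one_mem _))))
  let M3 : Mod3 ⟨c.1, c.2⟩ z a b := ⟨bar, rho, ?_, ?_, ?_, ?_, ?_, ?_, ?_, ?_, ?_, ?_, ?_, ?_⟩
  · refine ⟨M3, fun y hy => ?_⟩
    show InnerCode ⟨c.1, c.2⟩ (rho y) ↔ _
    rw [hrho (cza_le_cu h (eu h) hy),
      Fi22Two.innerCode_iff hc hQ (fixed_quot h) M ((mk_mem_cent3 h (eu h) _).2 hy.1)]
    exact inner_quot_iff h hy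
  · intro g
    simp only [bar]; split
    · exact M.bar_lt _
    · norm_num
  · intro g hg k hk
    rw [hbar (h.oc_le_cu (eu h) hg), hbar (h.oc_le_cu (eu h) hk),
      hbar (h.oc_le_cu (eu h) (mul_mem hg hk))]
    exact M.bar_mul _ (hJ hg) _ (hJ hk)
  · intro g hg
    rw [hbar (h.oc_le_cu (eu h) hg), M.bar_eq _ (hJ hg)]
    constructor
    · intro e
      refine (h.centre g hg).1 fun j hj => ?_
      have h1 := (hQ.central_of_cases e).2 _ (hJ hj)
      rw [Commute, SemiconjBy, ← QuotientGroup.mk_mul, ← QuotientGroup.mk_mul,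
        mk_eq_iff3 h (eu h)] at h1
      simp only [coe_mul] at h1
      rcases h1 with h1 | h1
      · exact h1.symm
      · rcases h.comm j hj g hg with e2 | e2
        · exact (mul_inv_eq_iff_eq_mul.1 (mul_inv_eq_one.1 e2)).symm
        · exfalso
          refine h.z_notW (Or.inr (Or.inl ?_))
          rw [← e2, h1, mul_assoc (g * j) a, (((Hyp3.InW.mem h
            (Or.inr (Or.inl rfl) : InW a b a)).2.1) j⁻¹ (inv_mem hj)).eq, ← mul_assoc,
            mul_inv_cancel_right, mul_assoc g a, (((Hyp3.InW.mem h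
            (Or.inr (Or.inl rfl) : InW a b a)).2.1) g⁻¹ (inv_mem hg)).eq, mul_inv_cancel_left]
    · intro e
      exact bu_mk_eq h (eu h) _ e
  · intro v hv
    obtain ⟨q, hq, hqv⟩ := M.bar_surj v hv
    obtain ⟨⟨g, hg⟩, rfl⟩ := QuotientGroup.mk_surjective q
    exact ⟨g, (mem_oc_zu h (eu h) _).1 hq, (hbar hg).trans hqv⟩
  · intro g hg
    rw [hbar (h.oc_le_cu (eu h) hg)]
    exact hpick _ (h.oc_le_cu (eu h) (mul_mem hg hg)) (h.sq g hg) _ (M.sq _ (hJ hg))
  · intro g hg k hk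
    rw [hbar (h.oc_le_cu (eu h) hg), hbar (h.oc_le_cu (eu h) hk)]
    exact hpick _ (h.oc_le_cu (eu h) (mul_mem (mul_mem (mul_mem hg hk) (inv_mem hg)) (inv_mem hk)))
      (h.comm g hg k hk) _ (M.comm _ (hJ hg) _ (hJ hk))
  · intro g
    simp only [rho]; split
    · exact M.rho_code _
    · exact isCode_idm
  · intro g hg k hk
    rw [hrho hg.2, hrho hk.2, hrho (mul_mem hg hk).2]
    exact M.rho_mul _ (hC hg) _ (hC hk)
  · intro g hg k hk
    rw [hrho hg.2, hbar (h.oc_le_cu (eu h) hk), hbar (h.oc_le_cu (eu h) (oc_conj_mem hg.1 hk))]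
    exact M.rho_act _ (hC hg) _ (hJ hk)
  · intro g hg
    rw [hrho hg.2, M.rho_ker _ (hC hg), mem_oc_zu h (eu h)]
  · intro g hg
    rw [hrho hg.2]
    exact M.rho_gen _ (hC hg)
  · intro m hm
    obtain ⟨q, hq, hqm⟩ := M.rho_surj m hm
    obtain ⟨⟨g, hg⟩, rfl⟩ := QuotientGroup.mk_surjective q
    exact ⟨g, Subgroup.mem_inf.2 ⟨(mk_mem_cent3 h (eu h) _).1 hq.1, hg⟩, (hrho hg).trans hqm⟩

end

end Cfsg.Agent.Fi23Two
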